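/-
A symmetric space of odd characteristic: Siegel elements, planes and frames.
-/
import Cfsg.Agent.Lib.Classical.TensorMax.Form.Elements
import Cfsg.Agent.Lib.Small.QuadBasis

set_option autoImplicit false
set_option linter.unusedSectionVars false

namespace Cfsg.Agent.Classical.TensorMax.OO

open Matrix Module Cfsg.Geo
open Cfsg.Agent.Classical

variable {ι : Type} [Fintype ι] [DecidableEq ι] {F : Type*} [Field F] {f : (ι → F) → (ι → F) → F}

local notation:max g:max " •ᵥ " x:max => ((g : GL ι F) : Matrix ι ι F) *ᵥ x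

/-- The Siegel element with centre `o` and parameter `w`. -/
def Sg (f : (ι → F) → (ι → F) → F) (o w : ι → F) (t : GL ι F) : Prop :=
  ∀ x, t •ᵥ x = x + f x o • w - (2⁻¹ * f w w * f x o + f x w) • o

/-- The group generated by the Siegel elements. -/
def SGen (f : (ι → F) → (ι → F) → F) : Subgroup (GL ι F) :=
  Subgroup.closure {t | ∃ o w, f o o = 0 ∧ f w o = 0 ∧ Sg f o w t}

/-- A totally singular plane. -/
structure Pl (f : (ι → F) → (ι → F) → F) (u v : ι → F) : Prop where
  uu : f u u = 0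
  uv : f u v = 0
  vv : f v v = 0
  indep : ∀ r s : F, r • u + s • v = 0 → r = 0 ∧ s = 0

/-- Two hyperbolic pairs. -/
structure Frame (f : (ι → F) → (ι → F) → F) (u v u' v' : ι → F) : Prop where
  pl : Pl f u v
  u'u : f u' u = 1
  u'v : f u' v = 0
  v'u : f v' u = 0
  v'v : f v' v = 1
  u'u' : f u' u' = 0
  u'v' : f u' v' = 0
  v'v' : f v' v' = 0

/-- The orthogonal of a frame. -/
def Off (f : (ι → F) → (ι → F) → F) (u v u' v' w : ι → F) : Prop :=
  f w u = 0 ∧ f w v = 0 ∧ f w u' = 0 ∧ f w v' = 0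

variable (H : IsReflexForm (RingEquiv.refl F) 1 f)

include H

theorem symm' (u v : ι → F) : f v u = f u v := by
  have h := H.swap u v
  rwa [one_mul, RingEquiv.refl_apply] at h

theorem ladd (u v w : ι → F) : f (u + v) w = f u w + f v w := H.semi.add_left u v w

theorem radd (u v w : ι → F) : f u (v + w) = f u v + f u w := H.semi.add_right u v w

theorem lsmul (c : F) (u v : ι → F) : f (c • u) v = c * f u v := H.semi.smul_left c u v

theorem rsmul (c : F) (u v : ι → F) : f u (c • v) = c * f u v := by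
  rw [H.semi.smul_right]; rfl

theorem lneg (u v : ι → F) : f (-u) v = -f u v := H.neg_left u v

theorem rneg (u v : ι → F) : f u (-v) = -f u v := by rw [symm' H, lneg H, symm' H]

theorem lsub (u v w : ι → F) : f (u - v) w = f u w - f v w := by
  rw [sub_eq_add_neg, ladd H, lneg H, sub_eq_add_neg]

theorem rsub (u v w : ι → F) : f u (v - w) = f u v - f u w := by
  rw [sub_eq_add_neg, radd H, rneg H, sub_eq_add_neg]

theorem lzero (v : ι → F) : f 0 v = 0 := H.zero_left v

theorem rzero (v : ι → F) : f v 0 = 0 := H.zero_right v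

theorem exists_nonorth {v : ι → F} (hv : v ≠ 0) : ∃ x, f x v ≠ 0 := (H.nondeg v hv).1

theorem ext_left {u v : ι → F} (h : ∀ x, f u x = f v x) : u = v := by
  by_contra hne
  obtain ⟨x, hx⟩ := (H.nondeg _ (sub_ne_zero.mpr hne)).2
  exact hx (by rw [lsub H, h, sub_self])

/-- A vector outside a subspace is separated from it. -/
theorem exists_dual {S : Submodule F (ι → F)} {u : ι → F} (hu : u ∉ S) : ∃ x ∈ H.perp S, f x u = 1 := by
  obtain ⟨x, hx, hxu⟩ : ∃ x ∈ H.perp S, f x u ≠ 0 := by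
    by_contra hcon
    push Not at hcon
    refine hu (H.perp_perp S ▸ ?_)
    intro x hx
    exact H.eq_zero_swap (hcon x hx)
  exact ⟨(f x u)⁻¹ • x, Submodule.smul_mem _ _ hx, by rw [lsmul H, inv_mul_cancel₀ hxu]⟩

/-- A subspace of dimension at least three has a singular vector. -/
theorem exists_sing [Fintype F] (h2 : (2 : F) ≠ 0) {W : Submodule F (ι → F)} (h3 : 3 ≤ finrank F W) :
    ∃ x ∈ W, x ≠ 0 ∧ f x x = 0 := by
  let B : LinearMap.BilinMap F (ι → F) F :=
    LinearMap.mk₂ F f (fun a b c => ladd H a b c) (fun c a b => lsmul H c a b) (fun a b c => radd H a b c)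
      (fun c a b => rsmul H c a b)
  obtain ⟨x, hx, hx0, hQ⟩ := Cfsg.Agent.Small.QuadBasis.exists_singular (Q := B.toQuadraticMap) h3
  exact ⟨x, hx, hx0, hQ⟩

theorem sg_iso (h2 : (2 : F) ≠ 0) {o w : ι → F} (ho : f o o = 0) (hw : f w o = 0) {t : GL ι F} (ht : Sg f o w t)
    (x y : ι → F) : f (t •ᵥ x) (t •ᵥ y) = f x y := by
  rw [ht, ht]
  simp only [ladd H, radd H, lsub H, rsub H, lsmul H, rsmul H, ho, hw, symm' H w o ▸ hw, symm' H y w, symm' H y o]
  field_simp
  ring

theorem exists_sg' (h2 : (2 : F) ≠ 0) {o w : ι → F} (ho : f o o = 0) (hw : f w o = 0) :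
    ∃ t : GL ι F, Sg f o w t ∧ t ∈ SGen f := by
  rcases isEmpty_or_nonempty ι with h0 | h0
  · exact ⟨1, fun x => funext fun i => isEmptyElim i, one_mem _⟩
  obtain ⟨t, -, -, ht⟩ := Radical.exists_UF H (v := o) (y := w) (c := -(2⁻¹ * f w w)) ho hw (by
    rw [RingEquiv.refl_apply]; field_simp; ring)
  have hS : Sg f o w t := fun x => by
    rw [ht, map_one]
    module
  exact ⟨t, hS, Subgroup.subset_closure ⟨o, w, ho, hw, hS⟩⟩

theorem sg_fix {o w : ι → F} (ho : f o o = 0) (hw : f w o = 0) {t : GL ι F} (ht : Sg f o w t) :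
    t •ᵥ o = o := by
  rw [ht, ho, symm' H w o, hw]
  simp

theorem sgen_iso (h2 : (2 : F) ≠ 0) {t : GL ι F} (ht : t ∈ SGen f) :
    ∀ x y, f (t •ᵥ x) (t •ᵥ y) = f x y := by
  induction ht using Subgroup.closure_induction with
  | mem t ht =>
    obtain ⟨o, w, ho, hw, ht⟩ := ht
    exact sg_iso H h2 ho hw ht
  | one => intro x y; rw [Units.val_one, Matrix.one_mulVec, Matrix.one_mulVec]
  | mul a b _ _ ha hb => intro x y; rw [gl_mul_mulVec, gl_mul_mulVec, ha, hb]
  | inv a _ ha => intro x y; rw [← ha, gl_mulVec_inv_cancel, gl_mulVec_inv_cancel]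

/-- The image of a Siegel element under a similitude. -/
theorem sg_conj {g : GL ι F} {ν : F} (hν : ν ≠ 0) (hg : ∀ x y, f (g •ᵥ x) (g •ᵥ y) = ν * f x y) {o w : ι → F}
    {t : GL ι F} (ht : Sg f o w t) : Sg f (g •ᵥ o) (ν⁻¹ • g •ᵥ w) (g * t * g⁻¹) := fun x => by
  obtain ⟨z, rfl⟩ : ∃ z, x = g •ᵥ z := ⟨_, (gl_mulVec_inv_cancel g x).symm⟩
  rw [gl_mul_mulVec, gl_mul_mulVec, gl_inv_mulVec_cancel, ht]
  simp only [Matrix.mulVec_sub, Matrix.mulVec_add, Matrix.mulVec_smul, lsmul H, rsmul H, hg]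
  match_scalars <;> field_simp

theorem sgen_conj (h2 : (2 : F) ≠ 0) {g : GL ι F} {ν : F} (hν : ν ≠ 0)
    (hg : ∀ x y, f (g •ᵥ x) (g •ᵥ y) = ν * f x y) {t : GL ι F} (ht : t ∈ SGen f) : g * t * g⁻¹ ∈ SGen f := by
  induction ht using Subgroup.closure_induction with
  | mem t ht =>
    obtain ⟨o, w, ho, hw, ht⟩ := ht
    exact Subgroup.subset_closure ⟨g •ᵥ o, ν⁻¹ • g •ᵥ w, by rw [hg, ho, mul_zero],
      by rw [lsmul H, hg, hw, mul_zero, mul_zero], sg_conj H hν hg ht⟩
  | one => simp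
  | mul a b _ _ ha hb =>
    rw [show g * (a * b) * g⁻¹ = g * a * g⁻¹ * (g * b * g⁻¹) by group]
    exact mul_mem ha hb
  | inv a _ ha =>
    rw [show g * a⁻¹ * g⁻¹ = (g * a * g⁻¹)⁻¹ by group]
    exact inv_mem ha

theorem Pl.swap {u v : ι → F} (P : Pl f u v) : Pl f v u :=
  ⟨P.vv, by rw [symm' H]; exact P.uv, P.uu, fun r s h => (P.indep s r (by rw [add_comm]; exact h)).symm⟩

theorem Frame.swap {u v u' v' : ι → F} (P : Frame f u v u' v') : Frame f v u v' u' :=
  ⟨P.pl.swap H, P.v'v, P.v'u, P.u'v, P.u'u, P.v'v', by rw [symm' H]; exact P.u'v', P.u'u'⟩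

/-- Every totally singular plane extends to a frame. -/
theorem exists_frame (h2 : (2 : F) ≠ 0) {u v : ι → F} (P : Pl f u v) : ∃ u' v', Frame f u v u' v' := by
  have hu : u ∉ Submodule.span F ({v} : Set (ι → F)) := fun h => by
    obtain ⟨r, hr⟩ := Submodule.mem_span_singleton.mp h
    exact one_ne_zero (P.indep 1 (-r) (by rw [one_smul, neg_smul, hr, add_neg_cancel])).1
  have hv : v ∉ Submodule.span F ({u} : Set (ι → F)) := fun h => by
    obtain ⟨r, hr⟩ := Submodule.mem_span_singleton.mp h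
    exact one_ne_zero (P.indep (-r) 1 (by rw [one_smul, neg_smul, hr, neg_add_cancel])).2
  obtain ⟨x, hx, hxu⟩ := exists_dual H hu
  obtain ⟨y, hy, hyv⟩ := exists_dual H hv
  have hxv : f x v = 0 := hx v (Submodule.mem_span_singleton_self v)
  have hyu : f y u = 0 := hy u (Submodule.mem_span_singleton_self u)
  have huv : f v u = 0 := (P.swap H).uv
  obtain ⟨a, ha⟩ : ∃ a, a = x - (2⁻¹ * f x x) • u := ⟨_, rfl⟩
  have hau : f a u = 1 := by rw [ha, lsub H, lsmul H, hxu, P.uu]; ring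
  have hav : f a v = 0 := by rw [ha, lsub H, lsmul H, hxv, P.uv]; ring
  have haa : f a a = 0 := by
    rw [ha, lsub H, rsub H, rsub H, lsmul H, lsmul H, rsmul H, rsmul H, hxu, P.uu, symm' H x u, hxu]
    field_simp
    ring
  obtain ⟨b, hb⟩ : ∃ b, b = y - f y a • u := ⟨_, rfl⟩
  have hbu : f b u = 0 := by rw [hb, lsub H, lsmul H, hyu, P.uu]; ring
  have hbv : f b v = 1 := by rw [hb, lsub H, lsmul H, hyv, P.uv]; ring
  have hba : f b a = 0 := by rw [hb, lsub H, lsmul H, symm' H a u, hau, mul_one, sub_self]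
  refine ⟨a, b - (2⁻¹ * f b b) • v, P, hau, hav, ?_, ?_, haa, ?_, ?_⟩
  · rw [lsub H, lsmul H, hbu, huv]; ring
  · rw [lsub H, lsmul H, hbv, P.vv]; ring
  · rw [rsub H, rsmul H, symm' H b a, hba, hav]; ring
  · rw [lsub H, rsub H, rsub H, lsmul H, lsmul H, rsmul H, rsmul H, hbv, symm' H b v, hbv, P.vv]
    field_simp
    ring

/-- The component orthogonal to a frame. -/
theorem Frame.split {u v u' v' : ι → F} (P : Frame f u v u' v') (x : ι → F) :
    Off f u v u' v' (x - f x u' • u - f x v' • v - f x u • u' - f x v • v') := by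
  have a1 := symm' H u' u ▸ P.u'u
  have a2 := symm' H u' v ▸ P.u'v
  have a3 := symm' H v' u ▸ P.v'u
  have a4 := symm' H v' v ▸ P.v'v
  have a5 := symm' H u' v' ▸ P.u'v'
  have a6 := (P.pl.swap H).uv
  refine ⟨?_, ?_, ?_, ?_⟩ <;>
    simp only [lsub H, lsmul H, P.pl.uu, P.pl.uv, P.pl.vv, P.u'u, P.u'v, P.v'u, P.v'v, P.u'u', P.u'v', P.v'v', a1,
      a2, a3, a4, a5, a6] <;> ring

/-- Vectors orthogonal to a frame and to its orthogonal vanish. -/
theorem Frame.off_eq_zero {u v u' v' : ι → F} (P : Frame f u v u' v') {z : ι → F} (hz : Off f u v u' v' z)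
    (h : ∀ w, Off f u v u' v' w → f z w = 0) : z = 0 := by
  obtain ⟨z1, z2, z3, z4⟩ := hz
  refine ext_left H fun x => ?_
  rw [lzero H]
  have := h _ (P.split H x)
  simp only [rsub H, rsmul H, z1, z2, z3, z4, mul_zero, sub_zero] at this
  exact this

/-- The orthogonal of a frame contains an anisotropic vector. -/
theorem Frame.exists_aniso (h2 : (2 : F) ≠ 0) (h5 : 5 ≤ Fintype.card ι) {u v u' v' : ι → F}
    (P : Frame f u v u' v') : ∃ w, Off f u v u' v' w ∧ f w w ≠ 0 := by
  classical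
  obtain ⟨z, hz, hz0⟩ := Submodule.exists_mem_ne_zero_of_ne_bot
    (p := H.perp (Submodule.span F (({u, v, u', v'} : Finset (ι → F)) : Set (ι → F)))) fun e => by
      have h1 := H.finrank_perp (Submodule.span F (({u, v, u', v'} : Finset (ι → F)) : Set (ι → F)))
      have h3 := finrank_span_finset_le_card (R := F) ({u, v, u', v'} : Finset (ι → F))
      have h4 : ({u, v, u', v'} : Finset (ι → F)).card ≤ 4 := by
        refine (Finset.card_insert_le _ _).trans ?_
        refine Nat.succ_le_succ ((Finset.card_insert_le _ _).trans ?_)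
        exact Nat.succ_le_succ ((Finset.card_insert_le _ _).trans (by simp))
      rw [e, finrank_bot] at h1
      simp only [Set.finrank] at h3
      omega
  have hzo : Off f u v u' v' z := by
    refine ⟨?_, ?_, ?_, ?_⟩ <;> exact hz _ (Submodule.subset_span (by simp))
  obtain ⟨w, hw, hzw⟩ : ∃ w, Off f u v u' v' w ∧ f z w ≠ 0 := by
    by_contra hcon
    push Not at hcon
    exact hz0 (P.off_eq_zero H hzo hcon)
  by_contra hcon
  push Not at hcon
  obtain ⟨z1, z2, z3, z4⟩ := hzo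
  obtain ⟨w1, w2, w3, w4⟩ := hw
  have h := hcon (z + w) ⟨by rw [ladd H, z1, w1, add_zero], by rw [ladd H, z2, w2, add_zero],
    by rw [ladd H, z3, w3, add_zero], by rw [ladd H, z4, w4, add_zero]⟩
  rw [ladd H, radd H, radd H, hcon z ⟨z1, z2, z3, z4⟩, hcon w ⟨w1, w2, w3, w4⟩, symm' H z w, zero_add, add_zero,
    ← two_mul] at h
  exact hzw ((mul_eq_zero.mp h).resolve_left h2)

end Cfsg.Agent.Classical.TensorMax.OO
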