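/-
Operators on a symmetric space that commute, up to scalars, with Siegel elements; invariant families of operators.
-/
import Cfsg.Agent.Lib.Classical.TensorMax.OO.Space

set_option autoImplicit false
set_option linter.unusedSectionVars false

namespace Cfsg.Agent.Classical.TensorMax.OO

open Matrix Module Cfsg.Geo
open Cfsg.Agent.Classical

variable {ι : Type} [Fintype ι] [DecidableEq ι] {F : Type*} [Field F] {f : (ι → F) → (ι → F) → F}

local notation:max g:max " •ᵥ " x:max => ((g : GL ι F) : Matrix ι ι F) *ᵥ x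

variable (H : IsReflexForm (RingEquiv.refl F) 1 f) (h2 : (2 : F) ≠ 0)

include H

theorem exists_pair {e : ι → F} (he : e ≠ 0) (hee : f e e = 0) (h2 : (2 : F) ≠ 0) :
    ∃ e', f e' e = 1 ∧ f e' e' = 0 := by
  obtain ⟨x, hx⟩ := exists_nonorth H he
  obtain ⟨y, hy⟩ : ∃ y, y = (f x e)⁻¹ • x := ⟨_, rfl⟩
  have hye : f y e = 1 := by rw [hy, lsmul H, inv_mul_cancel₀ hx]
  refine ⟨y - (2⁻¹ * f y y) • e, by rw [lsub H, lsmul H, hye, hee]; ring, ?_⟩
  rw [lsub H, rsub H, rsub H, lsmul H, lsmul H, rsmul H, rsmul H, hye, hee, symm' H y e, hye]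
  field_simp
  ring

/-- The orthogonal of a singular vector has an anisotropic vector. -/
theorem exists_aniso_perp (h2 : (2 : F) ≠ 0) (h3 : 3 ≤ Fintype.card ι) {e : ι → F} (he : e ≠ 0) :
    ∃ w, f w e = 0 ∧ f w w ≠ 0 := by
  by_contra hcon
  push Not at hcon
  have hz : ∀ u v, f u e = 0 → f v e = 0 → f u v = 0 := fun u v hu hv => by
    have h := hcon (u + v) (by rw [ladd H, hu, hv, add_zero])
    rw [ladd H, radd H, radd H, hcon u hu, hcon v hv, symm' H u v, zero_add, add_zero, ← two_mul] at h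
    exact (mul_eq_zero.mp h).resolve_left h2
  have hle : H.perp (Submodule.span F {e}) ≤ H.perp (H.perp (Submodule.span F {e})) := fun u hu v hv =>
    hz u v (hu e (Submodule.mem_span_singleton_self e)) (hv e (Submodule.mem_span_singleton_self e))
  rw [H.perp_perp] at hle
  have h1 := Submodule.finrank_mono hle
  have h4 := H.finrank_perp (Submodule.span F {e})
  rw [finrank_span_singleton he] at h1 h4
  omega

/-- An operator commuting up to scalars with the Siegel elements of one centre. -/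
theorem comm_eqs [Fintype F] (h2 : (2 : F) ≠ 0) (h3 : 3 ≤ Fintype.card ι)
    (hex : (∃ t : F, t ≠ 0 ∧ t ^ 2 ≠ 1) ∨ 4 ≤ Fintype.card ι) {e : ι → F} (he : e ≠ 0) (hee : f e e = 0)
    (M : Matrix ι ι F)
    (hM : ∀ w σ, f w e = 0 → Sg f e w σ → ∃ l : F, ∀ x, M *ᵥ (σ •ᵥ x) = σ •ᵥ (M *ᵥ x) + l • σ •ᵥ x) :
    ∃ α : F, M *ᵥ e = α • e ∧ (∀ x, f x e = 0 → f (M *ᵥ x) e = 0) ∧
      (∀ x w, f x e = 0 → f w e = 0 → f (M *ᵥ x) w = α * f x w) ∧
      (∀ z, f z e = 1 → f (M *ᵥ z) e = α) ∧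
      (∀ z w, f z e = 1 → f w e = 0 → f (M *ᵥ w) z + f (M *ᵥ z) w = 2 * α * f z w) := by
  obtain ⟨y, hy⟩ : ∃ y, y = M *ᵥ e := ⟨_, rfl⟩
  obtain ⟨w₁, hw₁, hww₁⟩ := exists_aniso_perp H h2 h3 he
  -- the image of the centre
  have key : ∀ w, f w e = 0 → ∀ σ, Sg f e w σ → ∀ x, M *ᵥ (σ •ᵥ x) = σ •ᵥ (M *ᵥ x) + f y w • σ •ᵥ x := by
    have hye : f y e = 0 := by
      obtain ⟨σ, hσ, -⟩ := exists_sg' H h2 hee hw₁
      obtain ⟨l, hl⟩ := hM w₁ σ hw₁ hσ
      have h := congrArg (fun v => f v w₁) (hl e)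
      simp only [sg_fix H hee hw₁ hσ, ← hy, hσ y, ladd H, lsub H, lsmul H, symm' H w₁ e, hw₁] at h
      exact (mul_eq_zero.mp (by linear_combination -h : f y e * f w₁ w₁ = 0)).resolve_right hww₁
    intro w hw σ hσ
    obtain ⟨l, hl⟩ := hM w σ hw hσ
    have h := hl e
    rw [sg_fix H hee hw hσ, ← hy, hσ y, hye] at h
    have h' : (l - f y w) • e = 0 := by
      rw [sub_smul]
      have : y = y + (l - f y w) • e := by
        conv_lhs => rw [h]
        module
      rw [sub_smul] at this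
      exact (add_eq_left.mp this.symm)
    rw [← sub_eq_zero.mp ((smul_eq_zero.mp h').resolve_right he)]
    exact hl
  have hye : f y e = 0 := by
    obtain ⟨σ, hσ, -⟩ := exists_sg' H h2 hee hw₁
    have h := congrArg (fun v => f v w₁) (key w₁ hw₁ σ hσ e)
    simp only [sg_fix H hee hw₁ hσ, ← hy, hσ y, ladd H, lsub H, lsmul H, symm' H w₁ e, hw₁] at h
    exact (mul_eq_zero.mp (by linear_combination -h : f y e * f w₁ w₁ = 0)).resolve_right hww₁
  have star : ∀ x w x', f x e = 0 → f w e = 0 → f x' e = 0 →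
      -(f x w * f y x') = f (M *ᵥ x) e * f w x' + f y w * f x x' := by
    intro x w x' hx hw hx'
    obtain ⟨σ, hσ, -⟩ := exists_sg' H h2 hee hw
    have h := congrArg (fun v => f v x') (key w hw σ hσ x)
    simp only [hσ x, hσ (M *ᵥ x), hx, mul_zero, zero_add, zero_smul, add_zero, Matrix.mulVec_sub, Matrix.mulVec_smul,
      ← hy, ladd H, lsub H, lsmul H, symm' H x' e, hx'] at h
    linear_combination h
  have hyw : ∀ w, f w e = 0 → f w w ≠ 0 → f y w = 0 := by
    intro w hw hww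
    rcases hex with ⟨t₀, ht0, ht1⟩ | h4
    · obtain ⟨e', he'⟩ : ∃ e', e' ∈ H.perp (Submodule.span F {w}) ∧ f e' e = 1 := exists_dual H fun hmem => by
        obtain ⟨r, hr⟩ := Submodule.mem_span_singleton.mp hmem
        have hr0 : r ≠ 0 := fun h0 => he (by rw [← hr, h0, zero_smul])
        rw [← hr, rsmul H] at hw
        exact hww ((mul_eq_zero.mp hw).resolve_left hr0)
      obtain ⟨he'w, he'e⟩ := he'
      replace he'w : f e' w = 0 := he'w w (Submodule.mem_span_singleton_self w)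
      have hp : ∀ t : F, t * (f (M *ᵥ w) e' + f (M *ᵥ e') w - f y w * f e' e') +
          t ^ 2 * (2⁻¹ * f w w * (f (M *ᵥ e') e - f y e') - f (M *ᵥ e') e * 0) +
          t ^ 3 * (2⁻¹ * f w w * f y w) = 0 := fun t => by
        have htw : f (t • w) e = 0 := by rw [lsmul H, hw, mul_zero]
        obtain ⟨σ, hσ, -⟩ := exists_sg' H h2 hee htw
        have h := congrArg (fun v => f v e') (key (t • w) htw σ hσ e')
        simp only [hσ e', hσ (M *ᵥ e'), he'e, one_smul, Matrix.mulVec_sub, Matrix.mulVec_add, Matrix.mulVec_smul,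
          ← hy, ladd H, lsub H, lsmul H, rsmul H, he'w, symm' H e' e, symm' H e' w] at h
        linear_combination h
      have ha := hp 1
      have hb := hp (-1)
      have hc := hp t₀
      have hd := hp (-t₀)
      have e3 : (t₀ ^ 2 - 1) * t₀ * (f w w * f y w) = 0 := by
        have h4 : (2 : F) * 2⁻¹ = 1 := mul_inv_cancel₀ h2
        linear_combination hc - hd - t₀ * (ha - hb) - (t₀ ^ 2 - 1) * t₀ * (f w w * f y w) * h4
      rcases mul_eq_zero.mp e3 with h | h
      · exact absurd h (mul_ne_zero (sub_ne_zero.mpr ht1) ht0)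
      · exact (mul_eq_zero.mp h).resolve_left hww
    · obtain ⟨w₂, hw₂e, hw₂w, hw₂⟩ : ∃ w₂, f w₂ e = 0 ∧ f w₂ w = 0 ∧ f w₂ w₂ ≠ 0 := by
        classical
        by_contra hcon
        push Not at hcon
        obtain ⟨S, hS⟩ : ∃ S, S = Submodule.span F (({e, w} : Finset (ι → F)) : Set (ι → F)) := ⟨_, rfl⟩
        have hse : e ∈ S := hS ▸ Submodule.subset_span (by simp)
        have hsw : w ∈ S := hS ▸ Submodule.subset_span (by simp)
        have hle : H.perp S ≤ H.perp (H.perp S) := fun u hu v hv => by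
          have h := hcon (u + v) (by rw [ladd H, hu e hse, hv e hse, add_zero])
            (by rw [ladd H, hu w hsw, hv w hsw, add_zero])
          rw [ladd H, radd H, radd H, hcon u (hu e hse) (hu w hsw), hcon v (hv e hse) (hv w hsw), symm' H u v,
            zero_add, add_zero, ← two_mul] at h
          exact (mul_eq_zero.mp h).resolve_left h2
        rw [H.perp_perp] at hle
        have h1 := Submodule.finrank_mono hle
        have hp := H.finrank_perp S
        have h5 : finrank F S ≤ 2 := hS ▸ (finrank_span_finset_le_card _).trans Finset.card_le_two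
        have heq : H.perp S = S := Submodule.eq_of_le_of_finrank_le hle (by omega)
        have : w ∈ H.perp S := by rw [heq]; exact hsw
        exact hww (this w hsw)
      have h := star w₂ w₂ w hw₂e hw₂e hw
      rw [hw₂w, mul_zero, mul_zero, zero_add] at h
      exact (mul_eq_zero.mp (neg_eq_zero.mp h)).resolve_left hw₂
  have hy0 : ∀ w, f w e = 0 → f y w = 0 := fun w hw => by
    by_cases hww : f w w = 0
    · have hpm : f (w + w₁) (w + w₁) ≠ 0 ∨ f (w - w₁) (w - w₁) ≠ 0 := by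
        by_contra hcon
        push Not at hcon
        obtain ⟨c1, c2⟩ := hcon
        simp only [ladd H, radd H, lsub H, rsub H, hww, symm' H w w₁] at c1 c2
        exact hww₁ ((mul_eq_zero.mp (by linear_combination c1 + c2 : (2 : F) * f w₁ w₁ = 0)).resolve_left h2)
      have a0 := hyw w₁ hw₁ hww₁
      rcases hpm with h | h
      · have := hyw _ (by rw [ladd H, hw, hw₁, add_zero]) h
        rwa [radd H, a0, add_zero] at this
      · have := hyw _ (by rw [lsub H, hw, hw₁, sub_zero]) h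
        rwa [rsub H, a0, sub_zero] at this
    · exact hyw w hw hww
  obtain ⟨α, hα⟩ : ∃ α : F, y = α • e := by
    have : y ∈ H.perp (H.perp (Submodule.span F {e})) := fun w hw =>
      hy0 w (hw e (Submodule.mem_span_singleton_self e))
    rw [H.perp_perp] at this
    obtain ⟨r, hr⟩ := Submodule.mem_span_singleton.mp this
    exact ⟨r, hr.symm⟩
  have hb : ∀ x, f x e = 0 → f (M *ᵥ x) e = 0 := fun x hx => by
    have h := star x w₁ w₁ hx hw₁ hw₁
    rw [hyw w₁ hw₁ hww₁, mul_zero, zero_mul, add_zero, neg_zero] at h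
    exact (mul_eq_zero.mp h.symm).resolve_right hww₁
  have hc : ∀ x w, f x e = 0 → f w e = 0 → f (M *ᵥ x) w = α * f x w := fun x w hx hw => by
    obtain ⟨σ, hσ, -⟩ := exists_sg' H h2 hee hw
    obtain ⟨z, hz⟩ := exists_nonorth H he
    have h := congrArg (fun v => f v z) (key w hw σ hσ x)
    simp only [hσ x, hσ (M *ᵥ x), hx, hb x hx, hy0 w hw, mul_zero, zero_add, zero_smul, add_zero, Matrix.mulVec_sub,
      Matrix.mulVec_smul, ← hy, hα, smul_smul, ladd H, lsub H, lsmul H] at h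
    have hez : f e z ≠ 0 := fun h0 => hz (by rw [symm' H, h0])
    rw [show f e w = 0 by rw [symm' H w e, hw]] at h
    exact mul_right_cancel₀ hez (by linear_combination h)
  have main : ∀ z w, f z e = 1 → f w e = 0 → ∀ x', f (M *ᵥ w) x' - (2⁻¹ * f w w + f z w) * α * f e x' =
      f (M *ᵥ z) e * f w x' - (2⁻¹ * f w w * f (M *ᵥ z) e + f (M *ᵥ z) w) * f e x' := fun z w hz hw x' => by
    obtain ⟨σ, hσ, -⟩ := exists_sg' H h2 hee hw
    have h := congrArg (fun v => f v x') (key w hw σ hσ z)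
    have few : f e w = 0 := by rw [symm' H w e, hw]
    simp only [hσ z, hσ (M *ᵥ z), hz, hy0 w hw, one_smul, mul_one, zero_smul, add_zero, Matrix.mulVec_sub,
      Matrix.mulVec_add, Matrix.mulVec_smul, ← hy, hα, smul_smul, ladd H, lsub H, lsmul H, few, mul_zero] at h
    linear_combination h
  have hd : ∀ z, f z e = 1 → f (M *ᵥ z) e = α := fun z hz => by
    have h := main z w₁ hz hw₁ w₁
    rw [hc w₁ w₁ hw₁ hw₁, symm' H w₁ e, hw₁, mul_zero, mul_zero, sub_zero, sub_zero] at h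
    exact (mul_right_cancel₀ hww₁ h).symm
  refine ⟨α, by rw [← hy, hα], hb, hc, hd, fun z w hz hw => ?_⟩
  have h := main z w hz hw z
  rw [hd z hz, symm' H z e, hz, symm' H z w] at h
  linear_combination h

/-- An operator commuting up to scalars with every Siegel element is scalar. -/
theorem scalar_of_comm [Fintype F] (h2 : (2 : F) ≠ 0) (h3 : 3 ≤ Fintype.card ι)
    (hex : (∃ t : F, t ≠ 0 ∧ t ^ 2 ≠ 1) ∨ 4 ≤ Fintype.card ι) (M : Matrix ι ι F)
    (hM : ∀ e w σ, f e e = 0 → f w e = 0 → Sg f e w σ →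
      ∃ l : F, ∀ x, M *ᵥ (σ •ᵥ x) = σ •ᵥ (M *ᵥ x) + l • σ •ᵥ x) :
    ∃ α : F, ∀ x, M *ᵥ x = α • x := by
  obtain ⟨e, -, he, hee⟩ := exists_sing H h2 (W := (⊤ : Submodule F (ι → F)))
    (by rw [finrank_top, finrank_fintype_fun_eq_card]; exact h3)
  obtain ⟨e', he'e, he'⟩ := exists_pair H he hee h2
  have he'0 : e' ≠ 0 := fun h => one_ne_zero (by rw [← he'e, h, lzero H])
  have hee' : f e e' = 1 := by rw [symm' H, he'e]
  obtain ⟨α, hA, hB, hC, hD, -⟩ := comm_eqs H h2 h3 hex he hee M fun w σ hw hσ => hM e w σ hee hw hσ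
  obtain ⟨α', hA', hB', -, hD', -⟩ := comm_eqs H h2 h3 hex he'0 he' M fun w σ hw hσ => hM e' w σ he' hw hσ
  have hαα : α = α' := by
    rw [← hD' e hee', hA, lsmul H, hee', mul_one]
  refine ⟨α, fun x => ?_⟩
  obtain ⟨x₀, hx₀⟩ : ∃ x₀, x₀ = x - f x e' • e - f x e • e' := ⟨_, rfl⟩
  have x0e : f x₀ e = 0 := by rw [hx₀, lsub H, lsub H, lsmul H, lsmul H, hee, he'e]; ring
  have x0e' : f x₀ e' = 0 := by rw [hx₀, lsub H, lsub H, lsmul H, lsmul H, hee', he']; ring
  have hx00 : M *ᵥ x₀ = α • x₀ := ext_left H fun y => by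
    obtain ⟨y₀, hy₀⟩ : ∃ y₀, y₀ = y - f y e' • e - f y e • e' := ⟨_, rfl⟩
    have y0e : f y₀ e = 0 := by rw [hy₀, lsub H, lsub H, lsmul H, lsmul H, hee, he'e]; ring
    rw [show y = y₀ + f y e' • e + f y e • e' by rw [hy₀]; abel]
    rw [radd H, radd H, radd H, radd H, rsmul H, rsmul H, rsmul H, rsmul H, hC x₀ y₀ x0e y0e, hB x₀ x0e,
      hB' x₀ x0e', lsmul H, lsmul H, lsmul H, x0e, x0e']
    ring
  conv_lhs => rw [show x = x₀ + f x e' • e + f x e • e' by rw [hx₀]; abel]
  rw [Matrix.mulVec_add, Matrix.mulVec_add, Matrix.mulVec_smul, Matrix.mulVec_smul, hA, hA', hx00, ← hαα, hx₀]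
  module

/-- The skew operator of a pair. -/
noncomputable def dy (v u : ι → F) : Matrix ι ι F :=
  LinearMap.toMatrix' (({ toFun := fun x => f x v, map_add' := fun a b => ladd H a b v
                          map_smul' := fun c a => lsmul H c a v } : (ι → F) →ₗ[F] F).smulRight u -
    ({ toFun := fun x => f x u, map_add' := fun a b => ladd H a b u
       map_smul' := fun c a => lsmul H c a u } : (ι → F) →ₗ[F] F).smulRight v)

theorem dy_apply (v u x : ι → F) : dy H v u *ᵥ x = f x v • u - f x u • v := by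
  rw [dy, ← Matrix.toLin'_apply, Matrix.toLin'_toMatrix']
  rfl

theorem dy_add (v v' u : ι → F) : dy H (v + v') u = dy H v u + dy H v' u := by
  refine Matrix.ext_of_mulVec_single fun i => ?_
  rw [Matrix.add_mulVec, dy_apply, dy_apply, dy_apply, radd H]
  module

theorem dy_smul (c : F) (v u : ι → F) : dy H (c • v) u = c • dy H v u := by
  refine Matrix.ext_of_mulVec_single fun i => ?_
  rw [Matrix.smul_mulVec, dy_apply, dy_apply, rsmul H]
  module

theorem dy_swap (v u : ι → F) : dy H u v = -dy H v u := by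
  refine Matrix.ext_of_mulVec_single fun i => ?_
  rw [Matrix.neg_mulVec, dy_apply, dy_apply]
  module

theorem dy_self (v : ι → F) : dy H v v = 0 := by
  refine Matrix.ext_of_mulVec_single fun i => ?_
  rw [Matrix.zero_mulVec, dy_apply, sub_self]

theorem dy_add_right (v u u' : ι → F) : dy H v (u + u') = dy H v u + dy H v u' := by
  rw [dy_swap, dy_add, dy_swap H v u, dy_swap H v u']; abel

theorem dy_smul_right (c : F) (v u : ι → F) : dy H v (c • u) = c • dy H v u := by
  rw [dy_swap, dy_smul, dy_swap H v u, smul_neg, neg_neg]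

theorem dy_conj {g : GL ι F} (hg : ∀ x y, f (g •ᵥ x) (g •ᵥ y) = f x y) (v u : ι → F) :
    (g : Matrix ι ι F) * dy H v u * ((g⁻¹ : GL ι F) : Matrix ι ι F) = dy H (g •ᵥ v) (g •ᵥ u) := by
  refine Matrix.ext_of_mulVec_single fun i => ?_
  obtain ⟨z, hz⟩ : ∃ z, Pi.single i (1 : F) = g •ᵥ z := ⟨_, (gl_mulVec_inv_cancel g _).symm⟩
  rw [← Matrix.mulVec_mulVec, ← Matrix.mulVec_mulVec, hz, gl_inv_mulVec_cancel, dy_apply, dy_apply,
    Matrix.mulVec_sub, Matrix.mulVec_smul, Matrix.mulVec_smul, hg, hg]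

/-- Siegel elements of one centre commute. -/
theorem sg_comm (h2 : (2 : F) ≠ 0) {o w w' : ι → F} (ho : f o o = 0) (hw : f w o = 0) (hw' : f w' o = 0)
    {s t : GL ι F} (hs : Sg f o w s) (ht : Sg f o w' t) : s * t = t * s := by
  refine gl_ext_mulVec fun x => ?_
  rw [gl_mul_mulVec, gl_mul_mulVec, ht, hs, hs, ht]
  simp only [ladd H, lsub H, lsmul H, ho, hw, hw', symm' H w w', symm' H o w ▸ hw, symm' H w o, symm' H w' o]
  module

theorem sg_cube (h2 : (2 : F) ≠ 0) {o w : ι → F} (ho : f o o = 0) (hw : f w o = 0) {s : GL ι F}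
    (hs : Sg f o w s) : ((s : Matrix ι ι F) - 1) ^ 3 = 0 := by
  refine Matrix.ext_of_mulVec_single fun i => ?_
  have hN : ∀ x, ((s : Matrix ι ι F) - 1) *ᵥ x = f x o • w - (2⁻¹ * f w w * f x o + f x w) • o := fun x => by
    rw [Matrix.sub_mulVec, Matrix.one_mulVec, hs]; abel
  rw [pow_succ, pow_succ, pow_one, ← Matrix.mulVec_mulVec, ← Matrix.mulVec_mulVec, hN, hN, hN]
  simp only [ladd H, lsub H, lsmul H, lneg H, ho, hw, symm' H w o, mul_zero, zero_smul, sub_zero, neg_zero,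
    zero_sub, add_zero, Matrix.zero_mulVec]

/-- A family stable under conjugation has a member fixed modulo the small family by the Siegel elements of a
centre. -/
theorem exists_fixed [Fintype F] (h2 : (2 : F) ≠ 0) (J Z : AddSubgroup (Matrix ι ι F))
    (hJ : ∀ σ ∈ SGen f, ∀ P ∈ J, (σ : Matrix ι ι F) * P * ((σ⁻¹ : GL ι F) : Matrix ι ι F) ∈ J)
    (hZ : ∀ σ ∈ SGen f, ∀ P ∈ Z, (σ : Matrix ι ι F) * P * ((σ⁻¹ : GL ι F) : Matrix ι ι F) = P)
    {e : ι → F} (hee : f e e = 0) {P : Matrix ι ι F} (hP : P ∈ J) (hPZ : P ∉ Z) :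
    ∃ Q ∈ J, Q ∉ Z ∧ ∀ w σ, f w e = 0 → Sg f e w σ →
      (σ : Matrix ι ι F) * Q * ((σ⁻¹ : GL ι F) : Matrix ι ι F) - Q ∈ Z := by
  classical
  haveI : Fintype (GL ι F) := Fintype.ofFinite _
  suffices key : ∀ S : Finset (GL ι F), (∀ s ∈ S, ∃ w, f w e = 0 ∧ Sg f e w s) →
      ∃ Q ∈ J, Q ∉ Z ∧ ∀ s ∈ S, (s : Matrix ι ι F) * Q * ((s⁻¹ : GL ι F) : Matrix ι ι F) - Q ∈ Z by
    obtain ⟨Q, hQJ, hQZ, hQ⟩ := key (Finset.univ.filter fun s => ∃ w, f w e = 0 ∧ Sg f e w s)
      fun s hs => (Finset.mem_filter.mp hs).2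
    exact ⟨Q, hQJ, hQZ, fun w σ hw hσ => hQ σ (Finset.mem_filter.mpr ⟨Finset.mem_univ _, w, hw, hσ⟩)⟩
  intro S
  induction S using Finset.induction_on with
  | empty => exact fun _ => ⟨P, hP, hPZ, fun s hs => absurd hs (Finset.notMem_empty s)⟩
  | insert s S hsS ih =>
    intro hS
    obtain ⟨Q, hQJ, hQZ, hQ⟩ := ih fun t ht => hS t (Finset.mem_insert_of_mem ht)
    obtain ⟨w, hw, hs⟩ := hS s (Finset.mem_insert_self _ _)
    have hsG : s ∈ SGen f := Subgroup.subset_closure ⟨e, w, hee, hw, hs⟩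
    obtain ⟨N, hN⟩ : ∃ N, N = (s : Matrix ι ι F) - 1 := ⟨_, rfl⟩
    obtain ⟨N', hN'⟩ : ∃ N', N' = ((s⁻¹ : GL ι F) : Matrix ι ι F) - 1 := ⟨_, rfl⟩
    have hn : IsNilpotent N := ⟨3, hN ▸ sg_cube H h2 hee hw hs⟩
    have hn' : IsNilpotent N' := by
      have e1 : N' = -(((s⁻¹ : GL ι F) : Matrix ι ι F) * N) := by
        rw [hN', hN, mul_sub, ← Units.val_mul, inv_mul_cancel, Units.val_one, mul_one, neg_sub]
      rw [e1]
      refine IsNilpotent.neg (Commute.isNilpotent_mul_left ?_ hn)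
      rw [hN, commute_iff_eq, mul_sub, sub_mul, ← Units.val_mul, ← Units.val_mul, inv_mul_cancel, mul_inv_cancel,
        mul_one, one_mul]
    let L : Module.End F (Matrix ι ι F) :=
      LinearMap.mulLeft F (s : Matrix ι ι F) * LinearMap.mulRight F ((s⁻¹ : GL ι F) : Matrix ι ι F) - 1
    have hL : ∀ R, L R = (s : Matrix ι ι F) * R * ((s⁻¹ : GL ι F) : Matrix ι ι F) - R := fun R => by
      simp [L, mul_assoc]
    have hnil : IsNilpotent L := by
      have e1 : L = LinearMap.mulLeft F N * LinearMap.mulRight F ((s⁻¹ : GL ι F) : Matrix ι ι F) +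
          LinearMap.mulRight F N' := by
        refine LinearMap.ext fun R => ?_
        simp only [hL, LinearMap.add_apply, Module.End.mul_apply, LinearMap.mulLeft_apply, LinearMap.mulRight_apply,
          hN, hN', sub_mul, mul_sub, mul_one, one_mul]
        rw [← mul_assoc]
        abel
      have hc : ∀ A B : Matrix ι ι F, Commute (LinearMap.mulLeft F A) (LinearMap.mulRight F B) :=
        fun A B => LinearMap.commute_mulLeft_right A B
      have n1 : IsNilpotent (LinearMap.mulLeft F N) := (LinearMap.isNilpotent_mulLeft_iff (R := F) N).mpr hn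
      have n2 : IsNilpotent (LinearMap.mulRight F N') := (LinearMap.isNilpotent_mulRight_iff (R := F) N').mpr hn'
      rw [e1]
      refine Commute.isNilpotent_add ?_ (Commute.isNilpotent_mul_right (hc _ _) n1) n2
      refine Commute.mul_left (hc _ _) ?_
      rw [commute_iff_eq, Module.End.mul_eq_comp, Module.End.mul_eq_comp, ← LinearMap.mulRight_mul,
        ← LinearMap.mulRight_mul, hN', mul_sub, sub_mul, mul_one, one_mul]
    obtain ⟨k, hk⟩ := hnil
    have hex' : ∃ j, (L ^ j) Q ∈ Z := ⟨k, by rw [hk]; exact zero_mem Z⟩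
    obtain ⟨j, hj, hjmin⟩ : ∃ j, (L ^ j) Q ∈ Z ∧ ∀ i < j, (L ^ i) Q ∉ Z :=
      ⟨_, Nat.find_spec hex', fun i hi => Nat.find_min hex' hi⟩
    obtain ⟨i, rfl⟩ : ∃ i, j = i + 1 := by
      rcases j with _ | i
      · exact absurd (by simpa using hj) hQZ
      · exact ⟨i, rfl⟩
    have hinv : ∀ m, (L ^ m) Q ∈ J ∧ ∀ t ∈ S,
        (t : Matrix ι ι F) * (L ^ m) Q * ((t⁻¹ : GL ι F) : Matrix ι ι F) - (L ^ m) Q ∈ Z := by
      intro m
      induction m with
      | zero => exact ⟨by simpa using hQJ, fun t ht => by simpa using hQ t ht⟩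
      | succ m ihm =>
        have e1 : (L ^ (m + 1)) Q = L ((L ^ m) Q) := by rw [pow_succ', Module.End.mul_apply]
        refine ⟨by rw [e1, hL]; exact sub_mem (hJ s hsG _ ihm.1) ihm.1, fun t ht => ?_⟩
        obtain ⟨w', hw', ht'⟩ := hS t (Finset.mem_insert_of_mem ht)
        have hcom : t * s = s * t := sg_comm H h2 hee hw' hw ht' hs
        have hcom' : t⁻¹ * s⁻¹ = s⁻¹ * t⁻¹ := by rw [← _root_.mul_inv_rev, ← hcom, _root_.mul_inv_rev]
        have key : (t : Matrix ι ι F) * L ((L ^ m) Q) * ((t⁻¹ : GL ι F) : Matrix ι ι F) - L ((L ^ m) Q) =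
            L ((t : Matrix ι ι F) * (L ^ m) Q * ((t⁻¹ : GL ι F) : Matrix ι ι F) - (L ^ m) Q) := by
          generalize (L ^ m) Q = R
          rw [hL, hL]
          simp only [mul_sub, sub_mul, ← mul_assoc]
          have e2 : ((s⁻¹ : GL ι F) : Matrix ι ι F) * ((t⁻¹ : GL ι F) : Matrix ι ι F) =
              ((t⁻¹ : GL ι F) : Matrix ι ι F) * ((s⁻¹ : GL ι F) : Matrix ι ι F) := by
            rw [← Units.val_mul, ← Units.val_mul, hcom']
          rw [← Units.val_mul, hcom, Units.val_mul, mul_assoc _ ((s⁻¹ : GL ι F) : Matrix ι ι F), e2]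
          simp only [← mul_assoc]
          abel
        rw [e1, key, hL, hZ s hsG _ (ihm.2 t ht), sub_self]
        exact zero_mem Z
    refine ⟨(L ^ i) Q, (hinv i).1, hjmin i (Nat.lt_succ_self i), fun t ht => ?_⟩
    rcases Finset.mem_insert.mp ht with h | h
    · rw [h, ← hL, ← Module.End.mul_apply, ← pow_succ']
      exact hj
    · exact (hinv i).2 t h

end Cfsg.Agent.Classical.TensorMax.OO
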