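/-
Invariant families of self-adjoint and of skew operators.
-/
import Cfsg.Agent.Lib.Classical.TensorMax.OO.Algebra

set_option autoImplicit false
set_option linter.unusedSectionVars false

namespace Cfsg.Agent.Classical.TensorMax.OO

open Matrix Module Cfsg.Geo
open Cfsg.Agent.Classical

variable {ι : Type} [Fintype ι] [DecidableEq ι] {F : Type*} [Field F] [Fintype F] {f : (ι → F) → (ι → F) → F}

local notation:max g:max " •ᵥ " x:max => ((g : GL ι F) : Matrix ι ι F) *ᵥ x

variable (H : IsReflexForm (RingEquiv.refl F) 1 f)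

include H

/-- A commuting family of self-adjoint operators stable under the Siegel elements consists of scalars. -/
theorem comm_family (h2 : (2 : F) ≠ 0) (h3 : 3 ≤ Fintype.card ι)
    (hex : (∃ t : F, t ≠ 0 ∧ t ^ 2 ≠ 1) ∨ 4 ≤ Fintype.card ι) (J : AddSubgroup (Matrix ι ι F))
    (hJ : ∀ σ ∈ SGen f, ∀ P ∈ J, (σ : Matrix ι ι F) * P * ((σ⁻¹ : GL ι F) : Matrix ι ι F) ∈ J)
    (hsa : ∀ P ∈ J, ∀ x y, f (P *ᵥ x) y = f x (P *ᵥ y)) (hc : ∀ P ∈ J, ∀ Q ∈ J, P * Q = Q * P)
    {P : Matrix ι ι F} (hP : P ∈ J) : ∃ c : F, P = c • 1 := by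
  classical
  by_contra hno
  let Z : AddSubgroup (Matrix ι ι F) :=
    { carrier := {Q | ∃ c : F, Q = c • 1}
      zero_mem' := ⟨0, by simp⟩
      add_mem' := by rintro _ _ ⟨a, rfl⟩ ⟨b, rfl⟩; exact ⟨a + b, by rw [add_smul]⟩
      neg_mem' := by rintro _ ⟨a, rfl⟩; exact ⟨-a, by rw [neg_smul]⟩ }
  obtain ⟨e, -, he, hee⟩ := exists_sing H h2 (W := (⊤ : Submodule F (ι → F)))
    (by rw [finrank_top, finrank_fintype_fun_eq_card]; exact h3)
  obtain ⟨M, hMJ, hMZ, hM⟩ := exists_fixed H h2 J Z hJ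
    (by rintro σ - _ ⟨c, rfl⟩; rw [mul_smul_comm, mul_one, smul_mul_assoc, ← Units.val_mul, mul_inv_cancel,
      Units.val_one]) hee hP (fun h => hno h)
  obtain ⟨α, hA, hB, hC, hD, hE⟩ := comm_eqs H h2 h3 hex he hee M fun w σ hw hσ => by
    obtain ⟨c, hc'⟩ := hM w σ hw hσ
    refine ⟨-c, fun x => ?_⟩
    have e1 := congrArg (fun A => A *ᵥ (σ •ᵥ x)) hc'
    simp only [Matrix.sub_mulVec, ← Matrix.mulVec_mulVec, gl_inv_mulVec_cancel, Matrix.smul_mulVec,
      Matrix.one_mulVec] at e1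
    rw [neg_smul, ← sub_eq_add_neg, eq_sub_iff_add_eq, ← e1]
    abel
  obtain ⟨e', he'e, he'⟩ := exists_pair H he hee h2
  have hee' : f e e' = 1 := by rw [symm' H, he'e]
  obtain ⟨μ, hμ⟩ : ∃ μ, μ = f (M *ᵥ e') e' := ⟨_, rfl⟩
  have form : ∀ x, M *ᵥ x = α • x + (μ * f x e) • e := fun x => by
    obtain ⟨x₀, hx₀⟩ : ∃ x₀, x₀ = x - f x e • e' := ⟨_, rfl⟩
    have x0e : f x₀ e = 0 := by rw [hx₀, lsub H, lsmul H, he'e]; ring
    refine ext_left H fun y => ?_
    obtain ⟨y₀, hy₀⟩ : ∃ y₀, y₀ = y - f y e • e' := ⟨_, rfl⟩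
    have y0e : f y₀ e = 0 := by rw [hy₀, lsub H, lsmul H, he'e]; ring
    have h1 : ∀ w, f w e = 0 → f (M *ᵥ e') w = α * f e' w := fun w hw => by
      have h := hE e' w he'e hw
      rw [hsa _ hMJ w e', symm' H (M *ᵥ e') w, ← two_mul, mul_assoc] at h
      exact mul_left_cancel₀ h2 h
    rw [show x = x₀ + f x e • e' by rw [hx₀]; abel, show y = y₀ + f y e • e' by rw [hy₀]; abel]
    simp only [Matrix.mulVec_add, Matrix.mulVec_smul, ladd H, radd H, lsmul H, rsmul H, hC x₀ y₀ x0e y0e,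
      h1 y₀ y0e, hsa _ hMJ x₀ e', symm' H (M *ᵥ e') x₀, h1 x₀ x0e, ← hμ, symm' H x₀ e', x0e, y0e, he'e, hee', he',
      symm' H y₀ e]
    ring
  have hμ0 : μ ≠ 0 := fun h => hMZ ⟨α, Matrix.ext_of_mulVec_single fun i => by
    rw [form, h, zero_mul, zero_smul, add_zero, Matrix.smul_mulVec, Matrix.one_mulVec]⟩
  obtain ⟨w, hw, hww⟩ : ∃ w, f w e' = 0 ∧ f w w ≠ 0 :=
    exists_aniso_perp H h2 h3 (fun h => one_ne_zero (by rw [← he'e, h, lzero H]))
  obtain ⟨w', hw'⟩ : ∃ w', w' = w - f w e • e' := ⟨_, rfl⟩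
  have hw'e : f w' e = 0 := by rw [hw', lsub H, lsmul H, he'e]; ring
  have hw'e' : f w' e' = 0 := by rw [hw', lsub H, lsmul H, he', hw]; ring
  have hww' : f w' w' ≠ 0 := by
    have : f w' w' = f w w := by
      rw [hw', lsub H, rsub H, rsub H, lsmul H, lsmul H, rsmul H, rsmul H, hw, symm' H w e', hw, he']; ring
    rw [this]; exact hww
  obtain ⟨σ, hσ, hσG⟩ := exists_sg' H h2 he' hw'e'
  obtain ⟨d, hd⟩ : ∃ d, d = σ •ᵥ e := ⟨_, rfl⟩
  have hiso := sgen_iso H h2 hσG
  have hed : f e d ≠ 0 := by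
    rw [hd, hσ, hee', one_smul, rsub H, radd H, rsmul H, hee, symm' H w' e, hw'e, hee']
    have : (2 : F) * 2⁻¹ = 1 := mul_inv_cancel₀ h2
    intro h
    apply hww'
    linear_combination (-2 : F) * h - f w' w' * this
  have hdd : f d d = 0 := by rw [hd, hiso, hee]
  have form' : ∀ x, ((σ : Matrix ι ι F) * M * ((σ⁻¹ : GL ι F) : Matrix ι ι F)) *ᵥ x = α • x + (μ * f x d) • d :=
    fun x => by
      obtain ⟨z, rfl⟩ : ∃ z, x = σ •ᵥ z := ⟨_, (gl_mulVec_inv_cancel σ x).symm⟩
      rw [← Matrix.mulVec_mulVec, ← Matrix.mulVec_mulVec, gl_inv_mulVec_cancel, form, Matrix.mulVec_add,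
        Matrix.mulVec_smul, Matrix.mulVec_smul, hd, hiso]
  refine hed ?_
  by_contra hne
  have hk := congrArg (fun A => f (A *ᵥ d) e) (hc _ hMJ _ (hJ σ hσG _ hMJ))
  simp only [← Matrix.mulVec_mulVec, form, form', Matrix.mulVec_add, Matrix.mulVec_smul, ladd H, lsmul H, hdd, hee,
    symm' H e d, mul_zero, zero_smul, add_zero] at hk
  have : μ * μ * (f e d * f e d * f e d) = 0 := by linear_combination -hk
  exact mul_ne_zero (mul_ne_zero hμ0 hμ0) (mul_ne_zero (mul_ne_zero hne hne) hne) this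

/-- A non-zero stable space of skew operators contains every rank two one. -/
theorem all_dy (h2 : (2 : F) ≠ 0) (h3 : 3 ≤ Fintype.card ι)
    (hex : (∃ t : F, t ≠ 0 ∧ t ^ 2 ≠ 1) ∨ 4 ≤ Fintype.card ι)
    (hfour : Fintype.card ι ≤ 4 → ∀ u v, ¬ Pl f u v) (K : Submodule F (Matrix ι ι F))
    (hK : ∀ σ ∈ SGen f, ∀ P ∈ K, (σ : Matrix ι ι F) * P * ((σ⁻¹ : GL ι F) : Matrix ι ι F) ∈ K)
    (hsk : ∀ P ∈ K, ∀ x y, f (P *ᵥ x) y = -f x (P *ᵥ y)) {P : Matrix ι ι F} (hP : P ∈ K) (hP0 : P ≠ 0)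
    (v u : ι → F) : dy H v u ∈ K := by
  classical
  obtain ⟨e, -, he, hee⟩ := exists_sing H h2 (W := (⊤ : Submodule F (ι → F)))
    (by rw [finrank_top, finrank_fintype_fun_eq_card]; exact h3)
  obtain ⟨M, hMK, hM0, hM⟩ := exists_fixed H h2 K.toAddSubgroup ⊥ hK
    (by intro σ _ Q hQ; rw [AddSubgroup.mem_bot.mp hQ, mul_zero, zero_mul]) hee hP
    (fun h => hP0 (AddSubgroup.mem_bot.mp h))
  replace hM0 : M ≠ 0 := fun h => hM0 (AddSubgroup.mem_bot.mpr h)
  obtain ⟨α, hA, hB, hC, hD, hE⟩ := comm_eqs H h2 h3 hex he hee M fun w σ hw hσ => by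
    have hc' := sub_eq_zero.mp (AddSubgroup.mem_bot.mp (hM w σ hw hσ))
    refine ⟨0, fun x => ?_⟩
    have e1 := congrArg (fun A => A *ᵥ (σ •ᵥ x)) hc'
    simp only [← Matrix.mulVec_mulVec, gl_inv_mulVec_cancel] at e1
    rw [zero_smul, add_zero, e1]
  obtain ⟨e', he'e, he'⟩ := exists_pair H he hee h2
  have hee' : f e e' = 1 := by rw [symm' H, he'e]
  have hα : α = 0 := by
    have h := hD e' he'e
    rw [hsk _ hMK e' e, hA, rsmul H, he'e, mul_one] at h
    exact (mul_eq_zero.mp (by linear_combination -h : (2 : F) * α = 0)).resolve_left h2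
  subst hα
  rw [zero_smul] at hA
  obtain ⟨w₀, hw₀⟩ : ∃ w₀, w₀ = M *ᵥ e' := ⟨_, rfl⟩
  have hw0e : f w₀ e = 0 := by rw [hw₀, hD e' he'e]
  have hw0e' : f w₀ e' = 0 := by
    have h := hsk _ hMK e' e'
    rw [symm' H (M *ᵥ e') e', ← hw₀] at h
    exact (mul_eq_zero.mp (by linear_combination h : (2 : F) * f w₀ e' = 0)).resolve_left h2
  have hMd : M = dy H e w₀ := by
    refine Matrix.ext_of_mulVec_single fun i => ?_
    generalize (Pi.single i (1 : F) : ι → F) = x
    obtain ⟨x₀, hx₀⟩ : ∃ x₀, x₀ = x - f x e • e' := ⟨_, rfl⟩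
    have x0e : f x₀ e = 0 := by rw [hx₀, lsub H, lsmul H, he'e]; ring
    refine ext_left H fun y => ?_
    obtain ⟨y₀, hy₀⟩ : ∃ y₀, y₀ = y - f y e • e' := ⟨_, rfl⟩
    have y0e : f y₀ e = 0 := by rw [hy₀, lsub H, lsmul H, he'e]; ring
    rw [dy_apply, show x = x₀ + f x e • e' by rw [hx₀]; abel, show y = y₀ + f y e • e' by rw [hy₀]; abel]
    simp only [Matrix.mulVec_add, Matrix.mulVec_smul, ← hw₀, ladd H, radd H, lsmul H, rsmul H, lsub H,
      hC x₀ y₀ x0e y0e, hsk _ hMK x₀ e', x0e, y0e, he'e, hee', symm' H y₀ e, symm' H w₀ e', hw0e', symm' H x₀ w₀,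
      symm' H e' w₀]
    ring
  have hw00 : w₀ ≠ 0 := fun h => hM0 (by
    rw [hMd, h]
    refine Matrix.ext_of_mulVec_single fun i => ?_
    rw [dy_apply, rzero H, Matrix.zero_mulVec, smul_zero, zero_smul, sub_zero])
  -- moving by the Siegel elements of the opposite centre
  have moved : ∀ (e e' : ι → F), f e e = 0 → f e' e' = 0 → f e e' = 1 → ∀ w, f w e = 0 → f w e' = 0 →
      dy H e w ∈ K → ∀ a, f a e = 0 → f a e' = 0 →
      dy H a w - f a w • dy H e e' ∈ K ∧ (2⁻¹ * f a a) • dy H e' w + f a w • dy H a e' ∈ K := by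
    intro e e' hee he' hee' w hwe hwe' hDK a hae hae'
    have img : ∀ a, f a e = 0 → f a e' = 0 →
        dy H e w + (dy H a w - f a w • dy H e e') - ((2⁻¹ * f a a) • dy H e' w + f a w • dy H a e') ∈ K := by
      intro a hae hae'
      obtain ⟨σ, hσ, hσG⟩ := exists_sg' H h2 he' hae'
      have h := hK σ hσG _ hDK
      rw [dy_conj H (sgen_iso H h2 hσG), hσ e, hσ w, hee', hwe', symm' H a e, hae, symm' H a w] at h
      have e1 : e + (1 : F) • a - (2⁻¹ * f a a * 1 + 0) • e' = e + a + (-(2⁻¹ * f a a)) • e' := by module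
      have e2 : w + (0 : F) • a - (2⁻¹ * f a a * 0 + f a w) • e' = w + (-f a w) • e' := by module
      rw [e1, e2, dy_add, dy_add, dy_smul, dy_add_right, dy_add_right, dy_add_right, dy_smul_right, dy_smul_right,
        dy_smul_right, dy_self] at h
      convert h using 1
      module
    have hp := img a hae hae'
    have hm := img (-a) (by rw [lneg H, hae, neg_zero]) (by rw [lneg H, hae', neg_zero])
    rw [← neg_one_smul F a, dy_smul, dy_smul, lsmul H, lsmul H, rsmul H] at hm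
    constructor
    · convert K.smul_mem (2⁻¹ : F) (K.sub_mem hp hm) using 1
      match_scalars <;> field_simp <;> ring
    · convert K.smul_mem (2⁻¹ : F) (K.sub_mem (K.add_mem hDK hDK) (K.add_mem hp hm)) using 1
      match_scalars <;> field_simp <;> ring
  have hH : dy H e e' ∈ K := by
    rw [hMd] at hMK
    by_cases hww : f w₀ w₀ = 0
    · have h5 : 5 ≤ Fintype.card ι := by
        by_contra hlt
        refine hfour (by omega) e w₀ ⟨hee, by rw [symm' H]; exact hw0e, hww, fun r s hrs => ?_⟩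
        have h := congrArg (fun z => f z e') hrs
        simp only [ladd H, lsmul H, hee', hw0e', lzero H, mul_zero, add_zero, mul_one] at h
        rw [h, zero_smul, zero_add] at hrs
        exact ⟨h, (smul_eq_zero.mp hrs).resolve_right hw00⟩
      obtain ⟨S, hS⟩ : ∃ S, S = Submodule.span F (({e, e', w₀} : Finset (ι → F)) : Set (ι → F)) := ⟨_, rfl⟩
      obtain ⟨a, ha, haa⟩ : ∃ a ∈ H.perp S, f a a ≠ 0 := by
        by_contra hcon
        push Not at hcon
        have hle : H.perp S ≤ H.perp (H.perp S) := fun p hp q hq => by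
          have h := hcon (p + q) (add_mem hp hq)
          rw [ladd H, radd H, radd H, hcon p hp, hcon q hq, symm' H p q, zero_add, add_zero, ← two_mul] at h
          exact (mul_eq_zero.mp h).resolve_left h2
        rw [H.perp_perp] at hle
        -- two orthogonal vectors of the span pair to zero
        have hle' : H.perp S ≤ Submodule.span F {w₀} := fun p hp => by
          have hpS := hle hp
          rw [hS, Finset.coe_insert, Finset.coe_insert, Finset.coe_singleton, Submodule.mem_span_insert] at hpS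
          obtain ⟨r, z, hz, rfl⟩ := hpS
          rw [Submodule.mem_span_insert] at hz
          obtain ⟨s, z', hz', rfl⟩ := hz
          obtain ⟨t, rfl⟩ := Submodule.mem_span_singleton.mp hz'
          have k1 := hp e (hS ▸ Submodule.subset_span (by simp))
          have k2 := hp e' (hS ▸ Submodule.subset_span (by simp))
          simp only [ladd H, lsmul H, hee, he'e, hee', he', hw0e, hw0e', mul_zero, mul_one, add_zero, zero_add] at k1 k2
          rw [k1, k2, zero_smul, zero_smul, zero_add, zero_add]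
          exact Submodule.smul_mem _ _ (Submodule.mem_span_singleton_self w₀)
        have h1 := Submodule.finrank_mono hle'
        have hp := H.finrank_perp S
        have h6 : finrank F S ≤ 3 := hS ▸ (finrank_span_finset_le_card _).trans Finset.card_le_three
        rw [finrank_span_singleton hw00] at h1
        omega
      have hae : f a e = 0 := ha e (hS ▸ Submodule.subset_span (by simp))
      have hae' : f a e' = 0 := ha e' (hS ▸ Submodule.subset_span (by simp))
      have haw : f a w₀ = 0 := ha w₀ (hS ▸ Submodule.subset_span (by simp))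
      have k1 : dy H e' w₀ ∈ K := by
        have h := (moved e e' hee he' hee' w₀ hw0e hw0e' hMK a hae hae').2
        rw [haw, zero_smul, add_zero] at h
        have := K.smul_mem (2⁻¹ * f a a)⁻¹ h
        rwa [smul_smul, inv_mul_cancel₀ (mul_ne_zero (inv_ne_zero h2) haa), one_smul] at this
      obtain ⟨b₀, hb₀⟩ := exists_nonorth H hw00
      obtain ⟨b, hb⟩ : ∃ b, b = (f b₀ w₀)⁻¹ • (b₀ - f b₀ e' • e - f b₀ e • e') := ⟨_, rfl⟩
      have hbe : f b e = 0 := by rw [hb, lsmul H, lsub H, lsub H, lsmul H, lsmul H, hee, he'e]; ring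
      have hbe' : f b e' = 0 := by rw [hb, lsmul H, lsub H, lsub H, lsmul H, lsmul H, hee', he']; ring
      have hbw : f b w₀ = 1 := by
        rw [hb, lsmul H, lsub H, lsub H, lsmul H, lsmul H, symm' H w₀ e, hw0e, symm' H w₀ e', hw0e']
        field_simp
        ring
      have k2 : dy H e' b ∈ K := by
        have h := (moved e e' hee he' hee' w₀ hw0e hw0e' hMK b hbe hbe').2
        rw [hbw, one_smul] at h
        have := K.sub_mem (K.smul_mem (2⁻¹ * f b b) k1) h
        rw [dy_swap H e' b] at this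
        convert this using 1
        abel
      obtain ⟨c, hc⟩ : ∃ c : F, f (b + c • w₀) (b + c • w₀) ≠ 0 := by
        refine ⟨if f b b = 0 then 1 else 0, ?_⟩
        split_ifs with hbb
        · rw [ladd H, radd H, radd H, lsmul H, lsmul H, rsmul H, rsmul H, hbb, hbw, symm' H b w₀, hbw, hww]
          intro h
          exact h2 (by linear_combination h)
        · rw [zero_smul, add_zero]; exact hbb
      have k3 : dy H e' (b + c • w₀) ∈ K := by
        rw [dy_add_right, dy_smul_right]; exact K.add_mem k2 (K.smul_mem c k1)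
      have q1 : f (b + c • w₀) e = 0 := by rw [ladd H, lsmul H, hbe, hw0e]; ring
      have q2 : f (b + c • w₀) e' = 0 := by rw [ladd H, lsmul H, hbe', hw0e']; ring
      have h := (moved e' e he' hee he'e (b + c • w₀) q2 q1 k3 (b + c • w₀) q2 q1).1
      rw [dy_self, zero_sub, K.neg_mem_iff] at h
      have := K.smul_mem (f (b + c • w₀) (b + c • w₀))⁻¹ h
      rw [smul_smul, inv_mul_cancel₀ hc, one_smul, dy_swap H e e'] at this
      exact K.neg_mem_iff.mp this
    · have h := (moved e e' hee he' hee' w₀ hw0e hw0e' hMK w₀ hw0e hw0e').1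
      rw [dy_self, zero_sub, K.neg_mem_iff] at h
      have := K.smul_mem (f w₀ w₀)⁻¹ h
      rwa [smul_smul, inv_mul_cancel₀ hww, one_smul] at this
  have side : ∀ (e e' : ι → F), f e e = 0 → f e' e' = 0 → f e e' = 1 → dy H e e' ∈ K →
      ∀ a, f a e = 0 → f a e' = 0 → dy H e a ∈ K := by
    intro e e' hee he' hee' hH a hae hae'
    have he'e : f e' e = 1 := by rw [symm' H]; exact hee'
    obtain ⟨σ, hσ, hσG⟩ := exists_sg' H h2 hee hae
    have h := hK σ hσG _ hH
    rw [dy_conj H (sgen_iso H h2 hσG), sg_fix H hee hae hσ, hσ e', he'e, symm' H a e', hae'] at h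
    rw [show e' + (1 : F) • a - (2⁻¹ * f a a * 1 + 0) • e = e' + a + (-(2⁻¹ * f a a)) • e by module,
      dy_add_right, dy_add_right, dy_smul_right, dy_self, smul_zero, add_zero] at h
    have := K.sub_mem h hH
    rwa [add_sub_cancel_left] at this
  have hH' : dy H e' e ∈ K := by rw [dy_swap]; exact K.neg_mem hH
  have s1 := side e e' hee he' hee' hH
  have s2 := side e' e he' hee he'e hH'
  have inner : ∀ a b, f a e = 0 → f a e' = 0 → f b e = 0 → f b e' = 0 → dy H a b ∈ K := fun a b a1 a2 b1 b2 => by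
    have := K.add_mem (moved e e' hee he' hee' b b1 b2 (s1 b b1 b2) a a1 a2).1 (K.smul_mem (f a b) hH)
    rwa [sub_add_cancel] at this
  obtain ⟨v₀, hv₀⟩ : ∃ v₀, v₀ = v - f v e' • e - f v e • e' := ⟨_, rfl⟩
  obtain ⟨u₀, hu₀⟩ : ∃ u₀, u₀ = u - f u e' • e - f u e • e' := ⟨_, rfl⟩
  have v1 : f v₀ e = 0 := by rw [hv₀, lsub H, lsub H, lsmul H, lsmul H, hee, he'e]; ring
  have v2 : f v₀ e' = 0 := by rw [hv₀, lsub H, lsub H, lsmul H, lsmul H, hee', he']; ring
  have u1 : f u₀ e = 0 := by rw [hu₀, lsub H, lsub H, lsmul H, lsmul H, hee, he'e]; ring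
  have u2 : f u₀ e' = 0 := by rw [hu₀, lsub H, lsub H, lsmul H, lsmul H, hee', he']; ring
  have t1 : dy H v₀ e ∈ K := by rw [dy_swap]; exact K.neg_mem (s1 v₀ v1 v2)
  have t2 : dy H v₀ e' ∈ K := by rw [dy_swap]; exact K.neg_mem (s2 v₀ (by exact v2) v1)
  rw [show v = v₀ + f v e' • e + f v e • e' by rw [hv₀]; abel,
    show u = u₀ + f u e' • e + f u e • e' by rw [hu₀]; abel]
  simp only [dy_add, dy_smul, dy_add_right, dy_smul_right, dy_self, smul_zero, add_zero]
  repeat' (first | apply K.add_mem | apply K.smul_mem)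
  all_goals first
    | exact inner v₀ u₀ v1 v2 u1 u2
    | exact t1 | exact t2 | exact hH | exact hH'
    | exact s1 u₀ u1 u2 | exact s2 u₀ u2 u1
    | exact K.zero_mem

end Cfsg.Agent.Classical.TensorMax.OO
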