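/-
The setting of two symmetric spaces; root elements and planes in the tensor product.
-/
import Cfsg.Agent.Lib.Classical.TensorMax.OO.Families

set_option autoImplicit false
set_option linter.unusedSectionVars false

namespace Cfsg.Agent.Classical.TensorMax.OO

open Matrix Module Cfsg.Geo
open Cfsg.Agent.Classical Cfsg.Agent.Classical.TensorMax.Form

variable {n₁ n₂ : ℕ} {F : Type*} [Field F] [Fintype F]
variable {fa : (Fin n₁ → F) → (Fin n₁ → F) → F} {fb : (Fin n₂ → F) → (Fin n₂ → F) → F}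
variable {X : Subgroup (GL (Fin n₁ × Fin n₂) F)}

local notation "κ" => Fin n₁ × Fin n₂
local notation:max g:max " ⬝ₘ " x:max =>
  ((g : GL (Fin n₁ × Fin n₂) F) : Matrix (Fin n₁ × Fin n₂) (Fin n₁ × Fin n₂) F) *ᵥ x
local notation "τ" => tf (RingEquiv.refl F) fa fb

/-- The setting. -/
structure Ctx (fa : (Fin n₁ → F) → (Fin n₁ → F) → F) (fb : (Fin n₂ → F) → (Fin n₂ → F) → F)
    (X : Subgroup (GL (Fin n₁ × Fin n₂) F)) : Prop where
  a : IsReflexForm (RingEquiv.refl F) 1 fa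
  b : IsReflexForm (RingEquiv.refl F) 1 fb
  h2 : (2 : F) ≠ 0
  da : 3 ≤ n₁
  db : 5 ≤ n₂
  hex : (∃ t : F, t ≠ 0 ∧ t ^ 2 ≠ 1) ∨ 4 ≤ n₁
  four : n₁ ≤ 4 → ∀ u v, ¬ Pl fa u v
  iso : ∀ g ∈ X, ∀ x y, tf (RingEquiv.refl F) fa fb
    ((g : Matrix (Fin n₁ × Fin n₂) (Fin n₁ × Fin n₂) F) *ᵥ x)
    ((g : Matrix (Fin n₁ × Fin n₂) (Fin n₁ × Fin n₂) F) *ᵥ y) = tf (RingEquiv.refl F) fa fb x y
  small : ∀ s t, s ∈ SGen fa → t ∈ SGen fb → kr s t ∈ X

/-- The root element of a plane. -/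
def Zt (fb : (Fin n₂ → F) → (Fin n₂ → F) → F) (u v : Fin n₂ → F) (c : F) (g : GL κ F) : Prop :=
  ∀ x, g ⬝ₘ x = x + tm (c • ctr fb u x) v - tm (c • ctr fb v x) u

/-- The element fixes every vector over the orthogonal of the plane. -/
def Fix (fb : (Fin n₂ → F) → (Fin n₂ → F) → F) (u v : Fin n₂ → F) (g : GL κ F) : Prop :=
  ∀ x, ctr fb u x = 0 → ctr fb v x = 0 → g ⬝ₘ x = x

/-- The radicals meet the group in root elements only. -/
def NoU (fb : (Fin n₂ → F) → (Fin n₂ → F) → F) (X : Subgroup (GL κ F)) : Prop :=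
  ∀ u v, Pl fb u v → ∀ g ∈ X, Fix fb u v g → ∃ c, Zt fb u v c g

theorem zt_unique {u v : Fin n₂ → F} {c : F} {g h : GL κ F} (hg : Zt fb u v c g) (hh : Zt fb u v c h) : g = h :=
  gl_ext_mulVec fun x => by rw [hg, hh]

variable (C : Ctx fa fb X)

include C

theorem Ctx.data : Data (RingEquiv.refl F) 1 1 fa fb := ⟨C.a, C.b⟩

theorem Ctx.da' : 3 ≤ Fintype.card (Fin n₁) := by rw [Fintype.card_fin]; exact C.da

theorem Ctx.db' : 5 ≤ Fintype.card (Fin n₂) := by rw [Fintype.card_fin]; exact C.db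

theorem Ctx.hex' : (∃ t : F, t ≠ 0 ∧ t ^ 2 ≠ 1) ∨ 4 ≤ Fintype.card (Fin n₁) := by
  rw [Fintype.card_fin]; exact C.hex

theorem Ctx.tt (a a' : Fin n₁ → F) (b b' : Fin n₂ → F) : τ (tm a b) (tm a' b') = fa a a' * fb b b' :=
  tf_tm C.data a a' b b'

theorem Ctx.cadd (w : Fin n₂ → F) (x y : κ → F) : ctr fb w (x + y) = ctr fb w x + ctr fb w y := ctr_add C.data w x y

theorem Ctx.csub (w : Fin n₂ → F) (x y : κ → F) : ctr fb w (x - y) = ctr fb w x - ctr fb w y := ctr_sub C.data w x y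

theorem Ctx.ctm (w : Fin n₂ → F) (a : Fin n₁ → F) (b : Fin n₂ → F) : ctr fb w (tm a b) = fb b w • a :=
  ctr_tm C.data w a b

theorem Ctx.czero (w : Fin n₂ → F) : ctr fb w (0 : κ → F) = 0 := by
  have := C.csub w 0 0
  rwa [sub_zero, sub_self] at this

theorem Ctx.csmul_vec (c : F) (w : Fin n₂ → F) (x : κ → F) : ctr fb (c • w) x = c • ctr fb w x :=
  ctr_smul_vec C.data c w x

theorem Ctx.cadd_vec (w w' : Fin n₂ → F) (x : κ → F) : ctr fb (w + w') x = ctr fb w x + ctr fb w' x :=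
  ctr_add_vec C.data w w' x

/-- A vector all whose contractions vanish is zero. -/
theorem Ctx.eq_zero {x : κ → F} (h : ∀ w, ctr fb w x = 0) : x = 0 := by
  by_contra hx
  obtain ⟨p, hp⟩ := Function.ne_iff.mp hx
  obtain ⟨w, hw⟩ := (C.b.nondeg (Form.row x p.1) (Function.ne_iff.mpr ⟨p.2, hp⟩)).2
  exact hw (congrFun (h w) p.1)

theorem Ctx.ext {x y : κ → F} (h : ∀ w, ctr fb w x = ctr fb w y) : x = y :=
  sub_eq_zero.mp (C.eq_zero fun w => by rw [C.csub, h, sub_self])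

/-- Vectors over the orthogonal of a frame and the frame. -/
theorem Ctx.ext_frame {u v u' v' : Fin n₂ → F} (P : Frame fb u v u' v') {x y : κ → F}
    (h1 : ctr fb u x = ctr fb u y) (h2 : ctr fb v x = ctr fb v y) (h3 : ctr fb u' x = ctr fb u' y)
    (h4 : ctr fb v' x = ctr fb v' y) (h5 : ∀ w, Off fb u v u' v' w → ctr fb w x = ctr fb w y) : x = y := by
  refine C.ext fun w => ?_
  obtain ⟨w₀, hw₀⟩ : ∃ w₀, w₀ = w - fb w u' • u - fb w v' • v - fb w u • u' - fb w v • v' := ⟨_, rfl⟩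
  have hoff : Off fb u v u' v' w₀ := hw₀ ▸ P.split C.b w
  rw [show w = w₀ + fb w u' • u + fb w v' • v + fb w u • u' + fb w v • v' by rw [hw₀]; abel]
  simp only [C.cadd_vec, C.csmul_vec, h1, h2, h3, h4, h5 w₀ hoff]

/-- A pair of isometries or of reciprocal similitudes gives an isometry. -/
theorem Ctx.kr_iso {s : GL (Fin n₁) F} {t : GL (Fin n₂) F} {μ ν : F} (hμν : μ * ν = 1)
    (hs : ∀ a b, fa ((s : Matrix (Fin n₁) (Fin n₁) F) *ᵥ a) ((s : Matrix (Fin n₁) (Fin n₁) F) *ᵥ b) = μ * fa a b)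
    (ht : ∀ a b, fb ((t : Matrix (Fin n₂) (Fin n₂) F) *ᵥ a) ((t : Matrix (Fin n₂) (Fin n₂) F) *ᵥ b) = ν * fb a b)
    (x y : κ → F) : τ ((kr s t) ⬝ₘ x) ((kr s t) ⬝ₘ y) = τ x y := by
  have hR : ∀ (v : κ → F) (w : Fin n₁ → κ → F), τ v (∑ i, w i) = ∑ i, τ v (w i) := fun v w =>
    map_sum (AddMonoidHom.mk' (fun z => τ v z) ((tf_semi C.data).add_right v)) w Finset.univ
  conv_rhs => rw [sum_rows x, sum_rows y]
  conv_lhs => rw [sum_rows x, sum_rows y]
  simp only [Matrix.mulVec_sum, (reflex C.data).sum_left, hR, kr_tm, C.tt, hs, ht]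
  refine Finset.sum_congr rfl fun i _ => Finset.sum_congr rfl fun j _ => ?_
  linear_combination (fa (Pi.single i 1) (Pi.single j 1) * fb (Form.row x i) (Form.row y j)) * hμν

/-- The element of a Siegel element of the second factor. -/
theorem Ctx.kr_sg {o w : Fin n₂ → F} {t : GL (Fin n₂) F} (ht : Sg fb o w t) (x : κ → F) :
    (kr (1 : GL (Fin n₁) F) t) ⬝ₘ x =
      x + tm (ctr fb o x) w - tm ((2⁻¹ * fb w w) • ctr fb o x + ctr fb w x) o := by
  funext p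
  have e := congrFun (kr_one_row (α := Fin n₁) t x p.1) p.2
  rw [ht] at e
  simp only [Form.row, Pi.add_apply, Pi.sub_apply, Pi.smul_apply, smul_eq_mul] at e
  simp only [Pi.add_apply, Pi.sub_apply, Pi.smul_apply, smul_eq_mul, tm_apply]
  simp only [show ∀ d i, ctr fb d x i = fb (Form.row x i) d from fun _ _ => rfl]
  exact e

theorem Ctx.exists_zt {u v : Fin n₂ → F} (P : Pl fb u v) (c : F) :
    ∃ t ∈ SGen fb, Zt (n₁ := n₁) fb u v c (kr 1 t) := by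
  obtain ⟨t, ht, htG⟩ := exists_sg' C.b C.h2 P.uu
    (w := c • v) (by rw [lsmul C.b, (P.swap C.b).uv, mul_zero])
  refine ⟨t, htG, fun x => ?_⟩
  rw [C.kr_sg ht, C.csmul_vec, lsmul C.b, rsmul C.b, P.vv, mul_zero, mul_zero, mul_zero, zero_smul, zero_add,
    tm_smul_right, tm_smul_left, tm_smul_left]

theorem Ctx.zt_mem {u v : Fin n₂ → F} (P : Pl fb u v) {c : F} {g : GL κ F} (hg : Zt fb u v c g) :
    g ∈ X ∧ g ∈ Kr (Fin n₁) (Fin n₂) F := by
  obtain ⟨t, ht, hz⟩ := C.exists_zt P c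
  rw [zt_unique hg hz]
  exact ⟨C.small 1 t (one_mem _) ht, 1, t, rfl⟩

theorem Ctx.right_mem {t : GL (Fin n₂) F} (ht : t ∈ SGen fb) : kr (1 : GL (Fin n₁) F) t ∈ X :=
  C.small 1 t (one_mem _) ht

/-- An isometry fixing the fibres of a vector preserves its contraction. -/
theorem Ctx.ctr_fixed {r : GL κ F} (hr : ∀ x y, τ (r ⬝ₘ x) (r ⬝ₘ y) = τ x y) {o : Fin n₂ → F}
    (ho : ∀ a, r ⬝ₘ (tm a o) = tm a o) (x : κ → F) : ctr fb o (r ⬝ₘ x) = ctr fb o x := by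
  refine ctr_eq C.data fun a => ?_
  rw [← ho a, hr, tf_tm_right C.data]

end Cfsg.Agent.Classical.TensorMax.OO
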