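/-
A conjugate of a root element that is a Kronecker product is a root element.
-/
import Cfsg.Agent.Lib.Classical.TensorMax.OO.Basic
import Cfsg.Agent.Lib.Classical.TensorMax.RankOne
import Cfsg.Agent.Lib.Classical.Forms

set_option autoImplicit false
set_option linter.unusedSectionVars false

namespace Cfsg.Agent.Classical.TensorMax.OO

open Matrix Module Cfsg.Geo
open Cfsg.Agent.Classical Cfsg.Agent.Classical.TensorMax Cfsg.Agent.Classical.TensorMax.Form
open scoped Kronecker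

section Skew

variable {n : ℕ} {F : Type*} [Field F] {f : (Fin n → F) → (Fin n → F) → F}

/-- A skew operator of square zero has even rank. -/
theorem even_rank (H : IsReflexForm (RingEquiv.refl F) 1 f) (h2 : (2 : F) ≠ 0) (M : Matrix (Fin n) (Fin n) F)
    (hsk : ∀ x y, f (M *ᵥ x) y = -f x (M *ᵥ y)) : Even (finrank F (LinearMap.range M.mulVecLin)) := by
  classical
  obtain ⟨k, hk⟩ : ∃ k, finrank F (LinearMap.range M.mulVecLin) = k := ⟨_, rfl⟩
  rw [hk, ← Nat.not_odd_iff_even]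
  intro hodd
  let b := (Module.finBasisOfFinrankEq F _ hk).equivFun
  have hpre : ∀ i : Fin k → F, ∃ x, M *ᵥ x = (b.symm i : Fin n → F) := fun i => (b.symm i).2
  choose pre hpre using hpre
  obtain ⟨β, hβ⟩ : ∃ β : (Fin k → F) → (Fin k → F) → F, β = fun i j => f (b.symm i : Fin n → F) (pre j) :=
    ⟨_, rfl⟩
  have hval : ∀ i y j, M *ᵥ y = (b.symm j : Fin n → F) → β i j = f (b.symm i : Fin n → F) y := fun i y j hy => by
    simp only [hβ]
    rw [← hpre i, hsk, hsk, hpre j, hy]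
  have hB : IsBilinearForm β := by
    refine ⟨fun i i' j => ?_, fun c i j => ?_, fun j i i' => ?_, fun c j i => ?_⟩
    · simp only [hβ, map_add, Submodule.coe_add, ladd H]
    · simp only [hβ, map_smul, Submodule.coe_smul, lsmul H]
    · rw [hval j (pre i + pre i') (i + i') (by rw [Matrix.mulVec_add, hpre, hpre, map_add, Submodule.coe_add]),
        radd H]
      simp only [hβ]
    · rw [hval j (c • pre i) (c • i) (by rw [Matrix.mulVec_smul, hpre, map_smul, Submodule.coe_smul]), rsmul H]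
      simp only [hβ]
  have hskew : ∀ i j, β i j = -β j i := fun i j => by
    simp only [hβ]
    rw [← hpre i, hsk, hpre j, symm' H (b.symm j : Fin n → F) (pre i)]
  have halt : ∀ i, β i i = 0 := fun i => by
    have := hskew i i
    exact (mul_eq_zero.mp (by linear_combination this : (2 : F) * β i i = 0)).resolve_left h2
  refine not_nondegenerate_alternating_of_odd (by rwa [Fintype.card_fin]) hB hskew halt fun i hi => ?_
  have hne : (b.symm i : Fin n → F) ≠ 0 := fun h => hi (b.symm.injective (by rw [map_zero]; exact Subtype.ext h))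
  obtain ⟨y, hy⟩ := (H.nondeg _ hne).2
  obtain ⟨j, hj⟩ : ∃ j, (b.symm j : Fin n → F) = M *ᵥ y := ⟨b ⟨M *ᵥ y, y, rfl⟩, by rw [b.symm_apply_apply]⟩
  have := hval i y j hj.symm
  exact ⟨⟨j, by rw [hskew, this]; exact neg_ne_zero.mpr hy⟩, ⟨j, by rw [this]; exact hy⟩⟩

end Skew

variable {n₁ n₂ : ℕ} {F : Type*} [Field F] [Fintype F]
variable {fa : (Fin n₁ → F) → (Fin n₁ → F) → F} {fb : (Fin n₂ → F) → (Fin n₂ → F) → F}
variable {X : Subgroup (GL (Fin n₁ × Fin n₂) F)}

local notation "κ" => Fin n₁ × Fin n₂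
local notation:max g:max " ⬝ₘ " x:max =>
  ((g : GL (Fin n₁ × Fin n₂) F) : Matrix (Fin n₁ × Fin n₂) (Fin n₁ × Fin n₂) F) *ᵥ x
local notation "τ" => tf (RingEquiv.refl F) fa fb

theorem zt_frame_img (C : Ctx fa fb X) {u v u' v' : Fin n₂ → F} (P : Frame fb u v u' v') {z : GL κ F}
    (hz : Zt fb u v 1 z) (a : Fin n₁ → F) :
    z ⬝ₘ (tm a u') = tm a u' + tm a v ∧ z ⬝ₘ (tm a v') = tm a v' - tm a u ∧
      z ⬝ₘ (tm a u) = tm a u ∧ z ⬝ₘ (tm a v) = tm a v := by
  refine ⟨?_, ?_, ?_, ?_⟩ <;>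
    simp only [hz _, one_smul, C.ctm, P.u'u, P.u'v, P.v'u, P.v'v, P.pl.uu, P.pl.uv, (P.pl.swap C.b).uv, P.pl.vv,
      zero_smul, tm_zero_left, sub_zero, add_zero]

/-- A conjugate of a root element that is a Kronecker product is a root element, or lies in the first factor. -/
theorem root_of_conj (C : Ctx fa fb X) {g : GL κ F} (hgi : ∀ x y, τ (g ⬝ₘ x) (g ⬝ₘ y) = τ x y)
    {u v : Fin n₂ → F} (P0 : Pl fb u v)
    {z : GL κ F} (hz : Zt fb u v 1 z) (hmem : g * z * g⁻¹ ∈ Kr (Fin n₁) (Fin n₂) F) :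
    (∃ p q, Pl fb p q ∧ Zt fb p q 1 (g * z * g⁻¹)) ∨
      (n₂ ∣ n₁ ∧ ∃ A : Matrix (Fin n₁) (Fin n₁) F,
        ((g * z * g⁻¹ : GL κ F) : Matrix κ κ F) = A ⊗ₖ (1 : Matrix (Fin n₂) (Fin n₂) F)) := by
  classical
  obtain ⟨u', v', P⟩ := exists_frame C.b C.h2 P0
  obtain ⟨p₀, hp₀⟩ := CharP.exists F
  haveI : Fact p₀.Prime := ⟨CharP.char_is_prime F p₀⟩
  haveI : Nonempty (Fin n₁) := ⟨⟨0, by have := C.da; omega⟩⟩
  haveI : Nonempty (Fin n₂) := ⟨⟨0, by have := C.db; omega⟩⟩
  obtain ⟨y, hy⟩ : ∃ y, y = g * z * g⁻¹ := ⟨_, rfl⟩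
  rw [← hy] at hmem ⊢
  -- the square vanishes
  obtain ⟨N, hN⟩ : ∃ N, N = (y : Matrix κ κ F) - 1 := ⟨_, rfl⟩
  have hNx : ∀ x, N *ᵥ x = g ⬝ₘ (tm (ctr fb u (g⁻¹ ⬝ₘ x)) v - tm (ctr fb v (g⁻¹ ⬝ₘ x)) u) := fun x => by
    rw [hN, Matrix.sub_mulVec, Matrix.one_mulVec, hy, gl_mul_mulVec, gl_mul_mulVec, hz, one_smul, one_smul,
      add_sub_assoc, Matrix.mulVec_add, gl_mulVec_inv_cancel, add_sub_cancel_left]
  have hN2 : N * N = 0 := Matrix.ext_of_mulVec_single fun i => by
    rw [← Matrix.mulVec_mulVec, Matrix.zero_mulVec, hNx, hNx (Pi.single i 1), gl_inv_mulVec_cancel, C.csub, C.csub,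
      C.ctm, C.ctm, C.ctm, C.ctm, P.pl.uu, P.pl.vv, P.pl.uv, (P.pl.swap C.b).uv]
    simp
  have hyp : y ^ p₀ ^ 1 = 1 := Units.ext <| by
    have h0 : N ^ p₀ ^ 1 = 0 := by
      rw [pow_one, show p₀ = (p₀ - 2) + 2 by have := (Fact.out : p₀.Prime).two_le; omega, pow_add, pow_two, hN2,
        mul_zero]
    rw [hN, sub_pow_char_pow_of_commute (p := p₀) _ (Commute.one_right (y : Matrix κ κ F)), one_pow] at h0
    rw [Units.val_pow_eq_pow_val, Units.val_one]
    exact sub_eq_zero.mp h0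
  obtain ⟨s, t, hst⟩ := hmem
  rw [hst] at hyp
  obtain ⟨A, B, hAB, hA, hB⟩ := normalise p₀ (by have := C.da; omega) (by have := C.db; omega) hyp
  rw [← hst] at hAB
  obtain ⟨M, hM⟩ : ∃ M, M = A - 1 := ⟨_, rfl⟩
  obtain ⟨Nb, hNb⟩ : ∃ Nb, Nb = B - 1 := ⟨_, rfl⟩
  have hAm : ∀ a, A *ᵥ a = a + M *ᵥ a := fun a => by rw [hM, Matrix.sub_mulVec, Matrix.one_mulVec]; abel
  have hBm : ∀ w, B *ᵥ w = w + Nb *ᵥ w := fun w => by rw [hNb, Matrix.sub_mulVec, Matrix.one_mulVec]; abel
  have hNt : ∀ a w, N *ᵥ tm a w = tm (M *ᵥ a) w + tm a (Nb *ᵥ w) + tm (M *ᵥ a) (Nb *ᵥ w) := fun a w => by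
    have e : (y : Matrix κ κ F) *ᵥ tm a w = tm (A *ᵥ a) (B *ᵥ w) := by
      funext p
      rw [hAB, tm_apply, Matrix.mulVec, dotProduct, Fintype.sum_prod_type]
      simp only [kroneckerMap_apply, tm_apply, Matrix.mulVec, dotProduct, Finset.sum_mul_sum]
      exact Finset.sum_congr rfl fun i _ => Finset.sum_congr rfl fun k _ => by ring
    rw [hN, Matrix.sub_mulVec, Matrix.one_mulVec, e, hAm, hBm, tm_add_left, tm_add_right, tm_add_right]
    abel
  have hMn : M ^ p₀ ^ 1 = 0 := by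
    rw [hM, sub_pow_char_pow_of_commute (p := p₀) _ (Commute.one_right A), hA, one_pow, sub_self]
  have hNn : Nb ^ p₀ ^ 1 = 0 := by
    rw [hNb, sub_pow_char_pow_of_commute (p := p₀) _ (Commute.one_right B), hB, one_pow, sub_self]
  have hor : M = 0 ∨ Nb = 0 := by
    by_contra hcon
    push Not at hcon
    obtain ⟨a, ha, ha2⟩ := exists_chain hcon.1 hMn
    obtain ⟨w, hw, hw2⟩ := exists_chain hcon.2 hNn
    have h := congrArg (fun A => A *ᵥ tm a w) hN2
    simp only [← Matrix.mulVec_mulVec, hNt, Matrix.mulVec_add, Matrix.zero_mulVec, ha2, hw2, tm_zero_left,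
      tm_zero_right, zero_add, add_zero] at h
    rw [← two_smul F, smul_eq_zero] at h
    exact (h.resolve_left C.h2 |> tm_eq_zero).elim ha hw
  -- the moved space
  let Φ : (Fin n₁ → F) × (Fin n₁ → F) →ₗ[F] (κ → F) :=
    { toFun := fun a => g ⬝ₘ (tm a.1 v + tm a.2 u)
      map_add' := fun a b => by
        simp only [Prod.fst_add, Prod.snd_add, tm_add_left, ← Matrix.mulVec_add]
        congr 1
        abel
      map_smul' := fun c a => by
        simp only [Prod.smul_fst, Prod.smul_snd, tm_smul_left, ← smul_add, Matrix.mulVec_smul, RingHom.id_apply] }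
  have hΦi : Function.Injective Φ := by
    rw [← LinearMap.ker_eq_bot, LinearMap.ker_eq_bot']
    intro a ha
    have h0 : tm a.1 v + tm a.2 u = 0 := gl_mulVec_injective g (show g ⬝ₘ _ = g ⬝ₘ _ by
      rw [Matrix.mulVec_zero]; exact ha)
    have e1 := congrArg (ctr fb v') h0
    have e2 := congrArg (ctr fb u') h0
    rw [C.cadd, C.ctm, C.ctm, symm' C.b v' v, P.v'v, symm' C.b v' u, P.v'u, C.czero] at e1
    rw [C.cadd, C.ctm, C.ctm, symm' C.b u' v, P.u'v, symm' C.b u' u, P.u'u, C.czero] at e2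
    exact Prod.ext (by simpa using e1) (by simpa using e2)
  have hrange : LinearMap.range N.mulVecLin = LinearMap.range Φ := by
    refine le_antisymm ?_ ?_
    · rintro _ ⟨x, rfl⟩
      exact ⟨(ctr fb u (g⁻¹ ⬝ₘ x), -ctr fb v (g⁻¹ ⬝ₘ x)), by
        rw [Matrix.mulVecLin_apply, hNx]
        change g ⬝ₘ _ = _
        simp only [← neg_one_smul F (ctr fb v _), tm_smul_left]
        congr 1
        module⟩
    · rintro _ ⟨a, rfl⟩
      refine ⟨g ⬝ₘ (tm a.1 u' - tm a.2 v'), ?_⟩
      rw [Matrix.mulVecLin_apply, hNx, gl_inv_mulVec_cancel, C.csub, C.csub, C.ctm, C.ctm, C.ctm, C.ctm, P.u'u,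
        P.v'u, P.u'v, P.v'v, one_smul, zero_smul, sub_zero, zero_smul, one_smul, zero_sub]
      change g ⬝ₘ _ = g ⬝ₘ _
      rw [← neg_one_smul F a.2, tm_smul_left, neg_one_smul, sub_neg_eq_add]
  have hdim : finrank F (LinearMap.range N.mulVecLin) = 2 * n₁ := by
    rw [hrange, LinearMap.finrank_range_of_inj hΦi, Module.finrank_prod, finrank_fintype_fun_eq_card,
      Fintype.card_fin]
    ring
  -- isometry
  have hiso : ∀ a a' w w', fa (A *ᵥ a) (A *ᵥ a') * fb (B *ᵥ w) (B *ᵥ w') = fa a a' * fb w w' := fun a a' w w' => by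
    have h : τ ((g * z * g⁻¹) ⬝ₘ (tm a w)) ((g * z * g⁻¹) ⬝ₘ (tm a' w')) = τ (tm a w) (tm a' w') := by
      rw [gl_mul_mulVec, gl_mul_mulVec, gl_mul_mulVec, gl_mul_mulVec, hgi, C.iso z (C.zt_mem P0 hz).1, ← hgi,
        gl_mulVec_inv_cancel, gl_mulVec_inv_cancel]
    rw [← hy] at h
    have e : ∀ a w, y ⬝ₘ (tm a w) = tm (A *ᵥ a) (B *ᵥ w) := fun a w => by
      have h := hNt a w
      rw [hN, Matrix.sub_mulVec, Matrix.one_mulVec, sub_eq_iff_eq_add] at h
      rw [h, hAm, hBm, tm_add_left, tm_add_right, tm_add_right]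
      abel
    rwa [e, e, C.tt, C.tt] at h
  rcases hor with hM0 | hN0
  · have hA1 : ∀ a, A *ᵥ a = a := fun a => by rw [hAm, hM0, Matrix.zero_mulVec, add_zero]
    have hN1 : ∀ a w, N *ᵥ tm a w = tm a (Nb *ᵥ w) := fun a w => by
      rw [hNt, hM0, Matrix.zero_mulVec, tm_zero_left, tm_zero_left, zero_add, add_zero]
    obtain ⟨a₀, ha₀⟩ : ∃ a₀ : Fin n₁ → F, a₀ ≠ 0 := ⟨fun _ => 1, fun h => one_ne_zero (congrFun h (Classical.arbitrary _))⟩
    obtain ⟨a₁, ha₁⟩ := exists_nonorth C.a ha₀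
    have hBi : ∀ w w', fb (B *ᵥ w) (B *ᵥ w') = fb w w' := fun w w' => by
      have h := hiso a₁ a₀ w w'
      rw [hA1, hA1] at h
      exact mul_left_cancel₀ ha₁ h
    have hBB : ∀ w, Nb *ᵥ (Nb *ᵥ w) = 0 := fun w => by
      have h := congrArg (fun A => A *ᵥ tm a₀ w) hN2
      simp only [← Matrix.mulVec_mulVec, hN1, Matrix.zero_mulVec] at h
      exact (tm_eq_zero h).resolve_left ha₀
    have hsk : ∀ w w', fb (Nb *ᵥ w) w' = -fb w (Nb *ᵥ w') := fun w w' => by
      have h := hBi w w'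
      have h' := hBi (Nb *ᵥ w) w'
      rw [hBm, hBm, ladd C.b, radd C.b, radd C.b] at h
      rw [hBm, hBm, hBB, add_zero, radd C.b] at h'
      linear_combination h - h'
    obtain ⟨r, hr⟩ : ∃ r, finrank F (LinearMap.range Nb.mulVecLin) = r := ⟨_, rfl⟩
    -- dimension
    let img : (Fin n₂ → F) → LinearMap.range Nb.mulVecLin := fun w => ⟨Nb.mulVecLin w, LinearMap.mem_range_self _ w⟩
    have himgv : ∀ w, (img w : Fin n₂ → F) = Nb *ᵥ w := fun w => rfl
    have hr2 : r = 2 := by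
      let b := (Module.finBasisOfFinrankEq F _ hr)
      let Ψ : (Fin r → (Fin n₁ → F)) →ₗ[F] (κ → F) :=
        { toFun := fun ψ => ∑ j, tm (ψ j) (b j : Fin n₂ → F)
          map_add' := fun ψ φ => by simp only [Pi.add_apply, tm_add_left, Finset.sum_add_distrib]
          map_smul' := fun c ψ => by simp only [Pi.smul_apply, tm_smul_left, Finset.smul_sum, RingHom.id_apply] }
      have hΨi : Function.Injective Ψ := by
        rw [← LinearMap.ker_eq_bot, LinearMap.ker_eq_bot']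
        intro ψ hψ
        funext j i
        have h : ∑ j, ψ j i • (b j) = 0 := Subtype.ext (funext fun k => by
          have := congrFun hψ (i, k)
          simpa [Ψ, tm_apply, Finset.sum_apply] using this)
        exact Fintype.linearIndependent_iff.mp b.linearIndependent (fun j => ψ j i) h j
      have hrΨ : LinearMap.range N.mulVecLin = LinearMap.range Ψ := by
        refine le_antisymm ?_ ?_
        · rintro _ ⟨x, rfl⟩
          rw [sum_rows x, map_sum]
          refine Submodule.sum_mem _ fun i _ => ?_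
          refine ⟨fun j => b.repr (img (Form.row x i)) j • (Pi.single i 1 : Fin n₁ → F), ?_⟩
          rw [Matrix.mulVecLin_apply, hN1]
          have h := congrArg (fun z : LinearMap.range Nb.mulVecLin => (z : Fin n₂ → F))
            (b.sum_repr (img (Form.row x i)))
          simp only [Submodule.coe_sum, Submodule.coe_smul, himgv] at h
          funext p
          simp only [Ψ, LinearMap.coe_mk, AddHom.coe_mk, tm_smul_left, ← tm_smul_right, Finset.sum_apply, tm_apply,
            ← Finset.mul_sum]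
          rw [← congrFun h p.2, Finset.sum_apply]
        · rintro _ ⟨ψ, rfl⟩
          change ∑ j, tm (ψ j) (b j : Fin n₂ → F) ∈ _
          refine Submodule.sum_mem _ fun j _ => ?_
          obtain ⟨w, hw⟩ := (b j).2
          exact ⟨tm (ψ j) w, by rw [Matrix.mulVecLin_apply, hN1, ← hw]; rfl⟩
      have h := LinearMap.finrank_range_of_inj hΨi
      rw [← hrΨ, hdim, Module.finrank_pi_fintype, Finset.sum_const, Finset.card_univ, Fintype.card_fin,
        finrank_fintype_fun_eq_card, Fintype.card_fin, smul_eq_mul] at h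
      exact (Nat.eq_of_mul_eq_mul_right (by have := C.da; omega) h).symm
    subst hr2
    let b := (Module.finBasisOfFinrankEq F _ hr)
    obtain ⟨p, hpdef⟩ : ∃ p, p = (b 0 : Fin n₂ → F) := ⟨_, rfl⟩
    obtain ⟨q, hqdef⟩ : ∃ q, q = (b 1 : Fin n₂ → F) := ⟨_, rfl⟩
    obtain ⟨φ, hφ⟩ : ∃ φ : (Fin n₂ → F) → Fin 2 → F, φ = fun w => ⇑(b.repr (img w)) := ⟨_, rfl⟩
    have hdec : ∀ w, Nb *ᵥ w = φ w 0 • p + φ w 1 • q := fun w => by
      have h := congrArg (fun z : LinearMap.range Nb.mulVecLin => (z : Fin n₂ → F))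
        (b.sum_repr (img w))
      simp only [Fin.sum_univ_two, Submodule.coe_add, Submodule.coe_smul, himgv] at h
      rw [hφ, hpdef, hqdef]
      exact h.symm
    obtain ⟨w₀, hw₀⟩ := (b 0).2
    obtain ⟨w₁, hw₁⟩ := (b 1).2
    rw [Matrix.mulVecLin_apply, ← hpdef] at hw₀
    rw [Matrix.mulVecLin_apply, ← hqdef] at hw₁
    have himg : ∀ a b', fb (Nb *ᵥ a) (Nb *ᵥ b') = 0 := fun a b' => by
      rw [hsk, hBB, rzero C.b, neg_zero]
    have hind : ∀ r s : F, r • p + s • q = 0 → r = 0 ∧ s = 0 := fun r s h => by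
      have h' : ∑ j : Fin 2, ![r, s] j • b j = 0 := Subtype.ext (by
        simpa [Fin.sum_univ_two, hpdef, hqdef] using h)
      have := Fintype.linearIndependent_iff.mp b.linearIndependent ![r, s] h'
      exact ⟨this 0, this 1⟩
    have Ppq : Pl fb p q := ⟨hw₀ ▸ himg w₀ w₀, hw₀ ▸ hw₁ ▸ himg w₀ w₁, hw₁ ▸ himg w₁ w₁, hind⟩
    obtain ⟨p', q', Q⟩ := exists_frame C.b C.h2 Ppq
    have hα : φ p' 0 = 0 := by
      have h := hsk p' p'
      rw [symm' C.b (Nb *ᵥ p') p', hdec, ladd C.b, lsmul C.b, lsmul C.b, symm' C.b p' p, symm' C.b p' q, Q.u'u,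
        Q.u'v] at h
      exact (mul_eq_zero.mp (by linear_combination h : (2 : F) * φ p' 0 = 0)).resolve_left C.h2
    have hδ : φ q' 1 = 0 := by
      have h := hsk q' q'
      rw [symm' C.b (Nb *ᵥ q') q', hdec, ladd C.b, lsmul C.b, lsmul C.b, symm' C.b q' p, symm' C.b q' q, Q.v'u,
        Q.v'v] at h
      exact (mul_eq_zero.mp (by linear_combination h : (2 : F) * φ q' 1 = 0)).resolve_left C.h2
    have hγ : φ q' 0 = -φ p' 1 := by
      have h := hsk q' p'
      rw [hdec, hdec, ladd C.b, radd C.b, lsmul C.b, lsmul C.b, rsmul C.b, rsmul C.b, symm' C.b p' p, symm' C.b p' q,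
        Q.u'u, Q.u'v, Q.v'u, Q.v'v] at h
      linear_combination h
    have hval : ∀ w, Nb *ᵥ w = (fb w p * φ p' 1) • q - (fb w q * φ p' 1) • p := fun w => by
      have e0 : φ w 0 = -(fb w q * φ p' 1) := by
        have h := hsk w p'
        rw [hdec, hdec p', hα, zero_smul, zero_add, ladd C.b, lsmul C.b, lsmul C.b, rsmul C.b, symm' C.b p' p,
          symm' C.b p' q, Q.u'u, Q.u'v] at h
        linear_combination h
      have e1 : φ w 1 = fb w p * φ p' 1 := by
        have h := hsk w q'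
        rw [hdec, hdec q', hδ, hγ, zero_smul, add_zero, ladd C.b, lsmul C.b, lsmul C.b, rsmul C.b, symm' C.b q' p,
          symm' C.b q' q, Q.v'u, Q.v'v] at h
        linear_combination h
      rw [hdec, e0, e1]
      module
    obtain ⟨c, hc⟩ : ∃ c, c = φ p' 1 := ⟨_, rfl⟩
    have hc0 : c ≠ 0 := fun h0 => by
      have h := hval w₀
      rw [← hc, h0, mul_zero, mul_zero, zero_smul, zero_smul, sub_zero, hw₀] at h
      exact one_ne_zero (hind 1 0 (by rw [h]; simp)).1
    refine Or.inl ⟨p, c • q, ⟨Ppq.uu, by rw [rsmul C.b, Ppq.uv, mul_zero],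
      by rw [lsmul C.b, rsmul C.b, Ppq.vv, mul_zero, mul_zero], fun r s h => ?_⟩, fun x => ?_⟩
    · rw [smul_smul] at h
      obtain ⟨h1, h2⟩ := hind r (s * c) h
      exact ⟨h1, (mul_eq_zero.mp h2).resolve_right hc0⟩
    · have hx : N *ᵥ x = tm (ctr fb p x) (c • q) - tm (ctr fb (c • q) x) p := by
        conv_lhs => rw [sum_rows x, Matrix.mulVec_sum]
        funext k
        simp only [hN1, hval, ← hc, Finset.sum_apply, Pi.sub_apply, Pi.smul_apply, smul_eq_mul, tm_apply,
          C.csmul_vec, mul_sub, Finset.sum_sub_distrib]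
        rw [Finset.sum_eq_single k.1 (fun j _ hj => by simp [Ne.symm hj]) (by simp),
          Finset.sum_eq_single k.1 (fun j _ hj => by simp [Ne.symm hj]) (by simp)]
        simp only [Pi.single_eq_same, show ∀ d, ctr fb d x k.1 = fb (Form.row x k.1) d from fun _ => rfl]
        ring
      rw [one_smul, one_smul, add_sub_assoc, ← hx, hN, Matrix.sub_mulVec, Matrix.one_mulVec, add_sub_cancel]
  · refine Or.inr ⟨?_, A, ?_⟩
    rotate_left
    · rw [hAB, show B = 1 by rw [← sub_eq_zero, ← hNb, hN0]]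
    have hN1 : ∀ a w, N *ᵥ tm a w = tm (M *ᵥ a) w := fun a w => by
      rw [hNt, hN0, Matrix.zero_mulVec, tm_zero_right, tm_zero_right, add_zero, add_zero]
    have hB1 : ∀ w, B *ᵥ w = w := fun w => by rw [hBm, hN0, Matrix.zero_mulVec, add_zero]
    have hu0 : u ≠ 0 := fun h => one_ne_zero (by rw [← P.u'u, h, rzero C.b])
    have hAi : ∀ a a', fa (A *ᵥ a) (A *ᵥ a') = fa a a' := fun a a' => by
      have h := hiso a a' u' u
      rw [hB1, hB1, P.u'u, mul_one, mul_one] at h
      exact h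
    have hMM : ∀ a, M *ᵥ (M *ᵥ a) = 0 := fun a => by
      have h := congrArg (fun A => A *ᵥ tm a u) hN2
      simp only [← Matrix.mulVec_mulVec, hN1, Matrix.zero_mulVec] at h
      exact (tm_eq_zero h).resolve_right hu0
    have hsk : ∀ a a', fa (M *ᵥ a) a' = -fa a (M *ᵥ a') := fun a a' => by
      have h := hAi a a'
      have h' := hAi (M *ᵥ a) a'
      rw [hAm, hAm, ladd C.a, radd C.a, radd C.a] at h
      rw [hAm, hAm, hMM, add_zero, radd C.a] at h'
      linear_combination h - h'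
    obtain ⟨k, hk⟩ := even_rank C.a C.h2 M hsk
    let Ψ : (Fin n₂ → LinearMap.range M.mulVecLin) →ₗ[F] (κ → F) :=
      { toFun := fun ψ p => (ψ p.2 : Fin n₁ → F) p.1
        map_add' := fun ψ φ => rfl
        map_smul' := fun c ψ => rfl }
    have hΨi : Function.Injective Ψ := fun ψ φ h =>
      funext fun j => Subtype.ext (funext fun i => congrFun h (i, j))
    have hrΨ : LinearMap.range N.mulVecLin = LinearMap.range Ψ := by
      refine le_antisymm ?_ ?_
      · rintro _ ⟨x, rfl⟩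
        refine ⟨fun j => ⟨M *ᵥ (fun i => x (i, j)), _, rfl⟩, ?_⟩
        rw [Matrix.mulVecLin_apply]
        conv_rhs => rw [sum_rows x, Matrix.mulVec_sum]
        funext p
        simp only [Ψ, LinearMap.coe_mk, AddHom.coe_mk, hN1, Finset.sum_apply, tm_apply, Form.row]
        rw [Matrix.mulVec, dotProduct]
        exact Finset.sum_congr rfl fun i _ => by rw [Matrix.mulVec_single_one]; rfl
      · rintro _ ⟨ψ, rfl⟩
        have : Ψ ψ = ∑ j, tm (ψ j : Fin n₁ → F) (Pi.single j 1) := funext fun p => by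
          simp [Ψ, Finset.sum_apply, tm_apply, Pi.single_apply]
        rw [this]
        refine Submodule.sum_mem _ fun j _ => ?_
        obtain ⟨a, ha⟩ := (ψ j).2
        exact ⟨tm a (Pi.single j 1), by rw [Matrix.mulVecLin_apply, hN1, ← ha]; rfl⟩
    have h := LinearMap.finrank_range_of_inj hΨi
    rw [← hrΨ, hdim, Module.finrank_pi_fintype, Finset.sum_const, Finset.card_univ, Fintype.card_fin, hk,
      smul_eq_mul, ← two_mul, ← mul_assoc, mul_comm n₂ 2, mul_assoc] at h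
    exact ⟨k, mul_left_cancel₀ (two_ne_zero) h⟩

end Cfsg.Agent.Classical.TensorMax.OO
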