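/-
Root elements are moved into the tensor stabiliser only by the stabiliser.
-/
import Cfsg.Agent.Lib.Classical.TensorMax.OO.Root

set_option autoImplicit false
set_option linter.unusedSectionVars false

namespace Cfsg.Agent.Classical.TensorMax.OO

open Matrix Module Cfsg.Geo
open Cfsg.Agent.Classical Cfsg.Agent.Classical.TensorMax Cfsg.Agent.Classical.TensorMax.Form

variable {n₁ n₂ : ℕ} {F : Type*} [Field F] [Fintype F]
variable {fa : (Fin n₁ → F) → (Fin n₁ → F) → F} {fb : (Fin n₂ → F) → (Fin n₂ → F) → F}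
variable {X : Subgroup (GL (Fin n₁ × Fin n₂) F)}

local notation "κ" => Fin n₁ × Fin n₂
local notation:max g:max " ⬝ₘ " x:max =>
  ((g : GL (Fin n₁ × Fin n₂) F) : Matrix (Fin n₁ × Fin n₂) (Fin n₁ × Fin n₂) F) *ᵥ x
local notation "τ" => tf (RingEquiv.refl F) fa fb
local notation "VA" => Fin n₁ → F
local notation "VB" => Fin n₂ → F

variable (C : Ctx fa fb X)

include C

/-- An element of the radical of a plane commuting up to root elements with the Siegel elements of the second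
factor has scalar contractions. -/
theorem rad_scalar (hU : NoU fb X) {p q p' q' : VB} (P : Frame fb p q p' q') {r : GL κ F}
    (hr : ∀ x y, τ (r ⬝ₘ x) (r ⬝ₘ y) = τ x y) (hp : ∀ a, r ⬝ₘ (tm a p) = tm a p)
    (hq : ∀ a, r ⬝ₘ (tm a q) = tm a q)
    (hl : ∀ y, ctr fb p y = 0 → ctr fb q y = 0 → ∀ w, Off fb p q p' q' w →
      ctr fb w (r ⬝ₘ y) = ctr fb w y)
    (hX : ∀ t ∈ SGen fb, r * kr 1 t * r⁻¹ * (kr 1 t)⁻¹ ∈ X) {w : VB} (hw : Off fb p q p' q' w) :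
    ∃ l : F, ∀ a : VA, ctr fb w (r ⬝ₘ (tm a q')) = l • a := by
  obtain ⟨hwp, hwq, hwp', hwq'⟩ := hw
  obtain ⟨t, ht, htG⟩ := exists_sg' C.b C.h2 P.pl.uu hwp
  obtain ⟨x, hx⟩ : ∃ x, x = kr (1 : GL (Fin n₁) F) t := ⟨_, rfl⟩
  have hxa : ∀ y, x ⬝ₘ y = y + tm (ctr fb p y) w - tm ((2⁻¹ * fb w w) • ctr fb p y + ctr fb w y) p :=
    fun y => hx ▸ C.kr_sg ht y
  have hxiso : ∀ y y', τ (x ⬝ₘ y) (x ⬝ₘ y') = τ y y' := C.iso x (hx ▸ C.right_mem htG)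
  have hxp : ∀ a, x ⬝ₘ (tm a p) = tm a p := fun a => by
    rw [hxa, C.ctm, C.ctm, P.pl.uu, symm' C.b w p, hwp]; simp
  have hxq : ∀ a, x ⬝ₘ (tm a q) = tm a q := fun a => by
    rw [hxa, C.ctm, C.ctm, (P.pl.swap C.b).uv, symm' C.b w q, hwq]; simp
  obtain ⟨g, hg⟩ : ∃ g, g = r * x * r⁻¹ * x⁻¹ := ⟨_, rfl⟩
  have hgrx : g * (x * r) = r * x := by rw [hg]; group
  have hfix : Fix fb p q g := fun y h1 h2 => by
    obtain ⟨y₂, rfl⟩ : ∃ y₂, y = (x * r) ⬝ₘ y₂ := ⟨_, (gl_mulVec_inv_cancel (x * r) y).symm⟩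
    rw [← gl_mul_mulVec, hgrx]
    rw [gl_mul_mulVec, C.ctr_fixed hxiso hxp, C.ctr_fixed hr hp] at h1
    rw [gl_mul_mulVec, C.ctr_fixed hxiso hxq, C.ctr_fixed hr hq] at h2
    have e1 : ctr fb p (r ⬝ₘ y₂) = 0 := by rw [C.ctr_fixed hr hp, h1]
    rw [gl_mul_mulVec, gl_mul_mulVec, hxa, hxa, h1, e1, hl y₂ h1 h2 w ⟨hwp, hwq, hwp', hwq'⟩]
    simp only [smul_zero, zero_add, tm_zero_left, add_zero, Matrix.mulVec_sub, hp]
  obtain ⟨l, hl'⟩ := hU p q P.pl g (hg ▸ hx ▸ hX t htG) hfix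
  refine ⟨-l, fun a => ?_⟩
  obtain ⟨D, hD⟩ : ∃ D, D = r ⬝ₘ (tm a q') := ⟨_, rfl⟩
  rw [← hD]
  have hDp : ctr fb p D = 0 := by rw [hD, C.ctr_fixed hr hp, C.ctm, P.v'u, zero_smul]
  have hDq : ctr fb q D = a := by rw [hD, C.ctr_fixed hr hq, C.ctm, P.v'v, one_smul]
  have h := congrArg (fun G : GL κ F => G ⬝ₘ (tm a q')) hgrx
  have e2 : x ⬝ₘ (tm a q') = tm a q' := by
    rw [hxa, C.ctm, C.ctm, P.v'u, symm' C.b w q', hwq']; simp
  have e3 : x ⬝ₘ D = D - tm (ctr fb w D) p := by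
    rw [hxa, hDp]; simp
  simp only [gl_mul_mulVec] at h
  rw [e2, ← hD, hl' (x ⬝ₘ D), C.ctr_fixed hxiso hxp, C.ctr_fixed hxiso hxq, hDp, hDq, e3, smul_zero,
    tm_zero_left, add_zero] at h
  have h' := congrArg (ctr fb p') h
  simp only [C.csub, C.ctm, symm' C.b p' p, P.u'u, one_smul] at h'
  rw [neg_smul, eq_neg_iff_add_eq_zero]
  linear_combination (norm := module) -h'

/-- An element fixing the orthogonal of a plane and commuting up to root elements with the first factor is a root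
element. -/
theorem fix_scalar (hU : NoU fb X) {p q p' q' : VB} (P : Frame fb p q p' q') {g : GL κ F}
    (hg : ∀ x y, τ (g ⬝ₘ x) (g ⬝ₘ y) = τ x y) (hfix : Fix fb p q g)
    (hX : ∀ s ∈ SGen fa, g * kr s 1 * g⁻¹ * (kr s (1 : GL (Fin n₂) F))⁻¹ ∈ X) : ∃ c, Zt fb p q c g := by
  classical
  have hfp : ∀ a, g ⬝ₘ (tm a p) = tm a p := fun a => hfix _
    (by rw [C.ctm, P.pl.uu, zero_smul]) (by rw [C.ctm, P.pl.uv, zero_smul])
  have hfq : ∀ a, g ⬝ₘ (tm a q) = tm a q := fun a => hfix _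
    (by rw [C.ctm, (P.pl.swap C.b).uv, zero_smul]) (by rw [C.ctm, P.pl.vv, zero_smul])
  have hfw : ∀ w, Off fb p q p' q' w → ∀ a, g ⬝ₘ (tm a w) = tm a w := fun w hw a => hfix _
    (by rw [C.ctm, hw.1, zero_smul]) (by rw [C.ctm, hw.2.1, zero_smul])
  -- the four slots
  let slot : VB → VB → VA →ₗ[F] VA := fun d o =>
    { toFun := fun a => ctr fb d (g ⬝ₘ (tm a o))
      map_add' := fun a b => by rw [tm_add_left, Matrix.mulVec_add, C.cadd]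
      map_smul' := fun c a => by rw [tm_smul_left, Matrix.mulVec_smul, ctr_smul C.data, RingHom.id_apply] }
  have hleft : ∀ s ∈ SGen fa, ∀ d y, ctr fb d ((kr s (1 : GL (Fin n₂) F)) ⬝ₘ y) =
      ((s : Matrix (Fin n₁) (Fin n₁) F) *ᵥ ctr fb d y) := fun s hs d y => by
    refine ctr_eq C.data fun a => ?_
    conv_lhs => rw [← gl_mulVec_inv_cancel s a]
    have hkr : ∀ b, (kr s (1 : GL (Fin n₂) F)) ⬝ₘ (tm b d) = tm ((s : Matrix (Fin n₁) (Fin n₁) F) *ᵥ b) d :=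
      fun b => by rw [kr_tm, Units.val_one, Matrix.one_mulVec]
    rw [← hkr, C.iso _ (C.small s 1 hs (one_mem _)), tf_tm_right C.data]
    conv_rhs => rw [← gl_mulVec_inv_cancel s a, sgen_iso C.a C.h2 hs]
  have rel : ∀ s ∈ SGen fa, ∃ l : F, ∀ a : VA,
      slot q' p' ((s : Matrix (Fin n₁) (Fin n₁) F) *ᵥ a) =
          (s : Matrix (Fin n₁) (Fin n₁) F) *ᵥ slot q' p' a + l • ((s : Matrix (Fin n₁) (Fin n₁) F) *ᵥ a) ∧
      slot p' q' ((s : Matrix (Fin n₁) (Fin n₁) F) *ᵥ a) =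
          (s : Matrix (Fin n₁) (Fin n₁) F) *ᵥ slot p' q' a + (-l) • ((s : Matrix (Fin n₁) (Fin n₁) F) *ᵥ a) ∧
      slot p' p' ((s : Matrix (Fin n₁) (Fin n₁) F) *ᵥ a) = (s : Matrix (Fin n₁) (Fin n₁) F) *ᵥ slot p' p' a ∧
      slot q' q' ((s : Matrix (Fin n₁) (Fin n₁) F) *ᵥ a) = (s : Matrix (Fin n₁) (Fin n₁) F) *ᵥ slot q' q' a := by
    intro s hs
    obtain ⟨x, hx⟩ : ∃ x, x = kr s (1 : GL (Fin n₂) F) := ⟨_, rfl⟩
    obtain ⟨g', hg'⟩ : ∃ g', g' = g * x * g⁻¹ * x⁻¹ := ⟨_, rfl⟩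
    have hxt : ∀ a o, x ⬝ₘ (tm a o) = tm ((s : Matrix (Fin n₁) (Fin n₁) F) *ᵥ a) o := fun a o => by
      rw [hx, kr_tm, Units.val_one, Matrix.one_mulVec]
    have hfix' : Fix fb p q g' := fun y h1 h2 => by
      obtain ⟨y₁, rfl⟩ : ∃ y₁, y = x ⬝ₘ y₁ := ⟨_, (gl_mulVec_inv_cancel x y).symm⟩
      rw [hx, hleft s hs] at h1 h2
      have k1 : ctr fb p y₁ = 0 := by rw [← gl_inv_mulVec_cancel s (ctr fb p y₁), h1, Matrix.mulVec_zero]
      have k2 : ctr fb q y₁ = 0 := by rw [← gl_inv_mulVec_cancel s (ctr fb q y₁), h2, Matrix.mulVec_zero]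
      have k3 : g⁻¹ ⬝ₘ y₁ = y₁ := by conv_lhs => rw [← hfix y₁ k1 k2, gl_inv_mulVec_cancel]
      rw [hg', gl_mul_mulVec, gl_mul_mulVec, gl_mul_mulVec, gl_inv_mulVec_cancel, k3,
        hfix _ (by rw [hx, hleft s hs, k1, Matrix.mulVec_zero]) (by rw [hx, hleft s hs, k2, Matrix.mulVec_zero])]
    obtain ⟨l, hl⟩ := hU p q P.pl g' (hg' ▸ hx ▸ hX s hs) hfix'
    refine ⟨l, fun a => ?_⟩
    have e : ∀ o, g ⬝ₘ (tm ((s : Matrix (Fin n₁) (Fin n₁) F) *ᵥ a) o) = g' ⬝ₘ (x ⬝ₘ (g ⬝ₘ (tm a o))) := fun o => by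
      rw [← hxt, ← gl_mul_mulVec, ← gl_mul_mulVec, ← gl_mul_mulVec, hg']
      congr 2
      group
    refine ⟨?_, ?_, ?_, ?_⟩ <;>
      simp only [slot, LinearMap.coe_mk, AddHom.coe_mk, e, hl _] <;>
      simp only [hx, C.csub, C.cadd, C.ctm, hleft s hs, C.ctr_fixed hg hfp, C.ctr_fixed hg hfq, P.u'u, P.u'v, P.v'u,
        P.v'v, symm' C.b p' q, symm' C.b q' p, symm' C.b p' p, symm' C.b q' q, one_smul, zero_smul, smul_zero,
        sub_zero, add_zero, Matrix.mulVec_zero] <;>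
      module
  have scal : ∀ d o, (∀ s ∈ SGen fa, ∃ l : F, ∀ a : VA, slot d o ((s : Matrix (Fin n₁) (Fin n₁) F) *ᵥ a) =
      (s : Matrix (Fin n₁) (Fin n₁) F) *ᵥ slot d o a + l • ((s : Matrix (Fin n₁) (Fin n₁) F) *ᵥ a)) →
      ∃ m : F, ∀ a, slot d o a = m • a := by
    intro d o h
    obtain ⟨m, hm⟩ := scalar_of_comm C.a C.h2 C.da' C.hex' (LinearMap.toMatrix' (slot d o))
      fun e w σ he hw hσ => by
        obtain ⟨l, hl⟩ := h σ (Subgroup.subset_closure ⟨e, w, he, hw, hσ⟩)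
        exact ⟨l, fun a => by simpa only [← Matrix.toLin'_apply, Matrix.toLin'_toMatrix'] using hl a⟩
    exact ⟨m, fun a => by rw [← hm a, ← Matrix.toLin'_apply, Matrix.toLin'_toMatrix']⟩
  obtain ⟨m₁, hm₁⟩ := scal p' p' fun s hs => by
    obtain ⟨l, hl⟩ := rel s hs; exact ⟨0, fun a => by rw [(hl a).2.2.1, zero_smul, add_zero]⟩
  obtain ⟨m₄, hm₄⟩ := scal q' q' fun s hs => by
    obtain ⟨l, hl⟩ := rel s hs; exact ⟨0, fun a => by rw [(hl a).2.2.2, zero_smul, add_zero]⟩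
  obtain ⟨m₂, hm₂⟩ := scal q' p' fun s hs => by
    obtain ⟨l, hl⟩ := rel s hs; exact ⟨l, fun a => (hl a).1⟩
  obtain ⟨m₃, hm₃⟩ := scal p' q' fun s hs => by
    obtain ⟨l, hl⟩ := rel s hs; exact ⟨-l, fun a => (hl a).2.1⟩
  simp only [slot, LinearMap.coe_mk, AddHom.coe_mk] at hm₁ hm₂ hm₃ hm₄
  have img : ∀ a, g ⬝ₘ (tm a p') = tm a p' + tm (m₁ • a) p + tm (m₂ • a) q ∧
      g ⬝ₘ (tm a q') = tm a q' + tm (m₃ • a) p + tm (m₄ • a) q := fun a => by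
    constructor <;> refine C.ext_frame P ?_ ?_ ?_ ?_ (fun w hw => ?_) <;>
      simp only [C.ctr_fixed hg hfp, C.ctr_fixed hg hfq, hm₁, hm₂, hm₃, hm₄, C.cadd, C.ctm, P.pl.uu, P.pl.uv,
        P.pl.vv, (P.pl.swap C.b).uv, P.u'u, P.u'v, P.v'u, P.v'v, P.u'u', P.v'v', P.u'v', symm' C.b p' q,
        symm' C.b q' p, symm' C.b p' p, symm' C.b q' q, symm' C.b p' q', one_smul, zero_smul, add_zero,
        zero_add, smul_zero] <;>
      simp only [C.ctr_fixed hg (hfw w hw), C.ctm, symm' C.b w p, symm' C.b w q, hw.1, hw.2.1, symm' C.b w p',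
        symm' C.b w q', hw.2.2.1, hw.2.2.2, zero_smul, add_zero]
  obtain ⟨a₀, ha₀⟩ : ∃ a₀ : VA, a₀ ≠ 0 :=
    ⟨fun _ => 1, fun h => one_ne_zero (congrFun h ⟨0, by have := C.da; omega⟩)⟩
  obtain ⟨a₁, ha₁⟩ := exists_nonorth C.a ha₀
  have h11 := hg (tm a₁ p') (tm a₀ p')
  have h44 := hg (tm a₁ q') (tm a₀ q')
  have h23 := hg (tm a₁ p') (tm a₀ q')
  simp only [(img _).1, (img _).2, (tf_semi C.data).add_left, (tf_semi C.data).add_right, C.tt, lsmul C.a,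
    rsmul C.a, P.pl.uu, P.pl.uv, P.pl.vv, (P.pl.swap C.b).uv, P.u'u, P.u'v, P.v'u, P.v'v, P.u'u', P.v'v', P.u'v',
    symm' C.b p' q, symm' C.b q' p, symm' C.b p' p, symm' C.b q' q] at h11 h44 h23
  have hm1 : m₁ = 0 := (mul_eq_zero.mp ((mul_eq_zero.mp
    (by linear_combination h11 : (2 : F) * (m₁ * fa a₁ a₀) = 0)).resolve_left C.h2)).resolve_right ha₁
  have hm4 : m₄ = 0 := (mul_eq_zero.mp ((mul_eq_zero.mp
    (by linear_combination h44 : (2 : F) * (m₄ * fa a₁ a₀) = 0)).resolve_left C.h2)).resolve_right ha₁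
  have hm23 : m₂ + m₃ = 0 := (mul_eq_zero.mp
    (by linear_combination h23 : (m₂ + m₃) * fa a₁ a₀ = 0)).resolve_right ha₁
  refine ⟨m₂, fun y => ?_⟩
  obtain ⟨y₀, hy₀⟩ : ∃ y₀, y₀ = y - tm (ctr fb p y) p' - tm (ctr fb q y) q' := ⟨_, rfl⟩
  have k1 : ctr fb p y₀ = 0 := by rw [hy₀, C.csub, C.csub, C.ctm, C.ctm, P.u'u, P.v'u]; simp
  have k2 : ctr fb q y₀ = 0 := by rw [hy₀, C.csub, C.csub, C.ctm, C.ctm, P.u'v, P.v'v]; simp
  conv_lhs => rw [show y = y₀ + tm (ctr fb p y) p' + tm (ctr fb q y) q' by rw [hy₀]; abel]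
  rw [Matrix.mulVec_add, Matrix.mulVec_add, hfix y₀ k1 k2, (img _).1, (img _).2, hm1, hm4,
    eq_neg_of_add_eq_zero_right hm23, hy₀]
  simp only [zero_smul, tm_zero_left, add_zero, tm_smul_left]
  module

/-- An isometry conjugating the small elements into the group and a root element to a root element lies in the
stabiliser. -/
theorem moves_core (hU : NoU fb X) {g : GL κ F} (hgi : ∀ x y, τ (g ⬝ₘ x) (g ⬝ₘ y) = τ x y)
    (hgX : ∀ s t, s ∈ SGen fa → t ∈ SGen fb → g * kr s t * g⁻¹ ∈ X) {u v : VB} (P₀ : Pl fb u v) {z : GL κ F}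
    (hz : Zt fb u v 1 z) {p₀ q₀ : VB} (Ppq : Pl fb p₀ q₀) (hy : Zt fb p₀ q₀ 1 (g * z * g⁻¹)) :
    g ∈ Kr (Fin n₁) (Fin n₂) F := by
  classical
  obtain ⟨u', v', P⟩ := exists_frame C.b C.h2 P₀
  obtain ⟨p₀', q₀', Q⟩ := exists_frame C.b C.h2 Ppq
  have hE : ∀ x, g ⬝ₘ (tm (ctr fb u x) v - tm (ctr fb v x) u) =
      tm (ctr fb p₀ (g ⬝ₘ x)) q₀ - tm (ctr fb q₀ (g ⬝ₘ x)) p₀ := fun x => by
    have h := hy (g ⬝ₘ x)
    rw [gl_mul_mulVec, gl_mul_mulVec, gl_inv_mulVec_cancel, hz, one_smul, one_smul, one_smul, one_smul,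
      add_sub_assoc, add_sub_assoc, Matrix.mulVec_add] at h
    exact add_left_cancel h
  have perp : ∀ x, (ctr fb u x = 0 ∧ ctr fb v x = 0) ↔
      (ctr fb p₀ (g ⬝ₘ x) = 0 ∧ ctr fb q₀ (g ⬝ₘ x) = 0) := fun x => by
    constructor
    · rintro ⟨h1, h2⟩
      have h := hE x
      rw [h1, h2, tm_zero_left, tm_zero_left, sub_self, Matrix.mulVec_zero] at h
      have e1 := congrArg (ctr fb q₀') h
      have e2 := congrArg (ctr fb p₀') h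
      simp only [C.csub, C.ctm, C.czero, symm' C.b q₀' p₀, symm' C.b q₀' q₀, symm' C.b p₀' p₀, symm' C.b p₀' q₀,
        Q.v'u, Q.v'v, Q.u'u, Q.u'v, one_smul, zero_smul, sub_zero, zero_sub] at e1 e2
      exact ⟨e1.symm, neg_eq_zero.mp e2.symm⟩
    · rintro ⟨h1, h2⟩
      have h := hE x
      rw [h1, h2, tm_zero_left, tm_zero_left, sub_self] at h
      have h0 : tm (ctr fb u x) v - tm (ctr fb v x) u = 0 :=
        gl_mulVec_injective g (show g ⬝ₘ _ = g ⬝ₘ _ by rw [Matrix.mulVec_zero]; exact h)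
      have e1 := congrArg (ctr fb v') h0
      have e2 := congrArg (ctr fb u') h0
      simp only [C.csub, C.ctm, C.czero, symm' C.b v' u, symm' C.b v' v, symm' C.b u' u, symm' C.b u' v,
        P.v'u, P.v'v, P.u'u, P.u'v, one_smul, zero_smul, sub_zero, zero_sub] at e1 e2
      exact ⟨e1, neg_eq_zero.mp e2⟩
  have inW : ∀ o, o = u ∨ o = v → ∀ a, ∃ α β, g ⬝ₘ (tm a o) = tm α p₀ + tm β q₀ := by
    rintro o (rfl | rfl) a
    · have h := hE (tm a v')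
      rw [C.ctm, C.ctm, P.v'u, P.v'v, zero_smul, one_smul, tm_zero_left, zero_sub, Matrix.mulVec_neg,
        neg_eq_iff_eq_neg, neg_sub] at h
      refine ⟨ctr fb q₀ (g ⬝ₘ (tm a v')), -ctr fb p₀ (g ⬝ₘ (tm a v')), ?_⟩
      rw [h, ← neg_one_smul F (ctr fb p₀ _), tm_smul_left]; module
    · have h := hE (tm a u')
      rw [C.ctm, C.ctm, P.u'u, P.u'v, zero_smul, one_smul, tm_zero_left, sub_zero] at h
      refine ⟨-ctr fb q₀ (g ⬝ₘ (tm a u')), ctr fb p₀ (g ⬝ₘ (tm a u')), ?_⟩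
      rw [h, ← neg_one_smul F (ctr fb q₀ _), tm_smul_left]; module
  have offW : ∀ o, o = u ∨ o = v → ∀ a w, Off fb p₀ q₀ p₀' q₀' w → ctr fb w (g ⬝ₘ (tm a o)) = 0 :=
    fun o ho a w hw => by
      obtain ⟨α, β, h⟩ := inW o ho a
      rw [h, C.cadd, C.ctm, C.ctm, symm' C.b w p₀, hw.1, symm' C.b w q₀, hw.2.1, zero_smul, zero_smul, add_zero]
  -- contractions of the conjugated Siegel elements
  let K : VB → VB → VA →ₗ[F] VA := fun w w₀ =>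
    { toFun := fun b => ctr fb w (g ⬝ₘ (tm b w₀))
      map_add' := fun a b => by rw [tm_add_left, Matrix.mulVec_add, C.cadd]
      map_smul' := fun c a => by rw [tm_smul_left, Matrix.mulVec_smul, ctr_smul C.data, RingHom.id_apply] }
  let Hh : VB → VB → VA →ₗ[F] VA := fun o x =>
    { toFun := fun a => ctr fb o (g⁻¹ ⬝ₘ (tm a x))
      map_add' := fun a b => by rw [tm_add_left, Matrix.mulVec_add, C.cadd]
      map_smul' := fun c a => by rw [tm_smul_left, Matrix.mulVec_smul, ctr_smul C.data, RingHom.id_apply] }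
  have key : ∀ o, o = u ∨ o = v → ∀ x, x = p₀' ∨ x = q₀' → ∀ w₀, Off fb u v u' v' w₀ →
      ∀ w, Off fb p₀ q₀ p₀' q₀' w → ∃ l : F, ∀ a, K w w₀ (Hh o x a) = l • a := by
    intro o ho x hx w₀ hw₀ w hw
    have hoo : fb o o = 0 := by rcases ho with rfl | rfl; exacts [P.pl.uu, P.pl.vv]
    have hw₀o : fb w₀ o = 0 := by rcases ho with rfl | rfl; exacts [hw₀.1, hw₀.2.1]
    obtain ⟨t, ht, htG⟩ := exists_sg' C.b C.h2 hoo hw₀o
    obtain ⟨x₀, hx₀⟩ : ∃ x₀, x₀ = kr (1 : GL (Fin n₁) F) t := ⟨_, rfl⟩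
    have hx₀X : x₀ ∈ X := hx₀ ▸ C.right_mem htG
    obtain ⟨r, hr⟩ : ∃ r, r = g * x₀ * g⁻¹ := ⟨_, rfl⟩
    have hrX : r ∈ X := hr ▸ hx₀ ▸ hgX 1 t (one_mem _) htG
    have hrx : ∀ y, r ⬝ₘ y = y + g ⬝ₘ (tm (ctr fb o (g⁻¹ ⬝ₘ y)) w₀ -
        tm ((2⁻¹ * fb w₀ w₀) • ctr fb o (g⁻¹ ⬝ₘ y) + ctr fb w₀ (g⁻¹ ⬝ₘ y)) o) := fun y => by
      rw [hr, gl_mul_mulVec, gl_mul_mulVec, hx₀, C.kr_sg ht, add_sub_assoc, Matrix.mulVec_add, gl_mulVec_inv_cancel]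
    have hfixW : ∀ a d, (d = p₀ ∨ d = q₀) → r ⬝ₘ (tm a d) = tm a d := fun a d hd => by
      obtain ⟨α, β, hαβ⟩ : ∃ α β, g⁻¹ ⬝ₘ (tm a d) = tm α u + tm β v := by
        rcases hd with rfl | rfl
        · have h := hE (g⁻¹ ⬝ₘ (tm a q₀'))
          rw [gl_mulVec_inv_cancel, C.ctm, C.ctm, Q.v'u, Q.v'v, zero_smul, one_smul, tm_zero_left, zero_sub,
            eq_neg_iff_add_eq_zero, add_comm, ← eq_neg_iff_add_eq_zero] at h
          refine ⟨ctr fb v (g⁻¹ ⬝ₘ (tm a q₀')), -ctr fb u (g⁻¹ ⬝ₘ (tm a q₀')), ?_⟩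
          rw [h, Matrix.mulVec_neg, gl_inv_mulVec_cancel, ← neg_one_smul F (ctr fb u _), tm_smul_left]; module
        · have h := hE (g⁻¹ ⬝ₘ (tm a p₀'))
          rw [gl_mulVec_inv_cancel, C.ctm, C.ctm, Q.u'u, Q.u'v, zero_smul, one_smul, tm_zero_left, sub_zero] at h
          refine ⟨-ctr fb v (g⁻¹ ⬝ₘ (tm a p₀')), ctr fb u (g⁻¹ ⬝ₘ (tm a p₀')), ?_⟩
          rw [← h, gl_inv_mulVec_cancel, ← neg_one_smul F (ctr fb v _), tm_smul_left]; module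
      rw [hrx, hαβ, C.cadd, C.cadd, C.ctm, C.ctm, C.ctm, C.ctm]
      have e1 : fb u o = 0 ∧ fb v o = 0 := by
        rcases ho with rfl | rfl
        exacts [⟨P.pl.uu, (P.pl.swap C.b).uv⟩, ⟨P.pl.uv, P.pl.vv⟩]
      rw [e1.1, e1.2, symm' C.b w₀ u, hw₀.1, symm' C.b w₀ v, hw₀.2.1]
      simp
    have hl : ∀ y, ctr fb p₀ y = 0 → ctr fb q₀ y = 0 → ∀ w, Off fb p₀ q₀ p₀' q₀' w →
        ctr fb w (r ⬝ₘ y) = ctr fb w y := fun y h1 h2 w hw => by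
      obtain ⟨k1, k2⟩ := (perp (g⁻¹ ⬝ₘ y)).mpr (by rw [gl_mulVec_inv_cancel]; exact ⟨h1, h2⟩)
      have ko : ctr fb o (g⁻¹ ⬝ₘ y) = 0 := by rcases ho with rfl | rfl; exacts [k1, k2]
      rw [hrx, ko, smul_zero, zero_add, tm_zero_left, zero_sub, Matrix.mulVec_neg, ← sub_eq_add_neg, C.csub,
        offW o ho _ w hw, sub_zero]
    have hX' : ∀ t' ∈ SGen fb, r * kr 1 t' * r⁻¹ * (kr 1 t')⁻¹ ∈ X := fun t' ht' =>
      mul_mem (mul_mem (mul_mem hrX (C.right_mem ht')) (inv_mem hrX)) (inv_mem (C.right_mem ht'))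
    have fin : ∀ a, fb x w = 0 → ctr fb w (r ⬝ₘ (tm a x)) = K w w₀ (Hh o x a) := fun a hxw => by
      rw [hrx, C.cadd, C.ctm, hxw, zero_smul, zero_add, Matrix.mulVec_sub, C.csub, offW o ho _ w hw, sub_zero]
      rfl
    rcases hx with hx | hx <;> subst x
    · have hsw : ∀ w, Off fb p₀ q₀ p₀' q₀' w ↔ Off fb q₀ p₀ q₀' p₀' w := fun w =>
        ⟨fun h => ⟨h.2.1, h.1, h.2.2.2, h.2.2.1⟩, fun h => ⟨h.2.1, h.1, h.2.2.2, h.2.2.1⟩⟩
      obtain ⟨l, hl'⟩ := rad_scalar C hU (Q.swap C.b) (C.iso r hrX) (fun a => hfixW a _ (Or.inr rfl))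
        (fun a => hfixW a _ (Or.inl rfl)) (fun y h1 h2 w hw => hl y h2 h1 w ((hsw w).mpr hw)) hX' ((hsw w).mp hw)
      exact ⟨l, fun a => (fin a (by rw [symm' C.b w, hw.2.2.1])).symm.trans (hl' a)⟩
    · obtain ⟨l, hl'⟩ := rad_scalar C hU Q (C.iso r hrX) (fun a => hfixW a _ (Or.inl rfl))
        (fun a => hfixW a _ (Or.inr rfl)) hl hX' hw
      exact ⟨l, fun a => (fin a (by rw [symm' C.b w, hw.2.2.2])).symm.trans (hl' a)⟩
  obtain ⟨a₀, ha₀⟩ : ∃ a₀ : VA, a₀ ≠ 0 :=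
    ⟨fun _ => 1, fun h => one_ne_zero (congrFun h ⟨0, by have := C.da; omega⟩)⟩
  obtain ⟨e₀, he₀, hee₀⟩ := P.exists_aniso C.b C.h2 C.db'
  -- some product is not zero
  obtain ⟨o₁, ho₁, x₁, hx₁, w₁, hw₁, v₁, hv₁, l₁, hl₁, hl₁0⟩ : ∃ o, (o = u ∨ o = v) ∧ ∃ x, (x = p₀' ∨ x = q₀') ∧
      ∃ w₀, Off fb u v u' v' w₀ ∧ ∃ w, Off fb p₀ q₀ p₀' q₀' w ∧
      ∃ l : F, (∀ a, K w w₀ (Hh o x a) = l • a) ∧ l ≠ 0 := by
    by_contra hcon
    push Not at hcon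
    have hzero : ∀ w, Off fb p₀ q₀ p₀' q₀' w → ∀ b, K w e₀ b = 0 := fun w hw b => by
      have h0 : ∀ x, x = p₀' ∨ x = q₀' → ∀ a, K w e₀ (Hh u x a) = 0 := fun x hx a => by
        obtain ⟨l, hl⟩ := key u (Or.inl rfl) x hx e₀ he₀ w hw
        rw [hl, hcon u (Or.inl rfl) x hx e₀ he₀ w hw l hl, zero_smul]
      obtain ⟨y, hy⟩ : ∃ y, y = g ⬝ₘ (tm b u') := ⟨_, rfl⟩
      obtain ⟨y₀, hy₀⟩ : ∃ y₀, y₀ = y - tm (ctr fb p₀ y) p₀' - tm (ctr fb q₀ y) q₀' := ⟨_, rfl⟩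
      have k := (perp (g⁻¹ ⬝ₘ y₀)).mpr (by
        rw [gl_mulVec_inv_cancel, hy₀]
        simp [C.csub, C.ctm, Q.u'u, Q.u'v, Q.v'u, Q.v'v])
      have hb : b = Hh u p₀' (ctr fb p₀ y) + Hh u q₀' (ctr fb q₀ y) := by
        have e := k.1
        rw [hy₀, Matrix.mulVec_sub, Matrix.mulVec_sub, hy, gl_inv_mulVec_cancel, C.csub, C.csub, C.ctm, P.u'u,
          one_smul, sub_sub, sub_eq_zero] at e
        rw [hy]; exact e
      rw [hb, map_add, h0 _ (Or.inl rfl), h0 _ (Or.inr rfl), add_zero]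
    obtain ⟨Y, hY⟩ : ∃ Y, Y = g ⬝ₘ (tm a₀ e₀) := ⟨_, rfl⟩
    have k := (perp (tm a₀ e₀)).mp ⟨by rw [C.ctm, he₀.1, zero_smul], by rw [C.ctm, he₀.2.1, zero_smul]⟩
    have hY' : Y = tm (ctr fb p₀' Y) p₀ + tm (ctr fb q₀' Y) q₀ := by
      refine C.ext_frame Q ?_ ?_ ?_ ?_ fun w hw => ?_
      · rw [hY, k.1]; simp [C.cadd, C.ctm, Q.pl.uu, (Q.pl.swap C.b).uv]
      · rw [hY, k.2]; simp [C.cadd, C.ctm, Q.pl.uv, Q.pl.vv]
      · simp [C.cadd, C.ctm, symm' C.b p₀' p₀, symm' C.b p₀' q₀, Q.u'u, Q.u'v]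
      · simp [C.cadd, C.ctm, symm' C.b q₀' p₀, symm' C.b q₀' q₀, Q.v'u, Q.v'v]
      · rw [hY, show ctr fb w (g ⬝ₘ (tm a₀ e₀)) = 0 from hzero w hw a₀]
        simp [C.cadd, C.ctm, symm' C.b w p₀, symm' C.b w q₀, hw.1, hw.2.1]
    have h := hgi (tm a₀ e₀) (g⁻¹ ⬝ₘ (g ⬝ₘ (tm a₀ e₀)))
    rw [gl_mulVec_inv_cancel, gl_inv_mulVec_cancel, ← hY] at h
    obtain ⟨a₁, ha₁⟩ := exists_nonorth C.a ha₀
    have h := hgi (tm a₁ e₀) (tm a₀ e₀)
    have k' := (perp (tm a₁ e₀)).mp ⟨by rw [C.ctm, he₀.1, zero_smul], by rw [C.ctm, he₀.2.1, zero_smul]⟩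
    rw [← hY, hY', C.tt, (tf_semi C.data).add_right, tf_tm_right C.data, tf_tm_right C.data, k'.1, k'.2, lzero C.a,
      lzero C.a, add_zero] at h
    exact mul_ne_zero ha₁ hee₀ h.symm
  -- the first factor
  obtain ⟨Rm, hRm⟩ : ∃ Rm, Rm = LinearMap.toMatrix' (K v₁ w₁) := ⟨_, rfl⟩
  have hRK : ∀ a, Rm *ᵥ a = K v₁ w₁ a := fun a => by rw [hRm, ← Matrix.toLin'_apply, Matrix.toLin'_toMatrix']
  have hRsurj : Function.Surjective fun a => Rm *ᵥ a := fun a =>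
    ⟨Hh o₁ x₁ (l₁⁻¹ • a), by
      show Rm *ᵥ _ = a
      rw [hRK, hl₁, smul_smul, mul_inv_cancel₀ hl₁0, one_smul]⟩
  obtain ⟨R, hR⟩ : ∃ R : GL (Fin n₁) F, (R : Matrix (Fin n₁) (Fin n₁) F) = Rm :=
    ⟨((Matrix.mulVec_surjective_iff_isUnit).mp hRsurj).unit, IsUnit.unit_spec _⟩
  have hRK' : ∀ a, (R : Matrix (Fin n₁) (Fin n₁) F) *ᵥ a = K v₁ w₁ a := fun a => by rw [hR, hRK]
  have hH1 : ∀ a, Hh o₁ x₁ a = l₁ • (((R⁻¹ : GL (Fin n₁) F) : Matrix (Fin n₁) (Fin n₁) F) *ᵥ a) := fun a => by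
    refine gl_mulVec_injective R (show (R : Matrix (Fin n₁) (Fin n₁) F) *ᵥ _ =
      (R : Matrix (Fin n₁) (Fin n₁) F) *ᵥ _ from ?_)
    rw [hRK', hl₁, Matrix.mulVec_smul, gl_mulVec_inv_cancel]
  have hK : ∀ w₀, Off fb u v u' v' w₀ → ∀ w, Off fb p₀ q₀ p₀' q₀' w →
      ∃ c : F, ∀ b, K w w₀ b = c • ((R : Matrix (Fin n₁) (Fin n₁) F) *ᵥ b) := fun w₀ hw₀ w hw => by
    obtain ⟨l, hl⟩ := key o₁ ho₁ x₁ hx₁ w₀ hw₀ w hw
    refine ⟨l₁⁻¹ * l, fun b => ?_⟩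
    have h := hl ((R : Matrix (Fin n₁) (Fin n₁) F) *ᵥ b)
    rw [hH1, gl_inv_mulVec_cancel, map_smul] at h
    rw [mul_smul, ← h, smul_smul, inv_mul_cancel₀ hl₁0, one_smul]
  -- the part of the second factor
  obtain ⟨Ra₀, hRa₀⟩ : ∃ Ra₀, Ra₀ = (R : Matrix (Fin n₁) (Fin n₁) F) *ᵥ a₀ := ⟨_, rfl⟩
  obtain ⟨i₀, hi₀⟩ := Function.ne_iff.mp (show Ra₀ ≠ 0 from fun h => ha₀ (by
    rw [← gl_inv_mulVec_cancel R a₀, ← hRa₀, h, Matrix.mulVec_zero]))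
  let off : (VB → VB → VB → VB → VB → VB) := fun p q p' q' x =>
    x - fb x p' • p - fb x q' • q - fb x p • p' - fb x q • q'
  have hoff_add : ∀ p q p' q' x y, off p q p' q' (x + y) = off p q p' q' x + off p q p' q' y := fun p q p' q' x y => by
    simp only [off, ladd C.b]; module
  have hoff_smul : ∀ p q p' q' (c : F) x, off p q p' q' (c • x) = c • off p q p' q' x := fun p q p' q' c x => by
    simp only [off, lsmul C.b]; module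
  let k : VB →ₗ[F] VB :=
    { toFun := fun x => off p₀ q₀ p₀' q₀' ((Ra₀ i₀)⁻¹ • Form.row (g ⬝ₘ (tm a₀ (off u v u' v' x))) i₀)
      map_add' := fun x y => by
        rw [hoff_add u v u' v', tm_add_right, Matrix.mulVec_add, row_add, smul_add, hoff_add]
      map_smul' := fun c x => by
        rw [hoff_smul u v u' v', tm_smul_right, Matrix.mulVec_smul, row_smul, smul_comm,
          hoff_smul p₀ q₀ p₀' q₀', RingHom.id_apply] }
  have hk_off : ∀ x, Off fb p₀ q₀ p₀' q₀' (k x) := fun x => Q.split C.b _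
  have hoff_id : ∀ w, Off fb u v u' v' w → off u v u' v' w = w := fun w hw => by
    simp only [off, hw.1, hw.2.1, hw.2.2.1, hw.2.2.2, zero_smul, sub_zero]
  have hk : ∀ w₀, Off fb u v u' v' w₀ → ∀ w, Off fb p₀ q₀ p₀' q₀' w → ∀ b,
      ctr fb w (g ⬝ₘ (tm b w₀)) = fb (k w₀) w • ((R : Matrix (Fin n₁) (Fin n₁) F) *ᵥ b) := fun w₀ hw₀ w hw b => by
    obtain ⟨c, hc⟩ := hK w₀ hw₀ w hw
    have e : fb (k w₀) w = c := by
      change fb (off p₀ q₀ p₀' q₀' _) w = c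
      rw [show off u v u' v' w₀ = w₀ from hoff_id w₀ hw₀]
      simp only [off, lsub C.b, lsmul C.b, symm' C.b w p₀, hw.1, symm' C.b w q₀, hw.2.1, symm' C.b w p₀', hw.2.2.1,
        symm' C.b w q₀', hw.2.2.2, mul_zero, sub_zero]
      have h := congrFun (hc a₀) i₀
      rw [← hRa₀, Pi.smul_apply, smul_eq_mul] at h
      rw [show fb (Form.row (g ⬝ₘ (tm a₀ w₀)) i₀) w = c * Ra₀ i₀ from h]
      have hi₀' : Ra₀ i₀ ≠ 0 := hi₀
      rw [mul_comm c, ← mul_assoc, inv_mul_cancel₀ hi₀', one_mul]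
    rw [e]
    exact hc b
  have hkk : ∀ w, Off fb u v u' v' w → ∀ w', Off fb u v u' v' w' → ∀ b b',
      fa b b' * fb w w' = fa ((R : Matrix (Fin n₁) (Fin n₁) F) *ᵥ b) ((R : Matrix (Fin n₁) (Fin n₁) F) *ᵥ b') *
        fb (k w) (k w') := fun w hw w' hw' b b' => by
    obtain ⟨Y', hY'⟩ : ∃ Y', Y' = g ⬝ₘ (tm b' w') := ⟨_, rfl⟩
    have k1 := (perp (tm b w)).mp ⟨by rw [C.ctm, hw.1, zero_smul], by rw [C.ctm, hw.2.1, zero_smul]⟩
    have k2 := (perp (tm b' w')).mp ⟨by rw [C.ctm, hw'.1, zero_smul], by rw [C.ctm, hw'.2.1, zero_smul]⟩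
    have e : Y' = tm ((R : Matrix (Fin n₁) (Fin n₁) F) *ᵥ b') (k w') + tm (ctr fb p₀' Y') p₀ + tm (ctr fb q₀' Y') q₀ := by
      have hkw := hk_off w'
      refine C.ext_frame Q ?_ ?_ ?_ ?_ fun d hd => ?_
      · rw [hY', k2.1]; simp [C.cadd, C.ctm, Q.pl.uu, (Q.pl.swap C.b).uv, hkw.1]
      · rw [hY', k2.2]; simp [C.cadd, C.ctm, Q.pl.uv, Q.pl.vv, hkw.2.1]
      · simp [C.cadd, C.ctm, symm' C.b p₀' p₀, symm' C.b p₀' q₀, Q.u'u, Q.u'v, hkw.2.2.1]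
      · simp [C.cadd, C.ctm, symm' C.b q₀' p₀, symm' C.b q₀' q₀, Q.v'u, Q.v'v, hkw.2.2.2]
      · rw [hY', hk w' hw' d hd]; simp [C.cadd, C.ctm, symm' C.b d p₀, symm' C.b d q₀, hd.1, hd.2.1]
    have h := hgi (tm b w) (tm b' w')
    rw [← hY', e, C.tt, (tf_semi C.data).add_right, (tf_semi C.data).add_right, tf_tm_right C.data,
      tf_tm_right C.data, tf_tm_right C.data, k1.1, k1.2, lzero C.a, lzero C.a, add_zero, add_zero,
      hk w hw _ (hk_off w'), lsmul C.a] at h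
    linear_combination -h
  obtain ⟨a₁, ha₁⟩ := exists_nonorth C.a ha₀
  obtain ⟨μ, hμ0, hμ⟩ : ∃ μ : F, μ ≠ 0 ∧ ∀ b b', fa ((R : Matrix (Fin n₁) (Fin n₁) F) *ᵥ b)
      ((R : Matrix (Fin n₁) (Fin n₁) F) *ᵥ b') = μ * fa b b' := by
    have h := hkk e₀ he₀ e₀ he₀
    have hd : fb (k e₀) (k e₀) ≠ 0 := fun h0 => mul_ne_zero ha₁ hee₀ (by rw [h a₁ a₀, h0, mul_zero])
    exact ⟨fb e₀ e₀ / fb (k e₀) (k e₀), div_ne_zero hee₀ hd, fun b b' => by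
      rw [div_mul_eq_mul_div, eq_div_iff hd, ← h]; ring⟩
  obtain ⟨ν, hν⟩ : ∃ ν, ν = μ⁻¹ := ⟨_, rfl⟩
  have hμν : μ * ν = 1 := by rw [hν, mul_inv_cancel₀ hμ0]
  have hkν : ∀ w, Off fb u v u' v' w → ∀ w', Off fb u v u' v' w' → fb (k w) (k w') = ν * fb w w' :=
    fun w hw w' hw' => by
      have h := hkk w hw w' hw' a₁ a₀
      rw [hμ] at h
      have h' : fb w w' = μ * fb (k w) (k w') := mul_left_cancel₀ ha₁ (by linear_combination h)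
      rw [h', ← mul_assoc, mul_comm ν, hμν, one_mul]
  have hH : ∀ o, o = u ∨ o = v → ∀ x, x = p₀' ∨ x = q₀' → ∃ η : F, ∀ b,
      ctr fb x (g ⬝ₘ (tm b o)) = η • ((R : Matrix (Fin n₁) (Fin n₁) F) *ᵥ b) := fun o ho x hx => by
    obtain ⟨l, hl⟩ := key o ho x hx w₁ hw₁ v₁ hv₁
    refine ⟨ν * l, fun b => ctr_eq C.data fun a => ?_⟩
    have h : Hh o x a = l • (((R⁻¹ : GL (Fin n₁) F) : Matrix (Fin n₁) (Fin n₁) F) *ᵥ a) := by
      refine gl_mulVec_injective R (show (R : Matrix (Fin n₁) (Fin n₁) F) *ᵥ _ =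
        (R : Matrix (Fin n₁) (Fin n₁) F) *ᵥ _ from ?_)
      rw [hRK', hl, Matrix.mulVec_smul, gl_mulVec_inv_cancel]
    rw [tf_swap C.data, one_mul, RingEquiv.refl_apply]
    have e : τ (tm a x) (g ⬝ₘ (tm b o)) = fa (Hh o x a) b := by
      show _ = fa (ctr fb o (g⁻¹ ⬝ₘ (tm a x))) b
      rw [← tf_tm_right C.data, ← hgi (g⁻¹ ⬝ₘ (tm a x)), gl_mulVec_inv_cancel]
    rw [e, one_mul, h, lsmul C.a, lsmul C.a]
    conv_rhs => rw [← gl_mulVec_inv_cancel R a, hμ, symm' C.a]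
    linear_combination (-(l * fa (((R⁻¹ : GL (Fin n₁) F) : Matrix (Fin n₁) (Fin n₁) F) *ᵥ a) b)) * hμν
  -- the new frame
  obtain ⟨η₁, hη₁⟩ := hH u (Or.inl rfl) p₀' (Or.inl rfl)
  obtain ⟨η₂, hη₂⟩ := hH u (Or.inl rfl) q₀' (Or.inr rfl)
  obtain ⟨θ₁, hθ₁⟩ := hH v (Or.inr rfl) p₀' (Or.inl rfl)
  obtain ⟨θ₂, hθ₂⟩ := hH v (Or.inr rfl) q₀' (Or.inr rfl)
  obtain ⟨p, hp⟩ : ∃ p, p = η₁ • p₀ + η₂ • q₀ := ⟨_, rfl⟩
  obtain ⟨q, hq⟩ : ∃ q, q = θ₁ • p₀ + θ₂ • q₀ := ⟨_, rfl⟩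
  have img : ∀ (o d : VB) (e₁ e₂ : F), (o = u ∨ o = v) → d = e₁ • p₀ + e₂ • q₀ →
      (∀ b, ctr fb p₀' (g ⬝ₘ (tm b o)) = e₁ • ((R : Matrix (Fin n₁) (Fin n₁) F) *ᵥ b)) →
      (∀ b, ctr fb q₀' (g ⬝ₘ (tm b o)) = e₂ • ((R : Matrix (Fin n₁) (Fin n₁) F) *ᵥ b)) →
      ∀ b, g ⬝ₘ (tm b o) = tm ((R : Matrix (Fin n₁) (Fin n₁) F) *ᵥ b) d := by
    intro o d e₁ e₂ ho hd h1 h2 b
    obtain ⟨α, β, h⟩ := inW o ho b
    have r1 := h1 b
    have r2 := h2 b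
    rw [h, C.cadd, C.ctm, C.ctm, symm' C.b p₀' p₀, Q.u'u, symm' C.b p₀' q₀, Q.u'v, one_smul, zero_smul,
      add_zero] at r1
    rw [h, C.cadd, C.ctm, C.ctm, symm' C.b q₀' p₀, Q.v'u, symm' C.b q₀' q₀, Q.v'v, one_smul, zero_smul,
      zero_add] at r2
    rw [h, r1, r2, hd, tm_add_right, tm_smul_right, tm_smul_right, tm_smul_left, tm_smul_left]
  have hgu := img u p η₁ η₂ (Or.inl rfl) hp hη₁ hη₂
  have hgv := img v q θ₁ θ₂ (Or.inr rfl) hq hθ₁ hθ₂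
  obtain ⟨Δ, hΔ⟩ : ∃ Δ, Δ = η₁ * θ₂ - η₂ * θ₁ := ⟨_, rfl⟩
  have hΔ0 : Δ ≠ 0 := fun h0 => by
    have key : ∀ r s : F, r • p + s • q = 0 → r = 0 ∧ s = 0 := fun r s h => by
      have h1 : g ⬝ₘ (tm a₀ (r • u + s • v)) = g ⬝ₘ (0 : κ → F) := by
        rw [tm_add_right, tm_smul_right, tm_smul_right, Matrix.mulVec_add, Matrix.mulVec_smul, Matrix.mulVec_smul,
          hgu, hgv, ← tm_smul_right, ← tm_smul_right, ← tm_add_right, h, tm_zero_right, Matrix.mulVec_zero]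
      exact P.pl.indep r s ((tm_eq_zero (gl_mulVec_injective g h1)).resolve_left ha₀)
    have e1 := key θ₂ (-η₂) (by
      rw [hp, hq]
      match_scalars <;> first
        | ring1
        | linear_combination hΔ.symm.trans h0
        | linear_combination -(hΔ.symm.trans h0))
    have e2 := key θ₁ (-η₁) (by
      rw [hp, hq]
      match_scalars <;> first
        | ring1
        | linear_combination hΔ.symm.trans h0
        | linear_combination -(hΔ.symm.trans h0))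
    have hp0 : p = 0 := by rw [hp, neg_eq_zero.mp e1.2, neg_eq_zero.mp e2.2, zero_smul, zero_smul, add_zero]
    exact one_ne_zero (key 1 0 (by rw [one_smul, zero_smul, add_zero, hp0])).1
  obtain ⟨p', hp'⟩ : ∃ p', p' = Δ⁻¹ • (θ₂ • p₀' - θ₁ • q₀') := ⟨_, rfl⟩
  obtain ⟨q', hq'⟩ : ∃ q', q' = Δ⁻¹ • (η₁ • q₀' - η₂ • p₀') := ⟨_, rfl⟩
  have Q' : Frame fb p q p' q' := by
    have s1 := symm' C.b p₀' p₀
    have s2 := symm' C.b p₀' q₀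
    have s3 := symm' C.b q₀' p₀
    have s4 := symm' C.b q₀' q₀
    refine ⟨⟨?_, ?_, ?_, fun r s h => ?_⟩, ?_, ?_, ?_, ?_, ?_, ?_, ?_⟩
    case refine_4 =>
      have e1 := congrArg (fun x => fb x p₀') h
      have e2 := congrArg (fun x => fb x q₀') h
      simp only [hp, hq, ladd C.b, lsmul C.b, lzero C.b, s1, s2, s3, s4, Q.u'u, Q.u'v, Q.v'u, Q.v'v] at e1 e2
      constructor
      · refine (mul_eq_zero.mp (?_ : r * Δ = 0)).resolve_right hΔ0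
        linear_combination r * hΔ + θ₂ * e1 - θ₁ * e2
      · refine (mul_eq_zero.mp (?_ : s * Δ = 0)).resolve_right hΔ0
        linear_combination s * hΔ - η₂ * e1 + η₁ * e2
    all_goals
      simp only [hp, hq, hp', hq', ladd C.b, radd C.b, lsub C.b, rsub C.b, lsmul C.b, rsmul C.b, Q.pl.uu, Q.pl.uv,
        Q.pl.vv, (Q.pl.swap C.b).uv, Q.u'u, Q.u'v, Q.v'u, Q.v'v, Q.u'u', Q.v'v', Q.u'v', symm' C.b p₀' q₀', s1, s2,
        s3, s4]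
    all_goals field_simp
    all_goals first
      | linear_combination hΔ
      | linear_combination -hΔ
      | ring1
  have offQ : ∀ w, Off fb p₀ q₀ p₀' q₀' w → Off fb p q p' q' w := fun w h => by
    obtain ⟨a1, a2, a3, a4⟩ := h
    refine ⟨?_, ?_, ?_, ?_⟩ <;>
      simp only [hp, hq, hp', hq', radd C.b, rsub C.b, rsmul C.b, a1, a2, a3, a4, mul_zero, add_zero, sub_zero]
  let tlin : VB →ₗ[F] VB :=
    { toFun := fun x => fb x u' • p + fb x v' • q + (ν * fb x u) • p' + (ν * fb x v) • q' + k x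
      map_add' := fun x y => by simp only [ladd C.b, map_add]; module
      map_smul' := fun c x => by simp only [lsmul C.b, map_smul, RingHom.id_apply]; module }
  have hk_proj : ∀ x, k x = k (off u v u' v' x) := fun x => by
    have : off u v u' v' (off u v u' v' x) = off u v u' v' x := hoff_id _ (P.split C.b x)
    change off p₀ q₀ p₀' q₀' _ = off p₀ q₀ p₀' q₀' _
    rw [this]
  have htsim : ∀ x y, fb (tlin x) (tlin y) = ν * fb x y := fun x y => by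
    have hkx := offQ _ (hk_off x)
    have hky := offQ _ (hk_off y)
    have hkk' : fb (k x) (k y) = ν * fb (off u v u' v' x) (off u v u' v' y) := by
      rw [hk_proj x, hk_proj y]; exact hkν _ (P.split C.b x) _ (P.split C.b y)
    simp only [off] at hkk'
    simp only [tlin, LinearMap.coe_mk, AddHom.coe_mk, ladd C.b, radd C.b, lsmul C.b, rsmul C.b, Q'.pl.uu, Q'.pl.uv,
      Q'.pl.vv, (Q'.pl.swap C.b).uv, Q'.u'u, Q'.u'v, Q'.v'u, Q'.v'v, Q'.u'u', Q'.v'v', Q'.u'v', symm' C.b p' q',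
      symm' C.b p' p, symm' C.b p' q, symm' C.b q' p, symm' C.b q' q, hkx.1, hkx.2.1, hkx.2.2.1, hkx.2.2.2,
      symm' C.b (k y) p, symm' C.b (k y) q, symm' C.b (k y) p', symm' C.b (k y) q', hky.1, hky.2.1, hky.2.2.1,
      hky.2.2.2, hkk']
    simp only [lsub C.b, rsub C.b, lsmul C.b, rsmul C.b, P.pl.uu, P.pl.uv, P.pl.vv, (P.pl.swap C.b).uv, P.u'u,
      P.u'v, P.v'u, P.v'v, P.u'u', P.v'v', P.u'v', symm' C.b u' v', symm' C.b u' u, symm' C.b u' v, symm' C.b v' u,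
      symm' C.b v' v, symm' C.b y u, symm' C.b y v, symm' C.b y u', symm' C.b y v']
    ring
  have hν0 : ν ≠ 0 := right_ne_zero_of_mul_eq_one hμν
  have htinj : Function.Injective tlin := by
    rw [← LinearMap.ker_eq_bot, LinearMap.ker_eq_bot']
    intro x hx
    refine ext_left C.b fun y => ?_
    have h := htsim x y
    rw [hx, lzero C.b] at h
    rw [lzero C.b]
    exact (mul_eq_zero.mp h.symm).resolve_left hν0
  obtain ⟨t, ht⟩ : ∃ t : GL (Fin n₂) F, ∀ x, (t : Matrix (Fin n₂) (Fin n₂) F) *ᵥ x = tlin x := by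
    have hu' : IsUnit (LinearMap.toMatrix' tlin) := Matrix.mulVec_injective_iff_isUnit.mp fun x y e => htinj (by
      simpa only [← Matrix.toLin'_apply, Matrix.toLin'_toMatrix'] using e)
    exact ⟨hu'.unit, fun x => by rw [IsUnit.unit_spec, ← Matrix.toLin'_apply, Matrix.toLin'_toMatrix']⟩
  have htsim' : ∀ x y, fb ((t : Matrix (Fin n₂) (Fin n₂) F) *ᵥ x) ((t : Matrix (Fin n₂) (Fin n₂) F) *ᵥ y) =
      ν * fb x y := fun x y => by rw [ht, ht, htsim]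
  have hku : k u = 0 ∧ k v = 0 := by
    constructor <;> rw [hk_proj] <;> convert map_zero k using 2 <;>
      simp [off, P.pl.uu, P.pl.uv, P.pl.vv, (P.pl.swap C.b).uv, symm' C.b u' u, symm' C.b u' v, symm' C.b v' u,
        symm' C.b v' v, P.u'u, P.u'v, P.v'u, P.v'v]
  have htu : (t : Matrix (Fin n₂) (Fin n₂) F) *ᵥ u = p ∧ (t : Matrix (Fin n₂) (Fin n₂) F) *ᵥ v = q := by
    constructor <;> rw [ht] <;>
      simp [tlin, hku.1, hku.2, P.pl.uu, P.pl.uv, P.pl.vv, (P.pl.swap C.b).uv, symm' C.b u' u, symm' C.b u' v,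
        symm' C.b v' u, symm' C.b v' v, P.u'u, P.u'v, P.v'u, P.v'v]
  obtain ⟨n, hn⟩ : ∃ n, n = kr R t := ⟨_, rfl⟩
  have hniso : ∀ x y, τ (n ⬝ₘ x) (n ⬝ₘ y) = τ x y := hn ▸ C.kr_iso hμν hμ htsim'
  obtain ⟨g', hg'⟩ : ∃ g', g' = g * n⁻¹ := ⟨_, rfl⟩
  have hg'n : ∀ x, g' ⬝ₘ (n ⬝ₘ x) = g ⬝ₘ x := fun x => by rw [hg', gl_mul_mulVec, gl_inv_mulVec_cancel]
  have hg'i : ∀ x y, τ (g' ⬝ₘ x) (g' ⬝ₘ y) = τ x y := fun x y => by
    rw [hg', gl_mul_mulVec, gl_mul_mulVec, hgi, ← hniso, gl_mulVec_inv_cancel, gl_mulVec_inv_cancel]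
  have hg'p : ∀ a, g' ⬝ₘ (tm a p) = tm a p ∧ g' ⬝ₘ (tm a q) = tm a q := fun a => by
    obtain ⟨b, rfl⟩ : ∃ b, a = (R : Matrix (Fin n₁) (Fin n₁) F) *ᵥ b := ⟨_, (gl_mulVec_inv_cancel R a).symm⟩
    constructor
    · rw [show tm ((R : Matrix (Fin n₁) (Fin n₁) F) *ᵥ b) p = n ⬝ₘ (tm b u) by rw [hn, kr_tm, htu.1], hg'n, hgu,
        hn, kr_tm, htu.1]
    · rw [show tm ((R : Matrix (Fin n₁) (Fin n₁) F) *ᵥ b) q = n ⬝ₘ (tm b v) by rw [hn, kr_tm, htu.2], hg'n, hgv,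
        hn, kr_tm, htu.2]
  have offQ' : ∀ w, Off fb p q p' q' w → Off fb p₀ q₀ p₀' q₀' w := fun w h => by
    obtain ⟨a1, a2, a3, a4⟩ := h
    simp only [hp, hq, hp', hq', radd C.b, rsub C.b, rsmul C.b] at a1 a2 a3 a4
    have k3 : θ₂ * fb w p₀' - θ₁ * fb w q₀' = 0 := (mul_eq_zero.mp a3).resolve_left (inv_ne_zero hΔ0)
    have k4 : η₁ * fb w q₀' - η₂ * fb w p₀' = 0 := (mul_eq_zero.mp a4).resolve_left (inv_ne_zero hΔ0)
    refine ⟨?_, ?_, ?_, ?_⟩ <;> refine (mul_eq_zero.mp (?_ : Δ * _ = 0)).resolve_left hΔ0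
    · linear_combination fb w p₀ * hΔ + θ₂ * a1 - η₂ * a2
    · linear_combination fb w q₀ * hΔ - θ₁ * a1 + η₁ * a2
    · linear_combination fb w p₀' * hΔ + η₁ * k3 + θ₁ * k4
    · linear_combination fb w q₀' * hΔ + η₂ * k3 + θ₂ * k4
  have hlay : ∀ y, ctr fb p y = 0 → ctr fb q y = 0 → ∀ w, Off fb p q p' q' w →
      ctr fb w (g' ⬝ₘ y) = ctr fb w y := fun y h1 h2 w hw => by
    have hw0 := offQ' w hw
    obtain ⟨y₀, rfl⟩ : ∃ y₀, y = n ⬝ₘ y₀ := ⟨_, (gl_mulVec_inv_cancel n y).symm⟩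
    have k1 : ctr fb u y₀ = 0 := ctr_eq C.data fun a => by
      rw [← hniso y₀ (tm a u), hn, kr_tm, htu.1, tf_tm_right C.data, ← hn, h1, lzero C.a, lzero C.a]
    have k2 : ctr fb v y₀ = 0 := ctr_eq C.data fun a => by
      rw [← hniso y₀ (tm a v), hn, kr_tm, htu.2, tf_tm_right C.data, ← hn, h2, lzero C.a, lzero C.a]
    rw [hg'n, sum_rows y₀, Matrix.mulVec_sum, Matrix.mulVec_sum]
    have hsum : ∀ s : Fin n₁ → (κ → F), ctr fb w (∑ i, s i) = ∑ i, ctr fb w (s i) := fun s =>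
      map_sum (AddMonoidHom.mk' (fun x => ctr fb w x) (C.cadd w)) s Finset.univ
    rw [hsum, hsum]
    refine Finset.sum_congr rfl fun i _ => ?_
    obtain ⟨r, hr⟩ : ∃ r, r = Form.row y₀ i := ⟨_, rfl⟩
    have hru : fb r u = 0 := hr ▸ congrFun k1 i
    have hrv : fb r v = 0 := hr ▸ congrFun k2 i
    rw [← hr, hn, kr_tm, C.ctm, ht]
    have hr' : r = fb r u' • u + fb r v' • v + off u v u' v' r := by
      simp only [off, hru, hrv, zero_smul]; abel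
    conv_lhs => rw [hr']
    rw [tm_add_right, tm_add_right, tm_smul_right, tm_smul_right, Matrix.mulVec_add, Matrix.mulVec_add,
      Matrix.mulVec_smul, Matrix.mulVec_smul, C.cadd, C.cadd, ctr_smul C.data, ctr_smul C.data,
      offW u (Or.inl rfl) _ w hw0, offW v (Or.inr rfl) _ w hw0, smul_zero, smul_zero, zero_add, zero_add,
      hk _ (P.split C.b r) w hw0, ← hk_proj]
    simp only [tlin, LinearMap.coe_mk, AddHom.coe_mk, hru, hrv, mul_zero, zero_smul, add_zero, ladd C.b, lsmul C.b,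
      symm' C.b w p, symm' C.b w q, hw.1, hw.2.1, zero_add]
  have hg'X : ∀ s t', s ∈ SGen fa → t' ∈ SGen fb → g' * kr s t' * g'⁻¹ ∈ X := fun s t' hs ht' => by
    rw [hg', hn, show g * (kr R t)⁻¹ * kr s t' * (g * (kr R t)⁻¹)⁻¹ = g * ((kr R t)⁻¹ * kr s t' * kr R t) * g⁻¹ by
      group, kr_inv, kr_mul, kr_mul]
    refine hgX _ _ ?_ ?_
    · have := sgen_conj C.a C.h2 (g := R⁻¹) (ν := μ⁻¹) (inv_ne_zero hμ0) (fun x y => by
        conv_rhs => rw [← gl_mulVec_inv_cancel R x, ← gl_mulVec_inv_cancel R y, hμ, ← mul_assoc,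
          inv_mul_cancel₀ hμ0, one_mul]) hs
      rwa [inv_inv] at this
    · have := sgen_conj C.b C.h2 (g := t⁻¹) (ν := ν⁻¹) (inv_ne_zero hν0) (fun x y => by
        conv_rhs => rw [← gl_mulVec_inv_cancel t x, ← gl_mulVec_inv_cancel t y, htsim', ← mul_assoc,
          inv_mul_cancel₀ hν0, one_mul]) ht'
      rwa [inv_inv] at this
  have hX' : ∀ t' ∈ SGen fb, g' * kr 1 t' * g'⁻¹ * (kr 1 t')⁻¹ ∈ X := fun t' ht' =>
    mul_mem (hg'X 1 t' (one_mem _) ht') (inv_mem (C.right_mem ht'))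
  -- the radical part
  have rad : ∀ p q p' q', Frame fb p q p' q' → (∀ a, g' ⬝ₘ (tm a p) = tm a p) → (∀ a, g' ⬝ₘ (tm a q) = tm a q) →
      (∀ y, ctr fb p y = 0 → ctr fb q y = 0 → ∀ w, Off fb p q p' q' w → ctr fb w (g' ⬝ₘ y) = ctr fb w y) →
      ∃ d, Off fb p q p' q' d ∧ ∀ w, Off fb p q p' q' w → ∀ a : VA, ctr fb w (g' ⬝ₘ (tm a q')) = fb d w • a := by
    intro p q p' q' Q hpf hqf hl
    obtain ⟨j, hj⟩ := Function.ne_iff.mp ha₀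
    refine ⟨off p q p' q' ((a₀ j)⁻¹ • Form.row (g' ⬝ₘ (tm a₀ q')) j), Q.split C.b _, fun w hw a => ?_⟩
    obtain ⟨l, hl'⟩ := rad_scalar C hU Q hg'i hpf hqf hl hX' hw
    have e : fb (off p q p' q' ((a₀ j)⁻¹ • Form.row (g' ⬝ₘ (tm a₀ q')) j)) w = l := by
      simp only [off, lsub C.b, lsmul C.b, symm' C.b w p, hw.1, symm' C.b w q, hw.2.1, symm' C.b w p', hw.2.2.1,
        symm' C.b w q', hw.2.2.2, mul_zero, sub_zero]
      rw [show fb (Form.row (g' ⬝ₘ (tm a₀ q')) j) w = l * a₀ j from congrFun (hl' a₀) j]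
      simp only [Pi.zero_apply, ne_eq] at hj
      field_simp
    rw [e, hl']
  obtain ⟨dq, hdq, hdq'⟩ := rad p q p' q' Q' (fun a => (hg'p a).1) (fun a => (hg'p a).2) hlay
  obtain ⟨dp, hdp, hdp'⟩ := rad q p q' p' (Q'.swap C.b) (fun a => (hg'p a).2) (fun a => (hg'p a).1)
    fun y h1 h2 w hw => hlay y h2 h1 w ⟨hw.2.1, hw.1, hw.2.2.2, hw.2.2.1⟩
  obtain ⟨hdp1, hdp2, hdp3, hdp4⟩ := hdp
  obtain ⟨t₁, ht₁, ht₁G⟩ := exists_sg' C.b C.h2 Q'.pl.uu hdp2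
  obtain ⟨t₂, ht₂, ht₂G⟩ := exists_sg' C.b C.h2 Q'.pl.vv hdq.2.1
  obtain ⟨n₂', hn₂⟩ : ∃ n₂', n₂' = kr (1 : GL (Fin n₁) F) (t₂ * t₁) := ⟨_, rfl⟩
  have htG : t₂ * t₁ ∈ SGen fb := mul_mem ht₂G ht₁G
  have hn₂X : n₂' ∈ X := hn₂ ▸ C.right_mem htG
  have hn₂t : ∀ a o, n₂' ⬝ₘ (tm a o) = tm a ((t₂ : Matrix (Fin n₂) (Fin n₂) F) *ᵥ
      ((t₁ : Matrix (Fin n₂) (Fin n₂) F) *ᵥ o)) := fun a o => by
    rw [hn₂, kr_tm, Units.val_one, Matrix.one_mulVec, gl_mul_mulVec]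
  have sp : fb p q = 0 := Q'.pl.uv
  have sq : fb q p = 0 := (Q'.pl.swap C.b).uv
  have tp : (t₂ : Matrix (Fin n₂) (Fin n₂) F) *ᵥ p = p := by
    rw [ht₂, sp, symm' C.b dq p, hdq.1]; simp
  have tq : (t₁ : Matrix (Fin n₂) (Fin n₂) F) *ᵥ q = q := by
    rw [ht₁, sq, symm' C.b dp q, hdp1]; simp
  have hn₂p : ∀ a, n₂' ⬝ₘ (tm a p) = tm a p ∧ n₂' ⬝ₘ (tm a q) = tm a q := fun a => by
    rw [hn₂t, hn₂t, sg_fix C.b Q'.pl.uu hdp2 ht₁, tp, tq, sg_fix C.b Q'.pl.vv hdq.2.1 ht₂]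
    exact ⟨rfl, rfl⟩
  have hn₂i : ∀ x y, τ (n₂' ⬝ₘ x) (n₂' ⬝ₘ y) = τ x y := C.iso _ hn₂X
  have tp' : ∀ w, Off fb p q p' q' w → fb ((t₂ : Matrix (Fin n₂) (Fin n₂) F) *ᵥ
      ((t₁ : Matrix (Fin n₂) (Fin n₂) F) *ᵥ p')) w = fb dp w := fun w hw => by
    rw [ht₁, Q'.u'u, symm' C.b dp p', hdp4]
    simp only [one_smul, Matrix.mulVec_sub, Matrix.mulVec_add, Matrix.mulVec_smul, tp]
    rw [ht₂ p', ht₂ dp]
    simp only [Q'.u'v, symm' C.b dq p', hdq.2.2.1, hdp1, ladd C.b, lsub C.b, lsmul C.b, symm' C.b w p,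
      symm' C.b w q, symm' C.b w p', hw.1, hw.2.1, hw.2.2.1]
    ring
  have tq' : ∀ w, Off fb p q p' q' w → fb ((t₂ : Matrix (Fin n₂) (Fin n₂) F) *ᵥ
      ((t₁ : Matrix (Fin n₂) (Fin n₂) F) *ᵥ q')) w = fb dq w := fun w hw => by
    rw [ht₁, Q'.v'u, symm' C.b dp q', hdp3]
    simp only [zero_smul, mul_zero, add_zero, sub_zero]
    rw [ht₂ q']

    simp only [Q'.v'v, symm' C.b dq q', hdq.2.2.2, one_smul, ladd C.b, lsub C.b, lsmul C.b, symm' C.b w q,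
      symm' C.b w q', hw.2.1, hw.2.2.2]
    ring
  have tw : ∀ w, Off fb p q p' q' w → ∀ y, ctr fb p y = 0 → ctr fb q y = 0 →
      ctr fb w (n₂' ⬝ₘ y) = ctr fb w y := fun w hw y h1 h2 => by
    rw [hn₂, show kr (1 : GL (Fin n₁) F) (t₂ * t₁) = kr 1 t₂ * kr 1 t₁ by rw [kr_mul, one_mul], gl_mul_mulVec,
      C.kr_sg ht₁, C.kr_sg ht₂]
    simp only [h1, smul_zero, zero_add, tm_zero_left, add_zero, C.csub, C.cadd, C.ctm, sp, h2, zero_smul,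
      symm' C.b w p, symm' C.b w q, hw.1, hw.2.1, sub_zero]
  obtain ⟨g'', hg''⟩ : ∃ g'', g'' = g' * n₂'⁻¹ := ⟨_, rfl⟩
  have hg''n : ∀ x, g'' ⬝ₘ (n₂' ⬝ₘ x) = g' ⬝ₘ x := fun x => by rw [hg'', gl_mul_mulVec, gl_inv_mulVec_cancel]
  have hfix : Fix fb p q g'' := fun y h1 h2 => by
    obtain ⟨y₂, rfl⟩ : ∃ y₂, y = n₂' ⬝ₘ y₂ := ⟨_, (gl_mulVec_inv_cancel n₂' y).symm⟩
    rw [C.ctr_fixed hn₂i (fun a => (hn₂p a).1)] at h1
    rw [C.ctr_fixed hn₂i (fun a => (hn₂p a).2)] at h2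
    rw [hg''n]
    have e1 := C.ctr_fixed hg'i (fun a => (hg'p a).1)
    have e2 := C.ctr_fixed hg'i (fun a => (hg'p a).2)
    have e3 := C.ctr_fixed hn₂i (fun a => (hn₂p a).1)
    have e4 := C.ctr_fixed hn₂i (fun a => (hn₂p a).2)
    have hE' : ∀ x, (x = p' ∨ x = q') → ∀ a, ∃ α β, g' ⬝ₘ (tm a x) = n₂' ⬝ₘ (tm a x) + tm α p + tm β q := by
      intro x hx a
      refine ⟨ctr fb p' (g' ⬝ₘ (tm a x) - n₂' ⬝ₘ (tm a x)), ctr fb q' (g' ⬝ₘ (tm a x) - n₂' ⬝ₘ (tm a x)), ?_⟩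
      refine C.ext_frame Q' ?_ ?_ ?_ ?_ fun w hw => ?_
      · simp [C.cadd, C.ctm, e1, e3, Q'.pl.uu, sq]
      · simp [C.cadd, C.ctm, e2, e4, Q'.pl.vv, sp]
      · simp [C.cadd, C.csub, C.ctm, symm' C.b p' p, symm' C.b p' q, Q'.u'u, Q'.u'v]
      · simp [C.cadd, C.csub, C.ctm, symm' C.b q' p, symm' C.b q' q, Q'.v'u, Q'.v'v]
      · rcases hx with rfl | rfl
        · rw [hdp' w ⟨hw.2.1, hw.1, hw.2.2.2, hw.2.2.1⟩, C.cadd, C.cadd, hn₂t, C.ctm, tp' w hw, C.ctm, C.ctm,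
            symm' C.b w p, hw.1, symm' C.b w q, hw.2.1, zero_smul, zero_smul, add_zero, add_zero]
        · rw [hdq' w hw, C.cadd, C.cadd, hn₂t, C.ctm, tq' w hw, C.ctm, C.ctm,
            symm' C.b w p, hw.1, symm' C.b w q, hw.2.1, zero_smul, zero_smul, add_zero, add_zero]
    obtain ⟨D, hD⟩ : ∃ D, D = g' ⬝ₘ y₂ - n₂' ⬝ₘ y₂ := ⟨_, rfl⟩
    have d1 : ctr fb p D = 0 := by rw [hD, C.csub, e1, e3, sub_self]
    have d2 : ctr fb q D = 0 := by rw [hD, C.csub, e2, e4, sub_self]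
    have d5 : ∀ w, Off fb p q p' q' w → ctr fb w D = 0 := fun w hw => by
      rw [hD, C.csub, hlay y₂ h1 h2 w hw, tw w hw y₂ h1 h2, sub_self]
    have hD' : D = tm (ctr fb p' D) p + tm (ctr fb q' D) q := by
      refine C.ext_frame Q' ?_ ?_ ?_ ?_ fun w hw => ?_
      · simp [C.cadd, C.ctm, d1, Q'.pl.uu, sq]
      · simp [C.cadd, C.ctm, d2, Q'.pl.vv, sp]
      · simp [C.cadd, C.ctm, symm' C.b p' p, symm' C.b p' q, Q'.u'u, Q'.u'v]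
      · simp [C.cadd, C.ctm, symm' C.b q' p, symm' C.b q' q, Q'.v'u, Q'.v'v]
      · simp [C.cadd, C.ctm, d5 w hw, symm' C.b w p, symm' C.b w q, hw.1, hw.2.1]
    have dz : ∀ x, (x = p' ∨ x = q') → ctr fb x D = 0 := fun x hx => ctr_eq C.data fun a => by
      obtain ⟨α, β, hαβ⟩ := hE' x hx a
      have h := hg'i y₂ (tm a x)
      rw [hαβ, (tf_semi C.data).add_right, (tf_semi C.data).add_right, tf_tm_right C.data (g' ⬝ₘ y₂) α p,
        tf_tm_right C.data (g' ⬝ₘ y₂) β q, e1, e2, h1, h2, lzero C.a, lzero C.a, add_zero, add_zero,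
        ← hn₂i y₂ (tm a x), show g' ⬝ₘ y₂ = n₂' ⬝ₘ y₂ + D by rw [hD]; abel, (tf_semi C.data).add_left,
        add_eq_left] at h
      rw [hn₂t] at h
      obtain ⟨tx, htx⟩ : ∃ tx, tx = (t₂ : Matrix (Fin n₂) (Fin n₂) F) *ᵥ ((t₁ : Matrix (Fin n₂) (Fin n₂) F) *ᵥ x) :=
        ⟨_, rfl⟩
      rw [← htx] at h
      have kx : ∀ o, o = p ∨ o = q → fb o tx = fb o x := fun o ho => by
        have hfix : (t₂ : Matrix (Fin n₂) (Fin n₂) F) *ᵥ ((t₁ : Matrix (Fin n₂) (Fin n₂) F) *ᵥ o) = o := by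
          rcases ho with rfl | rfl
          · rw [sg_fix C.b Q'.pl.uu hdp2 ht₁, tp]
          · rw [tq, sg_fix C.b Q'.pl.vv hdq.2.1 ht₂]
        conv_lhs => rw [← hfix]
        rw [htx, ← gl_mul_mulVec, ← gl_mul_mulVec, sgen_iso C.b C.h2 htG]
      rw [hD', (tf_semi C.data).add_left, C.tt, C.tt, kx p (Or.inl rfl), kx q (Or.inr rfl), ← C.tt,
        ← C.tt, ← (tf_semi C.data).add_left, ← hD'] at h
      rw [h, lzero C.a]
    rw [← sub_eq_zero, ← hD, hD', dz p' (Or.inl rfl), dz q' (Or.inr rfl), tm_zero_left, tm_zero_left, add_zero]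
  have hg''i : ∀ x y, τ (g'' ⬝ₘ x) (g'' ⬝ₘ y) = τ x y := fun x y => by
    rw [hg'', gl_mul_mulVec, gl_mul_mulVec, hg'i, ← hn₂i, gl_mulVec_inv_cancel, gl_mulVec_inv_cancel]
  obtain ⟨c, hc⟩ := fix_scalar C hU Q' hg''i hfix fun s hs => by
    rw [hg'', hn₂, show g' * (kr 1 (t₂ * t₁))⁻¹ * kr s 1 * (g' * (kr 1 (t₂ * t₁))⁻¹)⁻¹ =
      g' * ((kr 1 (t₂ * t₁))⁻¹ * kr s 1 * kr 1 (t₂ * t₁)) * g'⁻¹ by group, kr_inv, kr_mul, kr_mul]
    simp only [inv_one, one_mul, mul_one, inv_mul_cancel]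
    exact mul_mem (hg'X s 1 hs (one_mem _)) (inv_mem (C.small s 1 hs (one_mem _)))
  rw [show g = g'' * n₂' * n by rw [hg'', hg', inv_mul_cancel_right, inv_mul_cancel_right]]
  exact mul_mem (mul_mem (C.zt_mem Q'.pl hc).2 (hn₂ ▸ ⟨1, t₂ * t₁, rfl⟩)) (hn ▸ ⟨R, t, rfl⟩)

/-- Root elements are moved into the stabiliser only by the stabiliser. -/
theorem moves (ndvd : ¬ n₂ ∣ n₁) (hU : NoU fb X) {g : GL κ F} (hg : g ∈ X) {u v : VB} (P₀ : Pl fb u v) {z : GL κ F}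
    (hz : Zt fb u v 1 z) (hmem : g * z * g⁻¹ ∈ Kr (Fin n₁) (Fin n₂) F) : g ∈ Kr (Fin n₁) (Fin n₂) F := by
  rcases root_of_conj C (C.iso g hg) P₀ hz hmem with ⟨p₀, q₀, Ppq, hy⟩ | ⟨hd, -⟩
  · exact moves_core C hU (C.iso g hg)
      (fun s t hs ht => mul_mem (mul_mem hg (C.small s t hs ht)) (inv_mem hg)) P₀ hz Ppq hy
  · exact absurd hd ndvd

end Cfsg.Agent.Classical.TensorMax.OO
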