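/-
Groups generated by two one-parameter groups of square-zero elements: a normal form, unipotency when the
central element is nilpotent, and involutions otherwise.
-/
import Cfsg.Agent.Lib.Classical.SL2SimpleExt

set_option autoImplicit false
set_option linter.unusedSectionVars false

namespace Cfsg.Agent.Classical.TensorMax.OO.QuadPair

open Polynomial

variable {F : Type*} [Field F]

section Alg

variable {A : Type*} [Ring A] [Algebra F A]

/-- The generators. -/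
def gens (F : Type*) [Field F] {A : Type*} [Ring A] [Algebra F A] (N₁ N₂ : A) : Set Aˣ :=
  {u | ∃ c : F, (u : A) = 1 + c • N₁ ∨ (u : A) = 1 + c • N₂}

/-- The generated group. -/
def Gp (F : Type*) [Field F] {A : Type*} [Ring A] [Algebra F A] (N₁ N₂ : A) : Subgroup Aˣ :=
  Subgroup.closure (gens F N₁ N₂)

/-- The central subalgebra. -/
def Cen (F : Type*) [Field F] {A : Type*} [Ring A] [Algebra F A] (N₁ N₂ : A) : Subalgebra F A :=
  Algebra.adjoin F {N₁ * N₂ + N₂ * N₁}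

variable {N₁ N₂ : A} (h₁ : N₁ * N₁ = 0) (h₂ : N₂ * N₂ = 0)

include h₁ h₂

theorem commute_S₁ : Commute (N₁ * N₂ + N₂ * N₁) N₁ := by
  change (N₁ * N₂ + N₂ * N₁) * N₁ = N₁ * (N₁ * N₂ + N₂ * N₁)
  rw [add_mul, mul_add, mul_assoc N₂ N₁ N₁, h₁, mul_zero, add_zero, ← mul_assoc N₁ N₁ N₂, h₁, zero_mul, zero_add,
    mul_assoc]

theorem commute_S₂ : Commute (N₁ * N₂ + N₂ * N₁) N₂ := by
  change (N₁ * N₂ + N₂ * N₁) * N₂ = N₂ * (N₁ * N₂ + N₂ * N₁)
  rw [add_mul, mul_add, mul_assoc N₁ N₂ N₂, h₂, mul_zero, zero_add, ← mul_assoc N₂ N₂ N₁, h₂, zero_mul, add_zero,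
    mul_assoc]

theorem cen_commute {x : A} (hx : x ∈ Cen F N₁ N₂) :
    Commute x N₁ ∧ Commute x N₂ ∧ Commute x (N₁ * N₂ + N₂ * N₁) := by
  have key : ∀ y : A, Commute (N₁ * N₂ + N₂ * N₁) y → Commute x y := fun y hy => by
    have hle : Cen F N₁ N₂ ≤ Subalgebra.centralizer F {y} := Algebra.adjoin_le (by
      rw [Set.singleton_subset_iff, SetLike.mem_coe, Subalgebra.mem_centralizer_iff]
      intro g hg
      rw [Set.mem_singleton_iff.mp hg]
      exact hy.eq.symm)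
    exact ((Subalgebra.mem_centralizer_iff F).mp (hle hx) y rfl).symm
  exact ⟨key _ (commute_S₁ h₁ h₂), key _ (commute_S₂ h₁ h₂), key _ (Commute.refl _)⟩

theorem gen_inv {u : Aˣ} {c : F} {N : A} (hN : N * N = 0) (hu : (u : A) = 1 + c • N) :
    ((u⁻¹ : Aˣ) : A) = 1 + (-c) • N := by
  refine Units.inv_eq_of_mul_eq_one_right ?_
  rw [hu, add_mul, one_mul, mul_add, mul_one, smul_mul_smul_comm, hN, smul_zero, add_zero, neg_smul]
  abel

/-- The normal form of an element and of its inverse. -/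
theorem form {u : Aˣ} (hu : u ∈ Gp F N₁ N₂) : ∃ a ∈ Cen F N₁ N₂, ∃ b ∈ Cen F N₁ N₂, ∃ c ∈ Cen F N₁ N₂,
    ∃ d ∈ Cen F N₁ N₂, (u : A) = 1 + a * (N₁ * N₂ + N₂ * N₁) + b * N₁ + c * N₂ + d * (N₁ * N₂) ∧
      ((u⁻¹ : Aˣ) : A) =
        1 + (a + d) * (N₁ * N₂ + N₂ * N₁) - b * N₁ - c * N₂ - d * (N₁ * N₂) := by
  obtain ⟨S, hS⟩ : ∃ S, S = N₁ * N₂ + N₂ * N₁ := ⟨_, rfl⟩
  have hSm : S ∈ Cen F N₁ N₂ := hS ▸ Algebra.subset_adjoin rfl
  have hc₁ : S * N₁ = N₁ * S := hS ▸ commute_S₁ h₁ h₂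
  have hc₂ : S * N₂ = N₂ * S := hS ▸ commute_S₂ h₁ h₂
  have h21 : N₂ * N₁ = S - N₁ * N₂ := by rw [hS]; abel
  have step : ∀ (g : Aˣ) (e : F), ((g : A) = 1 + e • N₁ ∨ (g : A) = 1 + e • N₂) → ∀ v : Aˣ,
      (∃ a ∈ Cen F N₁ N₂, ∃ b ∈ Cen F N₁ N₂, ∃ c ∈ Cen F N₁ N₂, ∃ d ∈ Cen F N₁ N₂,
        (v : A) = 1 + a * S + b * N₁ + c * N₂ + d * (N₁ * N₂) ∧
        ((v⁻¹ : Aˣ) : A) = 1 + (a + d) * S - b * N₁ - c * N₂ - d * (N₁ * N₂)) →
      ∃ a ∈ Cen F N₁ N₂, ∃ b ∈ Cen F N₁ N₂, ∃ c ∈ Cen F N₁ N₂, ∃ d ∈ Cen F N₁ N₂,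
        ((g * v : Aˣ) : A) = 1 + a * S + b * N₁ + c * N₂ + d * (N₁ * N₂) ∧
        (((g * v)⁻¹ : Aˣ) : A) = 1 + (a + d) * S - b * N₁ - c * N₂ - d * (N₁ * N₂) := by
    rintro g e hg v ⟨a, ha, b, hb, c, hc, d, hd, hv, hv'⟩
    obtain ⟨ee, hee, heN, hecom⟩ : ∃ ee ∈ Cen F N₁ N₂, (∀ x : A, e • x = ee * x) ∧ ∀ x : A, Commute ee x :=
      ⟨algebraMap F A e, Subalgebra.algebraMap_mem _ _, fun x => Algebra.smul_def e x,
        fun x => Algebra.commute_algebraMap_left e x⟩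
    have k := fun x (hx : x ∈ Cen F N₁ N₂) => cen_commute h₁ h₂ hx
    have mv : ∀ x ∈ Cen F N₁ N₂, ∀ z : A, N₁ * (x * z) = x * (N₁ * z) ∧ N₂ * (x * z) = x * (N₂ * z) :=
      fun x hx z => ⟨by rw [← mul_assoc, ← (k x hx).1.eq, mul_assoc], by rw [← mul_assoc, ← (k x hx).2.1.eq, mul_assoc]⟩
    have me : ∀ x z : A, x * (ee * z) = ee * (x * z) := fun x z => by
      rw [← mul_assoc, ← (hecom x).eq, mul_assoc]
    rcases hg with hg | hg
    · refine ⟨a, ha, b + ee + ee * a * S, add_mem (add_mem hb hee) (mul_mem (mul_mem hee ha) hSm), c, hc,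
        d + ee * c, add_mem hd (mul_mem hee hc), ?_, ?_⟩
      · rw [Units.val_mul, hg, hv, heN]
        simp only [add_mul, one_mul, mul_add, mul_one, mul_assoc, (mv a ha _).1, (mv b hb _).1, (mv c hc _).1,
          (mv d hd _).1, h₁, mul_zero, add_zero, ← hc₁]
        simp only [← mul_assoc N₁ N₁, h₁, zero_mul, mul_zero, add_zero]
        abel
      · rw [mul_inv_rev, Units.val_mul, gen_inv h₁ h₂ h₁ hg, hv', neg_smul, heN]
        simp only [add_mul, sub_mul, one_mul, mul_add, mul_one, mul_neg, mul_assoc, me, h₁, mul_zero, sub_zero]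
        simp only [h21, mul_sub, sub_mul, ← hc₁, ← mul_assoc N₁ N₁, h₁, zero_mul, mul_zero, sub_zero]
        simp only [mul_add, mul_neg, mul_sub]
        abel
    · refine ⟨a + ee * b, add_mem ha (mul_mem hee hb), b, hb, c + ee + ee * a * S + ee * d * S,
        add_mem (add_mem (add_mem hc hee) (mul_mem (mul_mem hee ha) hSm)) (mul_mem (mul_mem hee hd) hSm),
        d - ee * b, sub_mem hd (mul_mem hee hb), ?_, ?_⟩
      · rw [Units.val_mul, hg, hv, heN]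
        simp only [add_mul, sub_mul, one_mul, mul_add, mul_one, mul_assoc, (mv a ha _).2, (mv b hb _).2, (mv c hc _).2,
          (mv d hd _).2, h₂, mul_zero, add_zero, ← hc₂]
        simp only [← mul_assoc N₂ N₁, h21, sub_mul, mul_assoc N₁ N₂ N₂, h₂, mul_zero, sub_zero, mul_sub]
        abel
      · rw [mul_inv_rev, Units.val_mul, gen_inv h₁ h₂ h₂ hg, hv', neg_smul, heN]
        simp only [add_mul, sub_mul, one_mul, mul_add, mul_one, mul_neg, mul_assoc, me, h₂, mul_zero, sub_zero,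
          neg_zero]
        simp only [mul_add, mul_neg, mul_sub]
        abel
  rw [← hS]
  refine Subgroup.closure_induction_left (p := fun (v : Aˣ) _ => ∃ a ∈ Cen F N₁ N₂, ∃ b ∈ Cen F N₁ N₂, ∃ c ∈ Cen F N₁ N₂,
      ∃ d ∈ Cen F N₁ N₂, (v : A) = 1 + a * S + b * N₁ + c * N₂ + d * (N₁ * N₂) ∧
        ((v⁻¹ : Aˣ) : A) = 1 + (a + d) * S - b * N₁ - c * N₂ - d * (N₁ * N₂)) ?_ ?_ ?_ hu
  · exact ⟨0, zero_mem _, 0, zero_mem _, 0, zero_mem _, 0, zero_mem _, by simp, by simp⟩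
  · rintro g ⟨e, hg⟩ v _ hv
    exact step g e hg v hv
  · rintro g ⟨e, hg⟩ v _ hv
    exact step g⁻¹ (-e) (hg.imp (gen_inv h₁ h₂ h₁) (gen_inv h₁ h₂ h₂)) v hv

theorem add_inv {u : Aˣ} (hu : u ∈ Gp F N₁ N₂) :
    ∃ f ∈ Cen F N₁ N₂, (u : A) + ((u⁻¹ : Aˣ) : A) = 2 + f * (N₁ * N₂ + N₂ * N₁) := by
  obtain ⟨a, ha, b, -, c, -, d, hd, e₁, e₂⟩ := form h₁ h₂ hu
  refine ⟨a + a + d, add_mem (add_mem ha ha) hd, ?_⟩
  rw [e₁, e₂, add_mul (a + a), add_mul a a, add_mul a d, ← one_add_one_eq_two]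
  abel

theorem commute_gp {u : Aˣ} (hu : u ∈ Gp F N₁ N₂) : Commute (N₁ * N₂ + N₂ * N₁) (u : A) := by
  obtain ⟨a, ha, b, hb, c, hc, d, hd, e₁, -⟩ := form h₁ h₂ hu
  rw [e₁]
  have k := fun x (hx : x ∈ Cen F N₁ N₂) => ((cen_commute h₁ h₂ hx).2.2).symm
  exact ((((Commute.one_right _).add_right ((k a ha).mul_right (Commute.refl _))).add_right
    ((k b hb).mul_right (commute_S₁ h₁ h₂))).add_right ((k c hc).mul_right (commute_S₂ h₁ h₂))).add_right
    ((k d hd).mul_right ((commute_S₁ h₁ h₂).mul_right (commute_S₂ h₁ h₂)))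

/-- An involution of the group is central. -/
theorem invol (h2 : (2 : F) ≠ 0) {u : Aˣ} (hu : u ∈ Gp F N₁ N₂) (hu2 : u * u = 1) :
    ∃ f ∈ Cen F N₁ N₂, (u : A) = 1 + f * (N₁ * N₂ + N₂ * N₁) := by
  obtain ⟨f, hf, e⟩ := add_inv h₁ h₂ hu
  rw [inv_eq_of_mul_eq_one_right hu2] at e
  refine ⟨(2 : F)⁻¹ • f, Subalgebra.smul_mem _ hf _, ?_⟩
  have e' : (2 : F) • (u : A) = (2 : F) • (1 + ((2 : F)⁻¹ • f) * (N₁ * N₂ + N₂ * N₁)) := by
    rw [two_smul, e, smul_add, smul_mul_assoc, smul_smul, mul_inv_cancel₀ h2, one_smul, two_smul, one_add_one_eq_two]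
  simpa only [smul_smul, inv_mul_cancel₀ h2, one_smul] using congrArg ((2 : F)⁻¹ • ·) e'

/-- The elements are unipotent if the central element is nilpotent. -/
theorem unip {k : ℕ} (hk : (N₁ * N₂ + N₂ * N₁) ^ k = 0) {u : Aˣ} (hu : u ∈ Gp F N₁ N₂) :
    ((u : A) - 1) ^ (2 * k) = 0 := by
  obtain ⟨f, hf, e⟩ := add_inv h₁ h₂ hu
  have sq : ((u : A) - 1) ^ 2 = f * (N₁ * N₂ + N₂ * N₁) * (u : A) := by
    have e' := congrArg (· * (u : A)) e
    simp only [add_mul, Units.inv_mul, two_mul] at e'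
    rw [pow_two, sub_mul, one_mul, mul_sub, mul_one, show f * (N₁ * N₂ + N₂ * N₁) * (u : A) =
      (u : A) * (u : A) + 1 - ((u : A) + (u : A)) from eq_sub_of_add_eq' e'.symm]
    abel
  have hcf : Commute (f * (N₁ * N₂ + N₂ * N₁)) (u : A) := by
    have h := (Commute.refl (u : A)).sub_right ((Commute.one_right (u : A)))
    have hc : Commute (((u : A) - 1) ^ 2) (u : A) := (h.symm).pow_left 2
    rw [sq] at hc
    have := congrArg (· * ((u⁻¹ : Aˣ) : A)) hc.eq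
    simp only [mul_assoc, Units.mul_inv, mul_one] at this
    rw [commute_iff_eq, mul_assoc]
    exact this
  rw [pow_mul, sq, hcf.mul_pow, (cen_commute h₁ h₂ hf).2.2.mul_pow, hk, mul_zero, zero_mul]

end Alg

section Mat

open Matrix
open Cfsg.Agent.Fusion.Dickson (upU lowL ext' mul_entry det_eq inv_entries upU_mul lowL_mul upU_zero lowL_zero)

variable {ι : Type} [Fintype ι] [DecidableEq ι] [Fintype F]
variable {N₁ N₂ : Matrix ι ι F} (h₁ : N₁ * N₁ = 0) (h₂ : N₂ * N₂ = 0)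

include h₁ h₂

/-- Either the group is a p-group or it has an involution. -/
theorem pgroup_or_invol (h2 : (2 : F) ≠ 0) (p : ℕ) [Fact p.Prime] [CharP F p] :
    IsPGroup p (Gp F N₁ N₂) ∨ ∃ u ∈ Gp F N₁ N₂, u ≠ 1 ∧ u * u = 1 := by
  classical
  obtain ⟨S, hS⟩ : ∃ S, S = N₁ * N₂ + N₂ * N₁ := ⟨_, rfl⟩
  by_cases hnil : IsNilpotent S
  · left
    obtain ⟨k, hk⟩ := hnil
    rintro ⟨u, hu⟩
    rw [hS] at hk
    obtain ⟨m, hm⟩ : ∃ m : ℕ, 2 * k ≤ p ^ m := ⟨2 * k, (Nat.lt_pow_self (Fact.out : p.Prime).one_lt).le⟩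
    refine ⟨m, Subtype.ext (Units.ext ?_)⟩
    have h := pow_eq_zero_of_le hm (unip h₁ h₂ hk hu)
    rcases isEmpty_or_nonempty ι with hi | hi
    · exact Subsingleton.elim _ _
    rw [sub_pow_char_pow_of_commute p m (Commute.one_right _), one_pow, sub_eq_zero] at h
    simpa using h
  right
  -- an irreducible factor of the minimal polynomial with a vector
  have hint : IsIntegral F S := IsIntegral.of_finite F S
  obtain ⟨r, hr, hXr⟩ := (minpoly F S).exists_eq_pow_rootMultiplicity_mul_and_not_dvd (minpoly.ne_zero hint) 0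
  rw [map_zero, sub_zero] at hr hXr
  have hru : ¬ IsUnit r := fun hu => hnil ⟨(minpoly F S).rootMultiplicity 0, by
    have h := minpoly.aeval F S
    obtain ⟨w, hw, rfl⟩ := Polynomial.isUnit_iff.mp hu
    rw [hr, map_mul, map_pow, aeval_X, aeval_C] at h
    have h' := congrArg (· * algebraMap F (Matrix ι ι F) w⁻¹) h
    simp only [mul_assoc, ← map_mul, mul_inv_cancel₀ hw.ne_zero, map_one, mul_one, zero_mul] at h'
    exact h'⟩
  obtain ⟨π, hπm, hπ, hπr⟩ := Polynomial.exists_monic_irreducible_factor r hru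
  have hπX : ¬ π ∣ X := fun h => hXr ((hπ.associated_of_dvd irreducible_X h).symm.dvd.trans hπr)
  obtain ⟨Q, hQ⟩ : π ∣ minpoly F S := hr ▸ hπr.mul_left _
  have hQ0 : Q ≠ 0 := fun h => minpoly.ne_zero hint (by rw [hQ, h, mul_zero])
  have hQS : aeval S Q ≠ 0 := fun h => by
    have h1 := Polynomial.natDegree_le_of_dvd (minpoly.dvd F S h) hQ0
    rw [hQ, natDegree_mul hπ.ne_zero hQ0] at h1
    have := hπ.natDegree_pos
    omega
  obtain ⟨e, he⟩ : ∃ e, aeval S Q *ᵥ e ≠ 0 := by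
    by_contra! h
    exact hQS (Matrix.toLin'.injective (LinearMap.ext fun x => by simpa using h x))
  have hπe : aeval S π *ᵥ (aeval S Q *ᵥ e) = 0 := by
    rw [mulVec_mulVec, ← map_mul, ← hQ, minpoly.aeval, zero_mulVec]
  have hev : ∀ P : F[X], Commute (aeval S P) N₁ ∧ Commute (aeval S P) N₂ := fun P => by
    have : aeval S P ∈ Cen F N₁ N₂ := by
      rw [Cen, ← hS, Algebra.adjoin_singleton_eq_range_aeval]; exact ⟨P, rfl⟩
    exact ⟨(cen_commute h₁ h₂ this).1, (cen_commute h₁ h₂ this).2.1⟩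
  obtain ⟨p₀, hp₀, hN, hπp⟩ : ∃ p₀, p₀ ≠ 0 ∧ N₁ *ᵥ p₀ = 0 ∧ aeval S π *ᵥ p₀ = 0 := by
    by_cases h : N₁ *ᵥ (aeval S Q *ᵥ e) = 0
    · exact ⟨_, he, h, hπe⟩
    · refine ⟨_, h, by rw [mulVec_mulVec, h₁, zero_mulVec], ?_⟩
      rw [mulVec_mulVec, (hev π).1.eq, ← mulVec_mulVec, hπe, mulVec_zero]
  haveI : Fact (Irreducible π) := ⟨hπ⟩
  obtain ⟨q₀, hq₀⟩ : ∃ q₀, q₀ = N₂ *ᵥ p₀ := ⟨_, rfl⟩
  have hπq : aeval S π *ᵥ q₀ = 0 := by
    rw [hq₀, mulVec_mulVec, (hev π).2.eq, ← mulVec_mulVec, hπp, mulVec_zero]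
  have hNq : N₁ *ᵥ q₀ = S *ᵥ p₀ := by
    rw [hq₀, hS, add_mulVec, ← mulVec_mulVec p₀ N₂ N₁, hN, mulVec_zero, add_zero, mulVec_mulVec]
  have hdvd : ∀ P : F[X], aeval S P *ᵥ p₀ = 0 → π ∣ P := fun P hP => by
    by_contra hn
    obtain ⟨s, t, hst⟩ := (hπ.coprime_iff_not_dvd.mpr hn)
    apply hp₀
    have := congrArg (fun T => aeval S T *ᵥ p₀) hst
    simpa only [map_add, map_mul, map_one, add_mulVec, ← mulVec_mulVec, hπp, hP, mulVec_zero, add_zero,
      one_mulVec] using this.symm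
  have hmul0 : ∀ P : F[X], π ∣ P → aeval S P *ᵥ p₀ = 0 ∧ aeval S P *ᵥ q₀ = 0 := fun P ⟨T, hT⟩ => by
    rw [hT, mul_comm π T, map_mul, ← mulVec_mulVec, ← mulVec_mulVec, hπp, hπq, mulVec_zero]
    exact ⟨rfl, rfl⟩
  let φ : F[X] →+* AdjoinRoot π := AdjoinRoot.mk π
  haveI : Module.Finite F (AdjoinRoot π) := (AdjoinRoot.powerBasis hπ.ne_zero).finite
  obtain ⟨α, hα⟩ : ∃ α, α = AdjoinRoot.root π := ⟨_, rfl⟩
  have hα0 : α ≠ 0 := fun h => hπX (AdjoinRoot.mk_eq_zero.mp (by rw [AdjoinRoot.mk_X, ← hα, h]))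
  -- the correspondence
  let Rel : (Matrix ι ι F)ˣ × Matrix.SpecialLinearGroup (Fin 2) (AdjoinRoot π) → Prop := fun x => x.1 ∈ Gp F N₁ N₂ ∧ ∃ a b c d : F[X],
    (φ a = x.2.1 0 0 ∧ φ b = x.2.1 0 1 ∧ φ c = x.2.1 1 0 ∧ φ d = x.2.1 1 1) ∧
    (x.1 : Matrix ι ι F) *ᵥ q₀ = aeval S a *ᵥ q₀ + aeval S c *ᵥ p₀ ∧
    (x.1 : Matrix ι ι F) *ᵥ p₀ = aeval S b *ᵥ q₀ + aeval S d *ᵥ p₀
  have hcomm : ∀ u ∈ Gp F N₁ N₂, ∀ P : F[X], ∀ x : ι → F,
      (u : Matrix ι ι F) *ᵥ (aeval S P *ᵥ x) = aeval S P *ᵥ ((u : Matrix ι ι F) *ᵥ x) := fun u hu P x => by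
    have hc : Commute S (u : Matrix ι ι F) := hS ▸ commute_gp h₁ h₂ hu
    have : Commute (aeval S P) (u : Matrix ι ι F) := by
      have hle : Algebra.adjoin F {S} ≤ Subalgebra.centralizer F {(u : Matrix ι ι F)} := Algebra.adjoin_le (by
        rw [Set.singleton_subset_iff, SetLike.mem_coe, Subalgebra.mem_centralizer_iff]
        intro g hg
        rw [Set.mem_singleton_iff.mp hg]
        exact hc.eq.symm)
      exact ((Subalgebra.mem_centralizer_iff F).mp (hle (by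
        rw [Algebra.adjoin_singleton_eq_range_aeval]; exact ⟨P, rfl⟩)) _ rfl).symm
    rw [mulVec_mulVec, mulVec_mulVec, this.eq]
  let R : Subgroup ((Matrix ι ι F)ˣ × Matrix.SpecialLinearGroup (Fin 2) (AdjoinRoot π)) :=
  { carrier := {x | Rel x}
    one_mem' := ⟨one_mem _, 1, 0, 0, 1, ⟨by simp, by simp, by simp, by simp⟩, by simp, by simp⟩
    mul_mem' := by
      rintro ⟨u, B⟩ ⟨u', B'⟩ ⟨hu, a, b, c, d, ⟨ea, eb, ec, ed⟩, e₁, e₂⟩ ⟨hu', a', b', c', d', ⟨ea', eb', ec', ed'⟩, e₁', e₂'⟩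
      refine ⟨mul_mem hu hu', a * a' + b * c', a * b' + b * d', c * a' + d * c', c * b' + d * d', ⟨?_, ?_, ?_, ?_⟩,
        ?_, ?_⟩
      · simp only [Prod.mk_mul_mk, mul_entry, map_add, map_mul, ea, eb, ea', ec']
      · simp only [Prod.mk_mul_mk, mul_entry, map_add, map_mul, ea, eb, eb', ed']
      · simp only [Prod.mk_mul_mk, mul_entry, map_add, map_mul, ec, ed, ea', ec']
      · simp only [Prod.mk_mul_mk, mul_entry, map_add, map_mul, ec, ed, eb', ed']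
      · simp only [Prod.mk_mul_mk, Units.val_mul, ← mulVec_mulVec q₀ (u : Matrix ι ι F), e₁', mulVec_add,
          hcomm u hu, e₁, e₂, mulVec_mulVec, ← map_mul, map_add, add_mulVec, mul_comm a a', mul_comm b c',
          mul_comm c a', mul_comm d c']
        abel
      · simp only [Prod.mk_mul_mk, Units.val_mul, ← mulVec_mulVec p₀ (u : Matrix ι ι F), e₂', mulVec_add,
          hcomm u hu, e₁, e₂, mulVec_mulVec, ← map_mul, map_add, add_mulVec, mul_comm a b', mul_comm b d',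
          mul_comm c b', mul_comm d d']
        abel
    inv_mem' := by
      rintro ⟨u, B⟩ ⟨hu, a, b, c, d, ⟨ea, eb, ec, ed⟩, e₁, e₂⟩
      obtain ⟨i1, i2, i3, i4⟩ := inv_entries B
      have hdet : π ∣ a * d - b * c - 1 := AdjoinRoot.mk_eq_zero.mp (by
        change φ (a * d - b * c - 1) = 0
        rw [map_sub, map_sub, map_mul, map_mul, map_one, ea, eb, ec, ed]
        linear_combination det_eq B)
      refine ⟨inv_mem hu, d, -b, -c, a, ⟨by simp [i1, ed], by simp [i2, eb], by simp [i3, ec], by simp [i4, ea]⟩,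
        ?_, ?_⟩
      · refine gl_mulVec_injective u ?_
        change (u : Matrix ι ι F) *ᵥ (((u⁻¹ : (Matrix ι ι F)ˣ) : Matrix ι ι F) *ᵥ q₀) = (u : Matrix ι ι F) *ᵥ _
        beta_reduce
        rw [mulVec_mulVec, Units.mul_inv, one_mulVec, mulVec_add, hcomm u hu, hcomm u hu, e₁, e₂]
        have z := hmul0 _ hdet
        simp only [map_sub, map_mul, map_neg, map_one, mulVec_add, mulVec_mulVec, neg_mul, neg_mulVec, sub_mulVec,
          one_mulVec, ← map_mul, mul_comm d a, mul_comm c b, mul_comm d c] at z ⊢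
        linear_combination (norm := abel) -z.2
      · refine gl_mulVec_injective u ?_
        change (u : Matrix ι ι F) *ᵥ (((u⁻¹ : (Matrix ι ι F)ˣ) : Matrix ι ι F) *ᵥ p₀) = (u : Matrix ι ι F) *ᵥ _
        beta_reduce
        rw [mulVec_mulVec, Units.mul_inv, one_mulVec, mulVec_add, hcomm u hu, hcomm u hu, e₁, e₂]
        have z := hmul0 _ hdet
        simp only [map_sub, map_mul, map_neg, map_one, mulVec_add, mulVec_mulVec, neg_mul, neg_mulVec, sub_mulVec,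
          one_mulVec, ← map_mul, mul_comm d a, mul_comm c b, mul_comm b a] at z ⊢
        linear_combination (norm := abel) -z.1 }
  let G2 : Subgroup (Matrix.SpecialLinearGroup (Fin 2) (AdjoinRoot π)) := R.map (MonoidHom.snd _ _)
  have mk1 : ∀ (N : Matrix ι ι F), N * N = 0 → ∀ c : F, ∃ u : (Matrix ι ι F)ˣ, (u : Matrix ι ι F) = 1 + c • N :=
    fun N hN c => ⟨⟨1 + c • N, 1 + (-c) • N, by
      rw [add_mul, one_mul, mul_add, mul_one, smul_mul_smul_comm, hN, smul_zero, add_zero, neg_smul]; abel, by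
      rw [add_mul, one_mul, mul_add, mul_one, smul_mul_smul_comm, hN, smul_zero, add_zero, neg_smul]; abel⟩, rfl⟩
  have hφC : ∀ c : F, φ (C c) = algebraMap F (AdjoinRoot π) c := fun c => rfl
  have hup : ∀ c : F, upU (algebraMap F (AdjoinRoot π) c) ∈ G2 := fun c => by
    obtain ⟨u, hu⟩ := mk1 N₂ h₂ c
    refine ⟨(u, upU (algebraMap F _ c)), ⟨Subgroup.subset_closure ⟨c, Or.inr hu⟩, 1, C c, 0, 1,
      ⟨by simp [upU], by simp [upU, hφC], by simp [upU], by simp [upU]⟩, ?_, ?_⟩, rfl⟩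
    · rw [hu, add_mulVec, one_mulVec, smul_mulVec, map_one, one_mulVec, map_zero, zero_mulVec, hq₀, mulVec_mulVec,
        h₂, zero_mulVec, smul_zero]
    · simp only [hu, add_mulVec, one_mulVec, smul_mulVec, map_one, aeval_C, Algebra.algebraMap_eq_smul_one, hq₀]
      abel
  have hlo : ∀ c : F, lowL (algebraMap F (AdjoinRoot π) c * α) ∈ G2 := fun c => by
    obtain ⟨u, hu⟩ := mk1 N₁ h₁ c
    refine ⟨(u, lowL (algebraMap F _ c * α)), ⟨Subgroup.subset_closure ⟨c, Or.inl hu⟩, 1, 0, C c * X, 1,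
      ⟨by simp [lowL], by simp [lowL], by simp [lowL, hφC, hα, φ], by simp [lowL]⟩, ?_, ?_⟩, rfl⟩
    · simp only [hu, add_mulVec, one_mulVec, smul_mulVec, map_one, map_mul, aeval_C, aeval_X,
        Algebra.algebraMap_eq_smul_one, hNq, smul_mul_assoc, one_mul]
    · simp only [hu, add_mulVec, one_mulVec, smul_mulVec, map_one, map_zero, zero_mulVec, hN, smul_zero, zero_add,
        add_zero]
  have hneg : ∃ B ∈ G2, B.1 0 0 = -1 ∧ B.1 0 1 = 0 ∧ B.1 1 0 = 0 ∧ B.1 1 1 = -1 := by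
    have hal : lowL α ∈ G2 := by simpa using hlo 1
    by_cases hex : Nat.card F ≠ 3 ∨ α ^ 2 ≠ -1
    · obtain ⟨T, hT⟩ : ∃ T : F[X], aeval α T = -α⁻¹ := by
        obtain ⟨T, hT⟩ := AdjoinRoot.mk_surjective (-α⁻¹ : AdjoinRoot π)
        exact ⟨T, by rw [hα, AdjoinRoot.aeval_eq, hT, hα]⟩
      have hu := SL2SimpleExt.aeval_mem_of_finite_or hup hlo h2 hex (IsIntegral.of_finite F α) hα0 T
      rw [SL2SimpleExt.mem_upSet, hT] at hu
      refine ⟨upU (-α⁻¹) * lowL α * upU (-α⁻¹) * (upU (-α⁻¹) * lowL α * upU (-α⁻¹)),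
        mul_mem (mul_mem (mul_mem hu hal) hu) (mul_mem (mul_mem hu hal) hu), ?_⟩
      simp only [mul_entry]
      simp [upU, lowL, hα0]
    · push Not at hex
      have h3 : (3 : AdjoinRoot π) = 0 := by
        have hc : (Fintype.card F : F) = 0 := FiniteField.cast_card_eq_zero F
        rw [← Nat.card_eq_fintype_card, hex.1] at hc
        have := congrArg (algebraMap F (AdjoinRoot π)) hc
        rwa [map_natCast, map_zero, Nat.cast_ofNat] at this
      obtain ⟨A₁, hA₁⟩ : ∃ A₁, A₁ = lowL α * upU (algebraMap F (AdjoinRoot π) 1) := ⟨_, rfl⟩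
      have hA : A₁ ∈ G2 := hA₁ ▸ mul_mem hal (hup 1)
      refine ⟨A₁ * A₁ * (A₁ * A₁) * A₁, mul_mem (mul_mem (mul_mem hA hA) (mul_mem hA hA)) hA, ?_⟩
      have h4 := hex.2
      subst hA₁
      simp only [mul_entry]
      simp [upU, lowL]
      refine ⟨?_, ?_, ?_, ?_⟩ <;> grind
  obtain ⟨B, ⟨⟨u, B'⟩, hR, rfl⟩, hB, hB01, hB10, hB11⟩ := hneg
  change B'.1 0 0 = -1 at hB
  change B'.1 0 1 = 0 at hB01
  change B'.1 1 0 = 0 at hB10
  change B'.1 1 1 = -1 at hB11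
  obtain ⟨hu, a, b, c, d, ⟨ea, eb, ec, ed⟩, e₁, e₂⟩ := id (show Rel (u, B') from hR)
  refine ⟨u ^ (orderOf u / 2), pow_mem hu _, ?_⟩
  have heven : 2 ∣ orderOf u := by
    by_contra hodd
    obtain ⟨m, hm⟩ : ∃ m, orderOf u = 2 * m + 1 := ⟨orderOf u / 2, by omega⟩
    -- a power of the pair with trivial first and nontrivial second entry
    have hk : ∀ B'' : Matrix.SpecialLinearGroup (Fin 2) (AdjoinRoot π), ((1 : (Matrix ι ι F)ˣ), B'') ∈ R → B'' = 1 := by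
      intro B'' hB''
      obtain ⟨-, a', b', c', d', ⟨ea', eb', ec', ed'⟩, f₁, f₂⟩ := id (show Rel (1, B'') from hB'')
      have ind : ∀ f g : F[X], aeval S f *ᵥ q₀ + aeval S g *ᵥ p₀ = 0 → π ∣ f ∧ π ∣ g := fun f g h => by
        have hf : π ∣ f := by
          have h' := congrArg (fun x => N₁ *ᵥ x) h
          simp only [mulVec_add, mulVec_mulVec, mulVec_zero] at h'
          rw [← (hev f).1.eq, ← (hev g).1.eq, ← mulVec_mulVec, ← mulVec_mulVec, hN, mulVec_zero, add_zero, hNq,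
            mulVec_mulVec] at h'
          exact (hπ.prime.dvd_or_dvd (hdvd (f * X) (by rwa [map_mul, aeval_X]))).resolve_right hπX
        refine ⟨hf, hdvd g ?_⟩
        rwa [(hmul0 f hf).2, zero_add] at h
      rw [Units.val_one, one_mulVec] at f₁ f₂
      obtain ⟨k1, k2⟩ := ind (a' - 1) c' (by
        rw [map_sub, map_one, sub_mulVec, one_mulVec, sub_add_eq_add_sub, ← f₁, sub_self])
      obtain ⟨k3, k4⟩ := ind b' (d' - 1) (by
        rw [map_sub, map_one, sub_mulVec, one_mulVec, ← add_sub_assoc, ← f₂, sub_self])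
      have z : ∀ f, π ∣ f → φ f = 0 := fun f hf => AdjoinRoot.mk_eq_zero.mpr hf
      have za := z _ k1
      have zd := z _ k4
      rw [map_sub, map_one, sub_eq_zero] at za zd
      apply ext'
      · exact ea'.symm.trans za
      · exact eb'.symm.trans (z _ k3)
      · exact ec'.symm.trans (z _ k2)
      · exact ed'.symm.trans zd
    have hpow := pow_mem hR (orderOf u)
    rw [Prod.pow_mk, pow_orderOf_eq_one] at hpow
    have hB1 := hk _ hpow
    have hsq : B' * B' = 1 := by apply ext' <;> simp [mul_entry, hB, hB01, hB10, hB11]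
    rw [hm, pow_succ, pow_mul, pow_two, hsq, one_pow, one_mul] at hB1
    have h00 : B'.1 0 0 = 1 := by rw [hB1]; rfl
    rw [hB] at h00
    exact h2 ((algebraMap F (AdjoinRoot π)).injective (by rw [map_ofNat, map_zero]; linear_combination -h00))
  refine ⟨fun h => ?_, ?_⟩
  · have := orderOf_dvd_of_pow_eq_one h
    have hpos : 0 < orderOf u := orderOf_pos u
    have := Nat.le_of_dvd (by omega) this
    omega
  · rw [← pow_add, ← two_mul, Nat.mul_div_cancel' heven, pow_orderOf_eq_one]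

end Mat

end Cfsg.Agent.Classical.TensorMax.OO.QuadPair
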