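/-
A root element and a conjugate root element: the conjugate lies over four dimensions of the second space with
every plane, which puts the group into the stabiliser of the product.
-/
import Cfsg.Agent.Lib.Classical.TensorMax.OO.Moves
import Cfsg.Agent.Lib.Classical.TensorMax.OO.QuadPair

set_option autoImplicit false
set_option linter.unusedSectionVars false

namespace Cfsg.Agent.Classical.TensorMax.OO

open Matrix Module Cfsg.Geo
open Cfsg.Agent.Classical Cfsg.Agent.Classical.TensorMax.Form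

theorem tm_negl {α β : Type} [Fintype α] [DecidableEq α] [Fintype β] [DecidableEq β] {F : Type*} [Field F]
    (a : α → F) (b : β → F) : tm (-a) b = -tm a b := by
  funext p; simp [tm_apply]

theorem tm_negr {α β : Type} [Fintype α] [DecidableEq α] [Fintype β] [DecidableEq β] {F : Type*} [Field F]
    (a : α → F) (b : β → F) : tm a (-b) = -tm a b := by
  funext p; simp [tm_apply]

variable {n₁ n₂ : ℕ} {F : Type*} [Field F] [Fintype F]
variable {fa : (Fin n₁ → F) → (Fin n₁ → F) → F} {fb : (Fin n₂ → F) → (Fin n₂ → F) → F}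
variable {X : Subgroup (GL (Fin n₁ × Fin n₂) F)}

local notation "κ" => Fin n₁ × Fin n₂
local notation:max g:max " ⬝ₘ " x:max =>
  ((g : GL (Fin n₁ × Fin n₂) F) : Matrix (Fin n₁ × Fin n₂) (Fin n₁ × Fin n₂) F) *ᵥ x
local notation "τ" => tf (RingEquiv.refl F) fa fb
local notation "VA" => Fin n₁ → F
local notation "VB" => Fin n₂ → F
local notation "Mat" => Matrix (Fin n₁ × Fin n₂) (Fin n₁ × Fin n₂) F

/-- The vectors with all rows in a subspace. -/
def rowsIn (n₁ : ℕ) {n₂ : ℕ} {F : Type*} [Field F] (B : Submodule F (Fin n₂ → F)) :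
    Submodule F (Fin n₁ × Fin n₂ → F) where
  carrier := {x | ∀ i, Form.row x i ∈ B}
  add_mem' := fun {x y} hx hy i => by rw [row_add]; exact add_mem (hx i) (hy i)
  zero_mem' := fun _ => B.zero_mem
  smul_mem' := fun c {x} hx i => by rw [row_smul]; exact B.smul_mem c (hx i)

theorem tm_mem_rowsIn {B : Submodule F VB} {w : VB} (hw : w ∈ B) (a : VA) : tm a w ∈ rowsIn n₁ B := fun i => by
  rw [row_tm]; exact B.smul_mem _ hw

theorem finrank_rowsIn (B : Submodule F VB) : finrank F (rowsIn n₁ B) = n₁ * finrank F B := by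
  let e : rowsIn n₁ B ≃ₗ[F] (Fin n₁ → B) :=
    { toFun := fun x i => ⟨Form.row x.1 i, x.2 i⟩
      invFun := fun y => ⟨fun p => (y p.1).1 p.2, fun i => (y i).2⟩
      left_inv := fun x => rfl
      right_inv := fun y => rfl
      map_add' := fun x y => rfl
      map_smul' := fun c x => rfl }
  rw [e.finrank_eq, Module.finrank_pi_fintype, Finset.sum_const, Finset.card_univ, Fintype.card_fin, smul_eq_mul]

theorem zt_apply {u v : VB} {c : F} {g z : GL κ F} (hg : Zt fb u v c g) (hz : Zt fb u v 1 z) :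
    (g : Mat) = 1 + c • ((z : Mat) - 1) := by
  refine Matrix.toLin'.injective (LinearMap.ext fun x => ?_)
  simp only [Matrix.toLin'_apply, Matrix.add_mulVec, Matrix.one_mulVec, Matrix.smul_mulVec, Matrix.sub_mulVec, hg x,
    hz x, one_smul, tm_smul_left]
  module

variable (C : Ctx fa fb X)

include C

/-- Totally singular subspaces in a space of rows are at most half as large. -/
theorem two_finrank_le {B : Submodule F VB} (hB : ∀ x ∈ B, (∀ y ∈ B, fb x y = 0) → x = 0) {L : Submodule F (κ → F)}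
    (hLB : L ≤ rowsIn n₁ B) (hL : ∀ x ∈ L, ∀ y ∈ L, τ x y = 0) : 2 * finrank F L ≤ n₁ * finrank F B := by
  have R := reflex C.data
  obtain ⟨AB, hAB⟩ : ∃ AB, AB = rowsIn n₁ B := ⟨_, rfl⟩
  have h0 : AB ⊓ R.perp AB = ⊥ := by
    refine (Submodule.eq_bot_iff _).mpr fun x ⟨hx, hx'⟩ => ?_
    subst hAB
    have key : ∀ w ∈ B, ctr fb w x = 0 := fun w hw => ctr_eq C.data fun a => by
      rw [hx' _ (tm_mem_rowsIn hw a), lzero C.a]
    funext p
    exact congrFun (hB _ (hx p.1) fun w hw => congrFun (key w hw) p.1) p.2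
  have h1 := R.finrank_perp L
  have h2 := R.finrank_perp AB
  have hle : L ⊔ R.perp AB ≤ R.perp L := by
    refine sup_le (fun x hx y hy => hL x hx y hy) fun x hx y hy => hx y ?_
    exact hAB ▸ hLB hy
  have h3 := Submodule.finrank_mono hle
  have h4 := Submodule.finrank_sup_add_finrank_inf_eq L (R.perp AB)
  have h5 : L ⊓ R.perp AB = ⊥ := eq_bot_iff.mpr fun x ⟨hx, hx'⟩ => h0 ▸ ⟨hAB ▸ hLB hx, hx'⟩
  rw [h5, finrank_bot] at h4
  rw [← finrank_rowsIn, ← hAB]
  omega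

/-- The image of a root element. -/
theorem range_zt {u v u' v' : VB} (P : Frame fb u v u' v') {z : GL κ F} (hz : Zt fb u v 1 z) :
    finrank F (LinearMap.range ((z : Mat) - 1).mulVecLin) = 2 * n₁ ∧
    (∀ a, tm a u ∈ LinearMap.range ((z : Mat) - 1).mulVecLin) ∧
    (∀ x, ∃ a b, ((z : Mat) - 1) *ᵥ x = tm a v + tm b u) := by
  have hN : ∀ x, ((z : Mat) - 1) *ᵥ x = tm (ctr fb u x) v - tm (ctr fb v x) u := fun x => by
    rw [Matrix.sub_mulVec, Matrix.one_mulVec, hz, one_smul, one_smul]; abel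
  let L : VA × VA →ₗ[F] (κ → F) :=
    { toFun := fun p => tm p.1 v + tm p.2 u
      map_add' := fun p q => by simp only [Prod.fst_add, Prod.snd_add, tm_add_left]; abel
      map_smul' := fun c p => by simp only [Prod.smul_fst, Prod.smul_snd, tm_smul_left, RingHom.id_apply, smul_add] }
  have hLi : Function.Injective L := by
    rw [← LinearMap.ker_eq_bot, LinearMap.ker_eq_bot']
    rintro ⟨a, b⟩ h
    have k : ∀ i, b i = 0 ∧ a i = 0 := fun i => P.pl.indep (b i) (a i) (by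
      have := congrArg (fun x => Form.row x i) h
      simp only [L, LinearMap.coe_mk, AddHom.coe_mk, row_add, row_tm] at this
      rw [add_comm]; exact this)
    exact Prod.ext (funext fun i => (k i).2) (funext fun i => (k i).1)
  have hr : ∀ a b, tm a v + tm b u ∈ LinearMap.range ((z : Mat) - 1).mulVecLin := fun a b =>
    ⟨tm a u' - tm b v', by
      rw [Matrix.mulVecLin_apply, hN, C.csub, C.csub, C.ctm, C.ctm, C.ctm, C.ctm, P.u'u, P.u'v, P.v'u, P.v'v,
        one_smul, one_smul, zero_smul, zero_smul, sub_zero, zero_sub, tm_negl, sub_neg_eq_add]⟩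
  have e : LinearMap.range ((z : Mat) - 1).mulVecLin = LinearMap.range L := by
    refine le_antisymm ?_ fun _ ⟨p, hp⟩ => hp ▸ hr p.1 p.2
    rintro _ ⟨x, rfl⟩
    exact ⟨(ctr fb u x, -ctr fb v x), by
      simp only [L, LinearMap.coe_mk, AddHom.coe_mk, Matrix.mulVecLin_apply, hN, tm_negl]; abel⟩
  refine ⟨?_, fun a => by simpa [tm_zero_left] using hr 0 a,
    fun x => ⟨ctr fb u x, -ctr fb v x, by rw [hN, tm_negl]; abel⟩⟩
  rw [e, LinearMap.finrank_range_of_inj hLi, Module.finrank_prod, Module.finrank_fintype_fun_eq_card, Fintype.card_fin,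
    two_mul]

/-- A group `N` above the Kronecker products containing all elements that move root elements into them. -/
structure Mv (fb : (Fin n₂ → F) → (Fin n₂ → F) → F) (X N : Subgroup (GL (Fin n₁ × Fin n₂) F)) : Prop where
  move : ∀ g ∈ X, ∀ u v z, Pl fb u v → Zt fb u v 1 z → g * z * g⁻¹ ∈ Kr (Fin n₁) (Fin n₂) F → g ∈ N
  cen : ∀ g ∈ X, g ∈ N → ∀ u v z, Pl fb u v → Zt fb u v 1 z → g * z * g⁻¹ = z → g ∈ Kr (Fin n₁) (Fin n₂) F
  odd : ∀ g ∈ X, g ∈ N → ∀ n : ℕ, Odd n → g ^ n = 1 → g ∈ Kr (Fin n₁) (Fin n₂) F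

variable {N : Subgroup (GL (Fin n₁ × Fin n₂) F)}

/-- A p-subgroup of the group through a root element lies in the stabiliser. -/
theorem pgroup_le (hN : Mv fb X N) (hU : NoU fb X) {p : ℕ} (hp : Odd p) [Fact p.Prime] {u v : VB} (P : Pl fb u v) {z : GL κ F}
    (hz : Zt fb u v 1 z) {G : Subgroup (GL κ F)} (hG : IsPGroup p G) (hGX : G ≤ X) (hzG : z ∈ G) :
    G ≤ Kr (Fin n₁) (Fin n₂) F := by
  classical
  haveI : Group.IsNilpotent G := hG.isNilpotent
  obtain ⟨D, hD⟩ : ∃ D, D = (Kr (Fin n₁) (Fin n₂) F).subgroupOf G := ⟨_, rfl⟩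
  by_contra hle
  have hlt : D < ⊤ := lt_top_iff_ne_top.mpr fun h => hle fun g hg => by
    have : (⟨g, hg⟩ : G) ∈ D := h ▸ Subgroup.mem_top _
    rw [hD] at this
    exact this
  obtain ⟨h, hh, hhD⟩ := SetLike.exists_of_lt (Group.normalizerCondition_of_isNilpotent D hlt)
  refine hhD ?_
  have hzD : (⟨z, hzG⟩ : G) ∈ D := by rw [hD]; exact (C.zt_mem P hz).2
  have := (Subgroup.mem_normalizer_iff.mp hh ⟨z, hzG⟩).mp hzD
  rw [hD] at this ⊢
  obtain ⟨m, hm⟩ := hG h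
  exact hN.odd _ (hGX h.2) (hN.move _ (hGX h.2) _ _ _ P hz this) _ (hp.pow (n := m))
    (by simpa using congrArg Subtype.val hm)

/-- The space spanned by the root element and the conjugate. -/
theorem plane_split (hN : Mv fb X N) (hU : NoU fb X) {g : GL κ F} (hg : g ∈ X) (hgK : g ∉ N) {u₀ v₀ : VB}
    (P₀ : Pl fb u₀ v₀) {z₀ : GL κ F} (hz₀ : Zt fb u₀ v₀ 1 z₀) {u v : VB} (P : Pl fb u v) :
    ∃ B : Submodule F VB, finrank F B = 4 ∧ u ∈ B ∧ (∀ x ∈ B, (∀ y ∈ B, fb x y = 0) → x = 0) ∧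
      LinearMap.range (((g * z₀ * g⁻¹ : GL κ F) : Mat) - 1).mulVecLin ≤ rowsIn n₁ B ∧
      ∀ a : VA, tm a u ∈ LinearMap.range (((g * z₀ * g⁻¹ : GL κ F) : Mat) - 1).mulVecLin → a = 0 := by
  classical
  obtain ⟨p, hp⟩ := CharP.exists F
  haveI : Fact p.Prime := ⟨CharP.char_is_prime F p⟩
  obtain ⟨u', v', PF⟩ := exists_frame C.b C.h2 P
  obtain ⟨u₀', v₀', PF₀⟩ := exists_frame C.b C.h2 P₀
  obtain ⟨t₁, ht₁, hz⟩ := C.exists_zt (n₁ := n₁) P 1
  obtain ⟨z, hzdef⟩ : ∃ z, z = kr (1 : GL (Fin n₁) F) t₁ := ⟨_, rfl⟩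
  rw [← hzdef] at hz
  obtain ⟨y, hy⟩ : ∃ y, y = g * z₀ * g⁻¹ := ⟨_, rfl⟩
  rw [← hy]
  obtain ⟨N₁, hN₁⟩ : ∃ N₁, N₁ = (z : Mat) - 1 := ⟨_, rfl⟩
  obtain ⟨N₀, hN₀⟩ : ∃ N₀, N₀ = (z₀ : Mat) - 1 := ⟨_, rfl⟩
  obtain ⟨N₂, hN₂⟩ : ∃ N₂, N₂ = (y : Mat) - 1 := ⟨_, rfl⟩
  obtain ⟨hr1, hru, hN1⟩ := range_zt C PF hz
  obtain ⟨hr0, -, hN0⟩ := range_zt C PF₀ hz₀
  rw [← hN₁] at hr1 hru hN1
  rw [← hN₀] at hr0 hN0
  rw [← hN₂]
  have happ : ∀ {u v : VB} {z : GL κ F}, Zt fb u v 1 z →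
      ∀ x, ((z : Mat) - 1) *ᵥ x = tm (ctr fb u x) v - tm (ctr fb v x) u := fun hz x => by
    rw [Matrix.sub_mulVec, Matrix.one_mulVec, hz, one_smul, one_smul]; abel
  have sq0 : ∀ {u v : VB} {z : GL κ F}, Pl fb u v → Zt fb u v 1 z → ((z : Mat) - 1) * ((z : Mat) - 1) = 0 := by
    intro u v z P hz
    refine Matrix.toLin'.injective (LinearMap.ext fun x => ?_)
    simp only [Matrix.toLin'_apply, ← Matrix.mulVec_mulVec, happ hz, C.csub, C.ctm, P.uu, P.uv, P.vv,
      (P.swap C.b).uv, zero_smul, sub_zero, tm_zero_left, Matrix.zero_mulVec]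
  have e₂ : N₂ = (g : Mat) * N₀ * ((g⁻¹ : GL κ F) : Mat) := by
    rw [hN₂, hy, hN₀, mul_sub, sub_mul, mul_one, Units.val_mul, Units.val_mul, Units.mul_inv]
  have sq1 : N₁ * N₁ = 0 := hN₁ ▸ sq0 P hz
  have sq2 : N₂ * N₂ = 0 := by
    rw [e₂, show (g : Mat) * N₀ * ((g⁻¹ : GL κ F) : Mat) * ((g : Mat) * N₀ * ((g⁻¹ : GL κ F) : Mat)) =
      (g : Mat) * (N₀ * (((g⁻¹ : GL κ F) : Mat) * (g : Mat)) * N₀) * ((g⁻¹ : GL κ F) : Mat) by
        simp only [mul_assoc], Units.inv_mul, mul_one, hN₀, sq0 P₀ hz₀, mul_zero, zero_mul]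
  have hGX : QuadPair.Gp F N₁ N₂ ≤ X := (Subgroup.closure_le _).mpr fun h ⟨c, hc⟩ => by
    rcases hc with hc | hc
    · obtain ⟨t, -, ht⟩ := C.exists_zt (n₁ := n₁) P c
      rw [show h = kr 1 t from Units.ext (by rw [hc, hN₁, zt_apply ht hz])]
      exact (C.zt_mem P ht).1
    · obtain ⟨t, -, ht⟩ := C.exists_zt (n₁ := n₁) P₀ c
      rw [show h = g * kr 1 t * g⁻¹ from Units.ext (by
        rw [hc, Units.val_mul, Units.val_mul, zt_apply ht hz₀, ← hN₀, e₂, mul_add, add_mul, mul_one, Units.mul_inv,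
          mul_smul_comm, smul_mul_assoc])]
      exact mul_mem (mul_mem hg (C.zt_mem P₀ ht).1) (inv_mem hg)
  have hzG : z ∈ QuadPair.Gp F N₁ N₂ := Subgroup.subset_closure ⟨1, Or.inl (by rw [hN₁, one_smul]; abel)⟩
  have hyG : y ∈ QuadPair.Gp F N₁ N₂ := Subgroup.subset_closure ⟨1, Or.inr (by rw [hN₂, one_smul]; abel)⟩
  rcases QuadPair.pgroup_or_invol sq1 sq2 C.h2 p with hpg | ⟨c, hcG, hc1, hcc⟩
  · exact absurd (hN.move g hg _ _ _ P₀ hz₀ (hy ▸ pgroup_le C hN hU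
      ((Fact.out : p.Prime).odd_of_ne_two fun h => C.h2 (by subst h; exact_mod_cast CharP.cast_eq_zero F 2))
      P hz hpg hGX hzG hyG)) hgK
  obtain ⟨f, hf, hfc⟩ := QuadPair.invol sq1 sq2 C.h2 hcG hcc
  obtain ⟨hf1, hf2, -⟩ := QuadPair.cen_commute sq1 sq2 hf
  have hcN₁ : Commute (c : Mat) N₁ := hfc ▸ (Commute.one_left N₁).add_left
    (hf1.mul_left (QuadPair.commute_S₁ sq1 sq2))
  have hcN₂ : Commute (c : Mat) N₂ := hfc ▸ (Commute.one_left N₂).add_left
    (hf2.mul_left (QuadPair.commute_S₂ sq1 sq2))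
  have hcX := hGX hcG
  have hcz : c * z * c⁻¹ = z := by
    rw [mul_inv_eq_iff_eq_mul]
    refine Units.ext ?_
    rw [Units.val_mul, Units.val_mul, show (z : Mat) = 1 + N₁ by rw [hN₁]; abel]
    exact ((Commute.one_right _).add_right hcN₁).eq
  have hcK : c ∈ Kr (Fin n₁) (Fin n₂) F :=
    hN.cen c hcX (hN.move c hcX _ _ _ P hz (by rw [hcz]; exact (C.zt_mem P hz).2)) _ _ _ P hz hcz
  obtain ⟨r, t, rfl⟩ := hcK
  have hS : ∀ x, ((kr r t : GL κ F) : Mat) *ᵥ x - x ∈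
      LinearMap.range N₁.mulVecLin ⊔ LinearMap.range N₂.mulVecLin := fun x => by
    rw [hfc, Matrix.add_mulVec, Matrix.one_mulVec, add_sub_cancel_left, mul_add, ← mul_assoc, ← mul_assoc, hf1.eq,
      hf2.eq, mul_assoc N₁, mul_assoc N₂, Matrix.add_mulVec]
    exact add_mem (Submodule.mem_sup_left ⟨_, Matrix.mulVec_mulVec _ _ _⟩)
      (Submodule.mem_sup_right ⟨_, Matrix.mulVec_mulVec _ _ _⟩)
  -- the first factor is scalar
  obtain ⟨d, hd, hdd⟩ := PF.exists_aniso C.b C.h2 C.db'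
  obtain ⟨μ, hμ⟩ : ∃ μ : F, ∀ a : VA, ((r : Matrix (Fin n₁) (Fin n₁) F)) *ᵥ a = μ • a := by
    have k1 : ∀ a : VA, ctr fb d ((kr r t) ⬝ₘ (tm a d)) = ctr fb d (tm a d) := fun a => by
      have e : N₁ *ᵥ tm a d = 0 := by
        rw [hN₁, happ hz, C.ctm, C.ctm, hd.1, hd.2.1, zero_smul, tm_zero_left, tm_zero_left, sub_zero]
      rw [hfc, Matrix.add_mulVec, Matrix.one_mulVec, C.cadd, mul_add, Matrix.add_mulVec, ← mul_assoc f N₂,
        ← Matrix.mulVec_mulVec (tm a d) (f * N₂), e, Matrix.mulVec_zero, add_zero, ← mul_assoc, hf1.eq, mul_assoc,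
        ← Matrix.mulVec_mulVec, hN₁, happ hz, C.csub]
      simp only [C.ctm, symm' C.b d v, symm' C.b d u, hd.1, hd.2.1, zero_smul, sub_zero, add_zero]
    refine ⟨(fb ((t : Matrix (Fin n₂) (Fin n₂) F) *ᵥ d) d)⁻¹ * fb d d, fun a => ?_⟩
    have k := k1 a
    rw [kr_tm, C.ctm, C.ctm] at k
    by_cases h0 : fb ((t : Matrix (Fin n₂) (Fin n₂) F) *ᵥ d) d = 0
    · rw [h0, zero_smul] at k
      rw [((smul_eq_zero.mp k.symm).resolve_left hdd), Matrix.mulVec_zero, smul_zero]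
    · rw [← smul_smul, ← k, smul_smul, inv_mul_cancel₀ h0, one_smul]
  obtain ⟨T, hT⟩ : ∃ T : Matrix (Fin n₂) (Fin n₂) F, T = μ • (t : Matrix (Fin n₂) (Fin n₂) F) := ⟨_, rfl⟩
  have hc : ∀ (a : VA) (x : VB), (kr r t) ⬝ₘ (tm a x) = tm a (T *ᵥ x) := fun a x => by
    rw [kr_tm, hμ, hT, Matrix.smul_mulVec, tm_smul_left, tm_smul_right]
  obtain ⟨a₀, ha₀⟩ : ∃ a₀ : VA, a₀ ≠ 0 :=
    ⟨Pi.single ⟨0, by have := C.da; omega⟩ 1, Pi.single_ne_zero_iff.mpr one_ne_zero⟩
  obtain ⟨b₀, hb₀⟩ := exists_nonorth C.a ha₀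
  have hT2 : ∀ x, T *ᵥ (T *ᵥ x) = x := fun x => by
    have h := hc a₀ (T *ᵥ x)
    rw [← hc a₀ x, Matrix.mulVec_mulVec, ← Units.val_mul, hcc, Units.val_one, Matrix.one_mulVec] at h
    refine (sub_eq_zero.mp ((tm_eq_zero ?_).resolve_left ha₀))
    rw [tm_sub_right, ← h, sub_self]
  have hTiso : ∀ x w, fb (T *ᵥ x) (T *ᵥ w) = fb x w := fun x w => by
    have h := C.iso _ hcX (tm b₀ x) (tm a₀ w)
    rw [hc, hc, C.tt, C.tt] at h
    exact mul_left_cancel₀ hb₀ h
  have hTsa : ∀ x w, fb (T *ᵥ x) w = fb x (T *ᵥ w) := fun x w => by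
    conv_lhs => rw [← hT2 w, hTiso]
  -- its action on the plane
  have hNT : ∀ x, fb x u • (T *ᵥ v) - fb x v • (T *ᵥ u) = fb (T *ᵥ x) u • v - fb (T *ᵥ x) v • u := fun x => by
    have h := congrArg (fun M : Mat => M *ᵥ tm a₀ x) hcN₁.eq
    simp only [← Matrix.mulVec_mulVec, hc] at h
    rw [hN₁, happ hz, happ hz, Matrix.mulVec_sub, C.ctm, C.ctm, C.ctm, C.ctm, tm_smul_left, tm_smul_left,
      Matrix.mulVec_smul, Matrix.mulVec_smul, hc, hc, tm_smul_left, tm_smul_left, ← tm_smul_right, ← tm_smul_right,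
      ← tm_smul_right, ← tm_smul_right, ← tm_sub_right, ← tm_sub_right] at h
    refine (sub_eq_zero.mp ((tm_eq_zero ?_).resolve_left ha₀))
    rw [tm_sub_right, h, sub_self]
  have k1 := hNT u'
  have k2 := hNT v'
  rw [PF.u'u, PF.u'v, one_smul, zero_smul, sub_zero, hTsa, hTsa] at k1
  rw [PF.v'u, PF.v'v, one_smul, zero_smul, zero_sub, hTsa, hTsa] at k2
  have k2' : T *ᵥ u = fb v' (T *ᵥ v) • u - fb v' (T *ᵥ u) • v := by
    linear_combination (norm := module) -k2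
  obtain ⟨α, hα⟩ : ∃ α, α = fb u' (T *ᵥ u) := ⟨_, rfl⟩
  obtain ⟨β, hβ⟩ : ∃ β, β = fb v' (T *ᵥ v) := ⟨_, rfl⟩
  have sy := symm' C.b
  have hγ : fb u' (T *ᵥ v) = 0 := by
    have h := congrArg (fb u') k1
    rw [rsub C.b, rsmul C.b, rsmul C.b, PF.u'u, PF.u'v, mul_zero, mul_one, zero_sub] at h
    exact (mul_eq_zero.mp (show (2 : F) * fb u' (T *ᵥ v) = 0 by linear_combination h)).resolve_left C.h2
  have hδ : fb v' (T *ᵥ u) = 0 := by
    have h := congrArg (fb v') k2'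
    rw [rsub C.b, rsmul C.b, rsmul C.b, PF.v'u, PF.v'v, mul_zero, mul_one, zero_sub] at h
    exact (mul_eq_zero.mp (show (2 : F) * fb v' (T *ᵥ u) = 0 by linear_combination h)).resolve_left C.h2
  rw [hγ, zero_smul, sub_zero, ← hα] at k1
  rw [hδ, zero_smul, sub_zero, ← hβ] at k2'
  have hαβ : β = α := by
    rw [hβ, k1, rsmul C.b, PF.v'v, mul_one]
  subst hαβ
  have hNw : ∀ x, ((kr r t : GL κ F) : Mat) *ᵥ (N₁ *ᵥ x) = β • (N₁ *ᵥ x) := fun x => by
    obtain ⟨a, b, e⟩ := hN1 x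
    rw [e, Matrix.mulVec_add, hc, hc, k1, k2', tm_smul_right, tm_smul_right, smul_add]
  have hβ1 : β = -1 := by
    have hu0 : u ≠ 0 := fun h => one_ne_zero (P.indep 1 0 (by rw [h, smul_zero, zero_smul, add_zero])).1
    have h := hT2 u
    rw [k2', Matrix.mulVec_smul, k2', smul_smul] at h
    rcases mul_self_eq_one_iff.mp (smul_left_injective F hu0 (h.trans (one_smul F u).symm)) with hb | hb
    · exfalso
      subst hb
      have d0 : (((kr r t : GL κ F) : Mat) - 1) * N₁ = 0 := by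
        refine Matrix.toLin'.injective (LinearMap.ext fun x => ?_)
        rw [map_zero, LinearMap.zero_apply, Matrix.toLin'_apply, ← Matrix.mulVec_mulVec, Matrix.sub_mulVec,
          Matrix.one_mulVec, hNw, one_smul, sub_self]
      have d1 : (((kr r t : GL κ F) : Mat) - 1) * (N₁ * N₂ + N₂ * N₁) = 0 := by
        rw [mul_add, ← mul_assoc, d0, zero_mul, zero_add, ← mul_assoc,
          (hcN₂.sub_left (Commute.one_left N₂)).eq, mul_assoc, d0, mul_zero]
      have d2 : (((kr r t : GL κ F) : Mat) - 1) * (((kr r t : GL κ F) : Mat) - 1) = 0 := by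
        nth_rewrite 2 [hfc]
        have hfk : Commute f ((kr r t : GL κ F) : Mat) := hfc ▸ (Commute.one_right f).add_right
          ((Commute.refl f).mul_right (QuadPair.cen_commute sq1 sq2 hf).2.2)
        rw [add_sub_cancel_left, ← mul_assoc, (hfk.symm.sub_left (Commute.one_left f)).eq, mul_assoc, d1, mul_zero]
      have d3 : (2 : F) • ((1 : Mat) - ((kr r t : GL κ F) : Mat)) = 0 := by
        rw [sub_mul, mul_sub, mul_sub, ← Units.val_mul, hcc, Units.val_one] at d2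
        simp only [mul_one, one_mul] at d2
        rw [← d2, two_smul]; abel
      rw [smul_eq_zero, sub_eq_zero] at d3
      exact hc1 (Units.ext (d3.resolve_left C.h2).symm)
    · exact hb
  -- the negative eigenspace
  obtain ⟨B, hB⟩ : ∃ B : Submodule F VB, B = LinearMap.ker (T.mulVecLin + LinearMap.id) := ⟨_, rfl⟩
  have hmem : ∀ x, x ∈ B ↔ T *ᵥ x = -x := fun x => by
    rw [hB, LinearMap.mem_ker, LinearMap.add_apply, Matrix.mulVecLin_apply, LinearMap.id_apply, add_eq_zero_iff_eq_neg]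
  have hsplit : ∀ x, x - T *ᵥ x ∈ B := fun x => (hmem _).mpr (by rw [Matrix.mulVec_sub, hT2, neg_sub])
  have hnd : ∀ x ∈ B, (∀ w ∈ B, fb x w = 0) → x = 0 := fun x hx h => by
    refine ext_left C.b fun w => ?_
    have h1 := h _ (hsplit w)
    rw [rsub C.b, ← hTsa, (hmem x).mp hx, lneg C.b, sub_neg_eq_add, ← two_mul] at h1
    rw [lzero C.b]
    exact (mul_eq_zero.mp h1).resolve_left C.h2
  have huB : u ∈ B := (hmem u).mpr (by rw [k2', hβ1, neg_smul, one_smul])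
  have hvB : v ∈ B := (hmem v).mpr (by rw [k1, hβ1, neg_smul, one_smul])
  have h4 : 4 ≤ finrank F B := by
    obtain ⟨U', hU'⟩ : ∃ U', U' = u' - T *ᵥ u' := ⟨_, rfl⟩
    obtain ⟨V', hV'⟩ : ∃ V', V' = v' - T *ᵥ v' := ⟨_, rfl⟩
    have e : ∀ x w, x ∈ B → fb (w - T *ᵥ w) x = 2 * fb w x := fun x w hx => by
      rw [lsub C.b, hTsa, (hmem x).mp hx, rneg C.b]; ring
    let b : Fin 4 → B := ![⟨u, huB⟩, ⟨v, hvB⟩, ⟨U', hU' ▸ hsplit u'⟩, ⟨V', hV' ▸ hsplit v'⟩]
    have hli : LinearIndependent F b := by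
      rw [Fintype.linearIndependent_iff]
      intro s hs
      have hs' : s 0 • u + s 1 • v + s 2 • U' + s 3 • V' = 0 := by
        have := congrArg Subtype.val hs
        simpa [b, Fin.sum_univ_four] using this
      have q1 := congrArg (fun x => fb x u) hs'
      have q2 := congrArg (fun x => fb x v) hs'
      have eu : fb U' u = 2 := by rw [hU', e u u' huB, PF.u'u, mul_one]
      have ev : fb U' v = 0 := by rw [hU', e v u' hvB, PF.u'v, mul_zero]
      have fu : fb V' u = 0 := by rw [hV', e u v' huB, PF.v'u, mul_zero]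
      have fv : fb V' v = 2 := by rw [hV', e v v' hvB, PF.v'v, mul_one]
      simp only [ladd C.b, lsmul C.b, lzero C.b, P.uu, P.uv, P.vv, (P.swap C.b).uv, eu, ev, fu, fv, mul_zero,
        zero_add, add_zero] at q1 q2
      have s2 : s 2 = 0 := (mul_eq_zero.mp q1).resolve_right C.h2
      have s3 : s 3 = 0 := (mul_eq_zero.mp q2).resolve_right C.h2
      rw [s2, s3, zero_smul, zero_smul, add_zero, add_zero] at hs'
      obtain ⟨s0, s1⟩ := P.indep _ _ hs'
      intro i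
      fin_cases i <;> assumption
    simpa using hli.fintype_card_le_finrank
  have hle : rowsIn n₁ B ≤ LinearMap.range N₁.mulVecLin ⊔ LinearMap.range N₂.mulVecLin := fun x hx => by
    have hneg : (kr r t) ⬝ₘ x = -x := by
      conv_lhs => rw [sum_rows x]
      conv_rhs => rw [sum_rows x]
      rw [Matrix.mulVec_sum, ← Finset.sum_neg_distrib]
      refine Finset.sum_congr rfl fun i _ => ?_
      rw [hc, (hmem _).mp (hx i), tm_negr]
    have h := Submodule.smul_mem _ (-(2 : F)⁻¹) (hS x)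
    rwa [hneg, show -x - x = (-2 : F) • x by module, smul_smul, neg_mul_neg, inv_mul_cancel₀ C.h2, one_smul] at h
  have hr2 : finrank F (LinearMap.range N₂.mulVecLin) = 2 * n₁ := by
    have e3 : LinearMap.range N₂.mulVecLin = (LinearMap.range N₀.mulVecLin).map (g : Mat).mulVecLin := by
      rw [e₂, Matrix.mulVecLin_mul, Matrix.mulVecLin_mul, LinearMap.range_comp, LinearMap.range_eq_top.mpr
        (fun x => ⟨(g : Mat) *ᵥ x, gl_inv_mulVec_cancel g x⟩), Submodule.map_top, ← LinearMap.range_comp]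
    rw [e3, ← (Submodule.equivMapOfInjective (g : Mat).mulVecLin (gl_mulVec_injective g) _).finrank_eq, hr0]
  have hsum := Submodule.finrank_sup_add_finrank_inf_eq (LinearMap.range N₁.mulVecLin) (LinearMap.range N₂.mulVecLin)
  have hm := Submodule.finrank_mono hle
  rw [finrank_rowsIn] at hm
  have hpos : 0 < n₁ := by have := C.da; omega
  have hB4 : finrank F B = 4 := by
    refine le_antisymm (Nat.le_of_mul_le_mul_left ?_ hpos) h4
    omega
  rw [hB4] at hm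
  have hinf : LinearMap.range N₁.mulVecLin ⊓ LinearMap.range N₂.mulVecLin = ⊥ := Submodule.finrank_eq_zero.mp (by omega)
  have heq := Submodule.eq_of_le_of_finrank_le hle (by rw [finrank_rowsIn, hB4]; omega)
  refine ⟨B, hB4, huB, hnd, heq ▸ le_sup_right, fun a ha => ?_⟩
  have := hinf.le ⟨hru a, ha⟩
  exact (tm_eq_zero this).resolve_right fun h => one_ne_zero (P.indep 1 0 (by rw [h, smul_zero, zero_smul, add_zero])).1

/-- A singular vector lies in a plane. -/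
theorem exists_plane {o : VB} (ho : o ≠ 0) (hoo : fb o o = 0) : ∃ v, Pl fb o v := by
  classical
  obtain ⟨e, he, -⟩ := exists_pair C.b ho hoo C.h2
  have h3 : 3 ≤ finrank F (C.b.perp (Submodule.span F (({o, e} : Finset VB) : Set VB))) := by
    have h1 := C.b.finrank_perp (Submodule.span F (({o, e} : Finset VB) : Set VB))
    have h2 := finrank_span_finset_le_card (R := F) ({o, e} : Finset VB)
    have h3 : ({o, e} : Finset VB).card ≤ 2 := (Finset.card_insert_le _ _).trans (by simp)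
    have h5 := C.db
    simp only [Set.finrank] at h2
    rw [Fintype.card_fin] at h1
    omega
  obtain ⟨v, hv, hv0, hvv⟩ := exists_sing C.b C.h2 h3
  have hvo : fb v o = 0 := hv _ (Submodule.subset_span (by simp))
  have hve : fb v e = 0 := hv _ (Submodule.subset_span (by simp))
  refine ⟨v, hoo, by rw [← hvo, symm' C.b v o], hvv, fun r s h => ?_⟩
  have hr : r = 0 := by
    have := congrArg (fun x => fb x e) h
    simpa [ladd C.b, lsmul C.b, lzero C.b, hve, symm' C.b e o, he] using this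
  rw [hr, zero_smul, zero_add, smul_eq_zero] at h
  exact ⟨hr, h.resolve_right hv0⟩

/-- The group lies in the stabiliser of the product. -/
theorem le_of_mv (hN : Mv fb X N) (hU : NoU fb X) : X ≤ N := by
  classical
  intro g hg
  by_contra hgK
  obtain ⟨o₀, -, ho₀, hoo₀⟩ := exists_sing C.b C.h2 (W := (⊤ : Submodule F VB)) (by
    rw [finrank_top, Module.finrank_fintype_fun_eq_card, Fintype.card_fin]; have := C.db; omega)
  obtain ⟨v₀, P₀⟩ := exists_plane C ho₀ hoo₀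
  obtain ⟨u₀', v₀', PF₀⟩ := exists_frame C.b C.h2 P₀
  obtain ⟨t₀, -, hz₀⟩ := C.exists_zt (n₁ := n₁) P₀ 1
  obtain ⟨L, hL⟩ : ∃ L, L = LinearMap.range (((g * kr 1 t₀ * g⁻¹ : GL κ F) : Mat) - 1).mulVecLin := ⟨_, rfl⟩
  obtain ⟨B, hB4, hoB, hnd, hLB, -⟩ := plane_split C hN hU hg hgK P₀ hz₀ P₀
  rw [← hL] at hLB
  have hg' := C.iso g hg
  have hLdim : 2 * n₁ ≤ finrank F L ∧ ∀ x ∈ L, ∀ y ∈ L, τ x y = 0 := by
    obtain ⟨hd, -, hN⟩ := range_zt C PF₀ hz₀
    have e : ∀ x, (((g * kr 1 t₀ * g⁻¹ : GL κ F) : Mat) - 1) *ᵥ x =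
        g ⬝ₘ ((((kr 1 t₀ : GL κ F) : Mat) - 1) *ᵥ ((g⁻¹ : GL κ F) ⬝ₘ x)) := fun x => by
      rw [Matrix.sub_mulVec, Matrix.one_mulVec, gl_mul_mulVec, gl_mul_mulVec, Matrix.sub_mulVec, Matrix.one_mulVec,
        Matrix.mulVec_sub, gl_mulVec_inv_cancel]
    refine ⟨?_, ?_⟩
    · rw [← hd, hL, (Submodule.equivMapOfInjective (g : Mat).mulVecLin (gl_mulVec_injective g) _).finrank_eq]
      refine Submodule.finrank_mono ?_
      rintro _ ⟨w, ⟨x, rfl⟩, rfl⟩
      exact ⟨g ⬝ₘ x, by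
        simp only [Matrix.mulVecLin_apply]
        rw [e, gl_inv_mulVec_cancel]⟩
    · subst hL
      rintro _ ⟨x, rfl⟩ _ ⟨y, rfl⟩
      simp only [Matrix.mulVecLin_apply, e, hg']
      obtain ⟨a, b, ea⟩ := hN ((g⁻¹ : GL κ F) ⬝ₘ x)
      obtain ⟨a', b', ea'⟩ := hN ((g⁻¹ : GL κ F) ⬝ₘ y)
      have R := tf_semi (fA := fa) (fB := fb) C.data
      simp only [ea, ea', R.add_left, R.add_right, C.tt, P₀.uu, P₀.uv, P₀.vv, (P₀.swap C.b).uv, mul_zero, add_zero]
  obtain ⟨hLd, hLs⟩ := hLdim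
  -- a singular vector outside
  obtain ⟨d, hd, hd0⟩ := Submodule.exists_mem_ne_zero_of_ne_bot (p := C.b.perp B) fun e => by
    have := C.b.finrank_perp B
    have h5 := C.db
    rw [e, finrank_bot, hB4, Fintype.card_fin] at this
    omega
  obtain ⟨w, hw, hwo⟩ : ∃ w ∈ B, fb o₀ w = 1 := by
    by_contra hcon
    push Not at hcon
    refine ho₀ (hnd o₀ hoB fun w hw => ?_)
    by_contra h
    exact hcon ((fb o₀ w)⁻¹ • w) (B.smul_mem _ hw) (by rw [rsmul C.b, inv_mul_cancel₀ h])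
  obtain ⟨o, ho⟩ : ∃ o, o = (-(2⁻¹ * (fb w w + fb d d))) • o₀ + w + d := ⟨_, rfl⟩
  have hoo : fb o o = 0 := by
    simp only [ho, ladd C.b, radd C.b, lsmul C.b, rsmul C.b, hoo₀, hwo, symm' C.b o₀ w, symm' C.b d w, hd w hw,
      symm' C.b d o₀, hd o₀ hoB]
    field_simp [C.h2]
    ring
  have hoB' : o ∉ B := fun h => by
    have hdB : d ∈ B := by
      have := B.sub_mem (B.sub_mem h (B.smul_mem (-(2⁻¹ * (fb w w + fb d d))) hoB)) hw
      rwa [ho, show ∀ x y z : VB, x + y + z - x - y = z from fun x y z => by abel] at this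
    exact hd0 (hnd d hdB fun y hy => hd y hy)
  obtain ⟨v, P⟩ := exists_plane C (fun h => hoB' (by rw [h]; exact B.zero_mem)) hoo
  obtain ⟨B', hB4', hoB1, -, hLB', -⟩ := plane_split C hN hU hg hgK P₀ hz₀ P
  rw [← hL] at hLB'
  obtain ⟨S, hS⟩ : ∃ S, S = B ⊓ B' := ⟨_, rfl⟩
  have hS3 : finrank F S ≤ 3 := by
    have hlt : S < B' := hS ▸ inf_le_right.lt_of_ne fun h => hoB' (inf_le_left (a := B) (b := B') (h.symm ▸ hoB1))
    have := Submodule.finrank_lt_finrank_of_lt hlt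
    omega
  have hLS : L ≤ rowsIn n₁ S := fun x hx i => hS ▸ ⟨hLB hx i, hLB' hx i⟩
  -- a radical vector
  obtain ⟨r, hr, hrS, hr0⟩ : ∃ r ∈ S, (∀ y ∈ S, fb r y = 0) ∧ r ≠ 0 := by
    by_contra hcon
    push Not at hcon
    have h1 := two_finrank_le C (fun x hx h => hcon x hx h) hLS hLs
    have h2 := Nat.mul_le_mul_left n₁ hS3
    have := C.da
    omega
  have hrr : fb r r = 0 := hrS r hr
  obtain ⟨v₁, P₁⟩ := exists_plane C hr0 hrr
  obtain ⟨-, -, -, -, -, hno⟩ := plane_split C hN hU hg hgK P₀ hz₀ P₁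
  obtain ⟨a, ha⟩ : ∃ a : VA, a ≠ 0 :=
    ⟨Pi.single ⟨0, by have := C.da; omega⟩ 1, Pi.single_ne_zero_iff.mpr one_ne_zero⟩
  refine ha (hno a (hL ▸ ?_))
  -- maximality
  obtain ⟨L', hL'⟩ : ∃ L', L' = L ⊔ Submodule.span F {tm a r} := ⟨_, rfl⟩
  have hper : ∀ x ∈ L, τ x (tm a r) = 0 := fun x hx => by
    have hctr : ctr fb r x = 0 := funext fun i => by
      change fb (Form.row x i) r = 0
      rw [← symm' C.b (Form.row x i) r]
      exact hrS _ (hLS hx i)
    rw [tf_tm_right C.data, hctr, lzero C.a]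
  have R := tf_semi (fA := fa) (fB := fb) C.data
  have hts : ∀ x ∈ L', ∀ y ∈ L', τ x y = 0 := by
    subst hL'
    intro x hx y hy
    obtain ⟨x₁, hx₁, x₂, hx₂, rfl⟩ := Submodule.mem_sup.mp hx
    obtain ⟨y₁, hy₁, y₂, hy₂, rfl⟩ := Submodule.mem_sup.mp hy
    obtain ⟨c, rfl⟩ := Submodule.mem_span_singleton.mp hx₂
    obtain ⟨c', rfl⟩ := Submodule.mem_span_singleton.mp hy₂
    have hsw : τ (tm a r) y₁ = 0 := (reflex C.data).eq_zero_swap (hper y₁ hy₁)
    simp only [R.add_left, R.add_right, R.smul_left, R.smul_right, RingEquiv.refl_apply, hLs x₁ hx₁ y₁ hy₁,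
      hper x₁ hx₁, hsw, C.tt, hrr, mul_zero, add_zero]
  have hle : L' ≤ rowsIn n₁ B := hL' ▸ sup_le hLB (Submodule.span_le.mpr
    (Set.singleton_subset_iff.mpr (tm_mem_rowsIn (hS ▸ hr).1 a)))
  have h2 := two_finrank_le C hnd hle hts
  rw [hB4] at h2
  have e : L = L' := Submodule.eq_of_le_of_finrank_le (hL' ▸ le_sup_left) (by omega)
  rw [e, hL']
  exact Submodule.mem_sup_right (Submodule.mem_span_singleton_self _)

/-- The group lies in the stabiliser of the product. -/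
theorem le_kr (ndvd : ¬ n₂ ∣ n₁) (hU : NoU fb X) : X ≤ Kr (Fin n₁) (Fin n₂) F :=
  le_of_mv C ⟨fun _ hg _ _ _ P hz h => moves C ndvd hU hg P hz h, fun _ _ h _ _ _ _ _ _ => h,
    fun _ _ h _ _ _ => h⟩ hU

end Cfsg.Agent.Classical.TensorMax.OO
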