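/-
A radical element which is no root element gives all Siegel elements of the product space.
-/
import Cfsg.Agent.Lib.Classical.TensorMax.OO.Pair

set_option autoImplicit false
set_option linter.unusedSectionVars false

namespace Cfsg.Agent.Classical.TensorMax.OO

open Matrix Module Cfsg.Geo
open Cfsg.Agent.Classical Cfsg.Agent.Classical.TensorMax.Form

variable {n₁ n₂ : ℕ} {F : Type*} [Field F] [Fintype F]
variable {fa : (Fin n₁ → F) → (Fin n₁ → F) → F} {fb : (Fin n₂ → F) → (Fin n₂ → F) → F}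
variable {X : Subgroup (GL (Fin n₁ × Fin n₂) F)}

local notation "κ" => Fin n₁ × Fin n₂
local notation:max g:max " ⬝ₘ " x:max =>
  ((g : GL (Fin n₁ × Fin n₂) F) : Matrix (Fin n₁ × Fin n₂) (Fin n₁ × Fin n₂) F) *ᵥ x
local notation "τ" => tf (RingEquiv.refl F) fa fb
local notation "VA" => Fin n₁ → F
local notation "VB" => Fin n₂ → F
local notation "MA" => Matrix (Fin n₁) (Fin n₁) F

/-- An element of the radical of a plane with given slots. -/
def Rd (fb : (Fin n₂ → F) → (Fin n₂ → F) → F) (u v : Fin n₂ → F) (A B C D : MA) (g : GL κ F) : Prop :=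
  ∀ x, g ⬝ₘ x = x + tm (A *ᵥ ctr fb u x - D *ᵥ ctr fb v x) u + tm (C *ᵥ ctr fb u x + B *ᵥ ctr fb v x) v

/-- The slots occur in the group. -/
def RX (fb : (Fin n₂ → F) → (Fin n₂ → F) → F) (X : Subgroup (GL κ F)) (u v : Fin n₂ → F) (A B C D : MA) : Prop :=
  ∃ g ∈ X, Rd fb u v A B C D g

/-- The central element with slot `ω`. -/
def EX (fb : (Fin n₂ → F) → (Fin n₂ → F) → F) (X : Subgroup (GL κ F)) (o : Fin n₂ → F) (ω : MA) : Prop :=
  ∃ g ∈ X, ∀ x, g ⬝ₘ x = x + tm (ω *ᵥ ctr fb o x) o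

/-- The Siegel element with centre `p` and parameter `y` lies in the group. -/
def Par (fa : (Fin n₁ → F) → (Fin n₁ → F) → F) (fb : (Fin n₂ → F) → (Fin n₂ → F) → F) (X : Subgroup (GL κ F))
    (p y : κ → F) : Prop :=
  ∃ g ∈ X, ∀ x, g ⬝ₘ x = x + tf (RingEquiv.refl F) fa fb p x • y -
    (tf (RingEquiv.refl F) fa fb y x + 2⁻¹ * tf (RingEquiv.refl F) fa fb y y * tf (RingEquiv.refl F) fa fb p x) • p

variable (C₀ : Ctx fa fb X)

include C₀

theorem kr_right_move {t : GL (Fin n₂) F} (ht : t ∈ SGen fb) (y : κ → F) (w : VB) :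
    ctr fb ((t : Matrix (Fin n₂) (Fin n₂) F) *ᵥ w) ((kr (1 : GL (Fin n₁) F) t) ⬝ₘ y) = ctr fb w y := by
  refine ctr_eq C₀.data fun a => ?_
  rw [← tf_tm_right C₀.data, show tm a ((t : Matrix (Fin n₂) (Fin n₂) F) *ᵥ w) =
    (kr (1 : GL (Fin n₁) F) t) ⬝ₘ (tm a w) by rw [kr_tm, Units.val_one, Matrix.one_mulVec],
    C₀.iso _ (C₀.right_mem ht), tf_tm_right C₀.data]

theorem cneg (w : VB) (x : κ → F) : ctr fb w (-x) = -ctr fb w x := by
  rw [← zero_sub, C₀.csub, C₀.czero, zero_sub]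

theorem rx_add {u v : VB} (P : Pl fb u v) {A B C D A' B' C' D' : MA} (h : RX fb X u v A B C D)
    (h' : RX fb X u v A' B' C' D') : RX fb X u v (A + A') (B + B') (C + C') (D + D') := by
  obtain ⟨g, hg, hgx⟩ := h
  obtain ⟨g', hg', hgx'⟩ := h'
  refine ⟨g * g', mul_mem hg hg', fun x => ?_⟩
  rw [gl_mul_mulVec, hgx' x, hgx]
  simp only [C₀.cadd, C₀.csub, C₀.ctm, P.uu, P.uv, P.vv, (P.swap C₀.b).uv, zero_smul, add_zero, sub_zero,
    Matrix.add_mulVec]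
  simp only [tm_add_left, tm_sub_left]
  abel

theorem rx_neg {u v : VB} (P : Pl fb u v) {A B C D : MA} (h : RX fb X u v A B C D) :
    RX fb X u v (-A) (-B) (-C) (-D) := by
  obtain ⟨g, hg, hgx⟩ := h
  refine ⟨g⁻¹, inv_mem hg, fun x => gl_mulVec_injective g ?_⟩
  change g ⬝ₘ (g⁻¹ ⬝ₘ x) = g ⬝ₘ _
  rw [gl_mulVec_inv_cancel, hgx]
  simp only [C₀.cadd, C₀.csub, C₀.ctm, P.uu, P.uv, P.vv, (P.swap C₀.b).uv, zero_smul, add_zero, sub_zero,
    Matrix.neg_mulVec]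
  simp only [tm_add_left, tm_sub_left, tm_negl]
  abel

theorem rx_zero (u v : VB) : RX (n₁ := n₁) fb X u v 0 0 0 0 :=
  ⟨1, one_mem X, fun x => by simp [tm_zero_left]⟩

theorem rx_swap {u v : VB} {A B C D : MA} (h : RX fb X u v A B C D) : RX fb X v u B A (-D) (-C) := by
  obtain ⟨g, hg, hgx⟩ := h
  refine ⟨g, hg, fun x => ?_⟩
  rw [hgx]
  simp only [Matrix.neg_mulVec, sub_neg_eq_add, tm_add_left, tm_sub_left, tm_negl]
  abel

/-- Moving the second vector of the plane along the first. -/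
theorem rx_move {u v : VB} (P : Pl fb u v) {A B C D : MA} (h : RX fb X u v A B C D) (s : F) :
    RX fb X u v (A + s • (C - D) + (s * s) • B) B (C + s • B) (D - s • B) := by
  obtain ⟨u', v', Q⟩ := exists_frame C₀.b C₀.h2 P
  obtain ⟨t, ht, htG⟩ := exists_sg' C₀.b C₀.h2 P.uu (w := (-s) • v')
    (by rw [lsmul C₀.b, Q.v'u, mul_zero])
  obtain ⟨g, hg, hgx⟩ := h
  have htu : (t : Matrix (Fin n₂) (Fin n₂) F) *ᵥ u = u := sg_fix C₀.b P.uu (by rw [lsmul C₀.b, Q.v'u, mul_zero]) ht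
  have htv : (t : Matrix (Fin n₂) (Fin n₂) F) *ᵥ v = v + s • u := by
    rw [ht, (P.swap C₀.b).uv]
    simp only [rsmul C₀.b, lsmul C₀.b, symm' C₀.b v' v, Q.v'v]
    module
  refine ⟨kr 1 t * g * (kr (1 : GL (Fin n₁) F) t)⁻¹, mul_mem (mul_mem (C₀.right_mem htG) hg)
    (inv_mem (C₀.right_mem htG)), fun x => ?_⟩
  obtain ⟨y, rfl⟩ : ∃ y, x = (kr (1 : GL (Fin n₁) F) t) ⬝ₘ y := ⟨_, (gl_mulVec_inv_cancel _ x).symm⟩
  have hk : ∀ (a : VA) (b : VB), (kr (1 : GL (Fin n₁) F) t) ⬝ₘ (tm a b) = tm a ((t : Matrix (Fin n₂) (Fin n₂) F) *ᵥ b) :=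
    fun a b => by rw [kr_tm, Units.val_one, Matrix.one_mulVec]
  rw [gl_mul_mulVec, gl_mul_mulVec, gl_inv_mulVec_cancel, hgx, Matrix.mulVec_add, Matrix.mulVec_add, hk, hk, htu, htv]
  have eu : ctr fb u ((kr (1 : GL (Fin n₁) F) t) ⬝ₘ y) = ctr fb u y := by
    conv_lhs => rw [← htu]
    exact kr_right_move C₀ htG y u
  have ev : ctr fb v ((kr (1 : GL (Fin n₁) F) t) ⬝ₘ y) = ctr fb v y - s • ctr fb u y := by
    have h := kr_right_move C₀ htG y v
    rw [htv, C₀.cadd_vec, C₀.csmul_vec, eu] at h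
    rw [← h]; abel
  rw [eu, ev]
  simp only [Matrix.mulVec_sub, Matrix.mulVec_smul, Matrix.add_mulVec, Matrix.sub_mulVec, Matrix.smul_mulVec,
    tm_add_left, tm_sub_left, tm_smul_left, tm_add_right, tm_smul_right]
  match_scalars <;> ring

theorem rx_ex {u v : VB} {A : MA} (h : RX fb X u v A 0 0 0) : EX fb X u A := by
  obtain ⟨g, hg, hgx⟩ := h
  exact ⟨g, hg, fun x => by rw [hgx]; simp [tm_zero_left]⟩

theorem ex_rx {u v : VB} {A : MA} (h : EX fb X u A) : RX fb X u v A 0 0 0 := by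
  obtain ⟨g, hg, hgx⟩ := h
  exact ⟨g, hg, fun x => by rw [hgx]; simp [tm_zero_left]⟩

theorem ex_add {o : VB} (ho : fb o o = 0) {A B : MA} (h : EX fb X o A) (h' : EX fb X o B) : EX fb X o (A + B) := by
  obtain ⟨g, hg, hgx⟩ := h
  obtain ⟨g', hg', hgx'⟩ := h'
  refine ⟨g * g', mul_mem hg hg', fun x => ?_⟩
  rw [gl_mul_mulVec, hgx' x, hgx]
  simp only [C₀.cadd, C₀.ctm, ho, zero_smul, add_zero, Matrix.add_mulVec, tm_add_left]
  abel

theorem ex_scale {o : VB} (c : F) {A : MA} (h : EX fb X o A) (hc : c ≠ 0) : EX fb X (c • o) ((c * c)⁻¹ • A) := by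
  obtain ⟨g, hg, hgx⟩ := h
  refine ⟨g, hg, fun x => ?_⟩
  rw [hgx, C₀.csmul_vec, Matrix.mulVec_smul, Matrix.smul_mulVec, tm_smul_left, tm_smul_left, tm_smul_right,
    smul_smul, smul_smul]
  congr 1
  rw [show c * (c * c)⁻¹ * c = 1 by field_simp, one_smul]

/-- Central slots pass to the planes through the centre, with all scalars. -/
theorem ex_next {o v : VB} (P : Pl fb o v) {A : MA} (h : EX fb X o A) (c : F) : EX fb X v (c • A) := by
  have P' := P.swap C₀.b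
  have h0 : RX fb X v o 0 A 0 0 := by simpa using rx_swap C₀ (ex_rx C₀ (v := v) h)
  have step : ∀ s : F, RX fb X v o 0 0 ((2 * s) • A) (-((2 * s) • A)) := fun s => by
    have h1 := rx_add C₀ P' (rx_move C₀ P' h0 s) (rx_neg C₀ P' (rx_move C₀ P' h0 (-s)))
    convert h1 using 1 <;> module
  have h2 := rx_add C₀ P' (rx_move C₀ P' (step (c / 4)) 1) (rx_neg C₀ P' (step (c / 4)))
  refine rx_ex C₀ (v := o) ?_
  have h4 : (4 : F) ≠ 0 := by rw [show (4 : F) = 2 * 2 by norm_num]; exact mul_ne_zero C₀.h2 C₀.h2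
  convert h2 using 1
  all_goals first | module | (match_scalars <;> field_simp <;> ring)

/-- Central slots pass to all singular vectors. -/
theorem ex_all {o o' : VB} (ho : o ≠ 0) (hoo : fb o o = 0) (ho' : o' ≠ 0) (hoo' : fb o' o' = 0) {A : MA}
    (h : EX fb X o A) (c : F) : EX fb X o' (c • A) := by
  classical
  by_cases hspan : o' ∈ Submodule.span F {o}
  · obtain ⟨k, rfl⟩ := Submodule.mem_span_singleton.mp hspan
    have hk : k ≠ 0 := fun e => ho' (by rw [e, zero_smul])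
    obtain ⟨v, P⟩ := exists_plane C₀ ho hoo
    have := ex_scale C₀ k (ex_next C₀ (P.swap C₀.b) (ex_next C₀ P h 1) (k * k * c)) hk
    rwa [one_smul, smul_smul, show (k * k)⁻¹ * (k * k * c) = c by field_simp] at this
  by_cases hoz : fb o o' = 0
  · exact ex_next C₀ ⟨hoo, hoz, hoo', fun r s hrs => by
      have hs : s = 0 := by
        by_contra hs
        refine hspan (Submodule.mem_span_singleton.mpr ⟨-(s⁻¹ * r), ?_⟩)
        have := congrArg (fun x => s⁻¹ • x) hrs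
        rw [smul_add, smul_smul, smul_smul, inv_mul_cancel₀ hs, one_smul, smul_zero] at this
        rw [neg_smul, eq_neg_of_add_eq_zero_right this]
      rw [hs, zero_smul, add_zero] at hrs
      exact ⟨(smul_eq_zero.mp hrs).resolve_right ho, hs⟩⟩ h c
  have h3 : 3 ≤ finrank F (C₀.b.perp (Submodule.span F (({o, o'} : Finset VB) : Set VB))) := by
    have h1 := C₀.b.finrank_perp (Submodule.span F (({o, o'} : Finset VB) : Set VB))
    have h2 := finrank_span_finset_le_card (R := F) ({o, o'} : Finset VB)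
    have h3 : ({o, o'} : Finset VB).card ≤ 2 := (Finset.card_insert_le _ _).trans (by simp)
    have h5 := C₀.db
    simp only [Set.finrank] at h2
    rw [Fintype.card_fin] at h1
    omega
  obtain ⟨v, hv, hv0, hvv⟩ := exists_sing C₀.b C₀.h2 h3
  have hvo : fb v o = 0 := hv _ (Submodule.subset_span (by simp))
  have hvo' : fb v o' = 0 := hv _ (Submodule.subset_span (by simp))
  have ind : ∀ (x : VB), fb x v = 0 → fb x x = 0 → (∀ y, y = x → ∃ z, fb z v = 0 ∧ fb z y ≠ 0) → Pl fb x v :=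
    fun x hxv hxx hz => ⟨hxx, hxv, hvv, fun r s hrs => by
      obtain ⟨z, hzv, hzx⟩ := hz x rfl
      have := congrArg (fun y => fb z y) hrs
      rw [radd C₀.b, rsmul C₀.b, rsmul C₀.b, hzv, mul_zero, add_zero, rzero C₀.b] at this
      have hr := (mul_eq_zero.mp this).resolve_right hzx
      rw [hr, zero_smul, zero_add] at hrs
      exact ⟨hr, (smul_eq_zero.mp hrs).resolve_right hv0⟩⟩
  have P1 : Pl fb o v := ind o (by rw [symm' C₀.b v o, hvo]) hoo fun y e =>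
    ⟨o', by rw [symm' C₀.b v o', hvo'], by rw [e, symm' C₀.b o o']; exact hoz⟩
  have P2 : Pl fb o' v := ind o' (by rw [symm' C₀.b v o', hvo']) hoo' fun y e =>
    ⟨o, by rw [symm' C₀.b v o, hvo], by rw [e]; exact hoz⟩
  have := ex_next C₀ (P2.swap C₀.b) (ex_next C₀ P1 h 1) c
  rwa [one_smul] at this

/-- A non-zero central slot exists unless the radicals meet the group in root elements. -/
theorem exists_ex (hU : ¬ NoU fb X) :
    ∃ o A, o ≠ 0 ∧ fb o o = 0 ∧ A ≠ 0 ∧ (∀ x y, fa (A *ᵥ x) y = -fa x (A *ᵥ y)) ∧ EX fb X o A := by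
  classical
  simp only [NoU, not_forall] at hU
  obtain ⟨u, v, P, g, hg, hfix, hno⟩ := hU
  obtain ⟨u', v', Q⟩ := exists_frame C₀.b C₀.h2 P
  have hgi := C₀.iso g hg
  let slot : VB → VB → MA := fun d o => LinearMap.toMatrix'
    { toFun := fun a => ctr fb d (g ⬝ₘ (tm a o))
      map_add' := fun a b => by rw [tm_add_left, Matrix.mulVec_add, C₀.cadd]
      map_smul' := fun c a => by rw [tm_smul_left, Matrix.mulVec_smul, ctr_smul C₀.data, RingHom.id_apply] }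
  have hslot : ∀ d o a, slot d o *ᵥ a = ctr fb d (g ⬝ₘ (tm a o)) := fun d o a => by
    simp only [slot, ← Matrix.toLin'_apply, Matrix.toLin'_toMatrix', LinearMap.coe_mk, AddHom.coe_mk]
  have hfp : ∀ a, g ⬝ₘ (tm a u) = tm a u := fun a => hfix _
    (by rw [C₀.ctm, P.uu, zero_smul]) (by rw [C₀.ctm, P.uv, zero_smul])
  have hfq : ∀ a, g ⬝ₘ (tm a v) = tm a v := fun a => hfix _
    (by rw [C₀.ctm, (P.swap C₀.b).uv, zero_smul]) (by rw [C₀.ctm, P.vv, zero_smul])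
  have hfw : ∀ w, Off fb u v u' v' w → ∀ a, g ⬝ₘ (tm a w) = tm a w := fun w hw a => hfix _
    (by rw [C₀.ctm, hw.1, zero_smul]) (by rw [C₀.ctm, hw.2.1, zero_smul])
  obtain ⟨A, hA⟩ : ∃ A, A = slot u' u' := ⟨_, rfl⟩
  obtain ⟨B, hB⟩ : ∃ B, B = slot v' v' := ⟨_, rfl⟩
  obtain ⟨C, hC⟩ : ∃ C, C = slot v' u' := ⟨_, rfl⟩
  obtain ⟨D, hD⟩ : ∃ D, D = -slot u' v' := ⟨_, rfl⟩
  have img : ∀ a, g ⬝ₘ (tm a u') = tm a u' + tm (A *ᵥ a) u + tm (C *ᵥ a) v ∧
      g ⬝ₘ (tm a v') = tm a v' + tm (-(D *ᵥ a)) u + tm (B *ᵥ a) v := fun a => by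
    constructor <;> refine C₀.ext_frame Q ?_ ?_ ?_ ?_ (fun w hw => ?_) <;>
      simp only [C₀.ctr_fixed hgi hfp, C₀.ctr_fixed hgi hfq, hA, hB, hC, hD, Matrix.neg_mulVec, neg_neg, hslot,
        C₀.cadd, C₀.ctm, P.uu, P.uv, P.vv, (P.swap C₀.b).uv, Q.u'u, Q.u'v, Q.v'u, Q.v'v, Q.u'u', Q.v'v', Q.u'v',
        symm' C₀.b u' v, symm' C₀.b v' u, symm' C₀.b u' u, symm' C₀.b v' v, symm' C₀.b u' v', one_smul, zero_smul,
        add_zero, zero_add] <;>
      simp only [C₀.ctr_fixed hgi (hfw w hw), C₀.ctm, symm' C₀.b w u, symm' C₀.b w v, hw.1, hw.2.1,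
        symm' C₀.b w u', symm' C₀.b w v', hw.2.2.1, hw.2.2.2, zero_smul, add_zero]
  have hgR : Rd fb u v A B C D g := fun y => by
    obtain ⟨y₀, hy₀⟩ : ∃ y₀, y₀ = y - tm (ctr fb u y) u' - tm (ctr fb v y) v' := ⟨_, rfl⟩
    have k1 : ctr fb u y₀ = 0 := by rw [hy₀, C₀.csub, C₀.csub, C₀.ctm, C₀.ctm, Q.u'u, Q.v'u]; simp
    have k2 : ctr fb v y₀ = 0 := by rw [hy₀, C₀.csub, C₀.csub, C₀.ctm, C₀.ctm, Q.u'v, Q.v'v]; simp
    conv_lhs => rw [show y = y₀ + tm (ctr fb u y) u' + tm (ctr fb v y) v' by rw [hy₀]; abel]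
    rw [Matrix.mulVec_add, Matrix.mulVec_add, hfix y₀ k1 k2, (img _).1, (img _).2, hy₀, tm_sub_left, tm_add_left,
      tm_negl]
    abel
  have hX : RX fb X u v A B C D := ⟨g, hg, hgR⟩
  -- the slots of an isometry
  have hadj : (∀ x y, fa (A *ᵥ x) y = -fa x (A *ᵥ y)) ∧ (∀ x y, fa (B *ᵥ x) y = -fa x (B *ᵥ y)) ∧
      (∀ x y, fa (C *ᵥ x) y = fa x (D *ᵥ y)) := by
    refine ⟨fun x y => ?_, fun x y => ?_, fun x y => ?_⟩
    all_goals
      first
        | (have h := hgi (tm x u') (tm y u'); simp only [(img _).1, (img _).2] at h;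
           simp only [(tf_semi C₀.data).add_left, (tf_semi C₀.data).add_right, C₀.tt, Q.u'u', Q.u'u, Q.u'v,
             symm' C₀.b u' u, symm' C₀.b u' v, P.uu, P.uv, P.vv, (P.swap C₀.b).uv] at h;
           linear_combination h)
        | (have h := hgi (tm x v') (tm y v'); simp only [(img _).1, (img _).2] at h;
           simp only [(tf_semi C₀.data).add_left, (tf_semi C₀.data).add_right, C₀.tt, Q.v'v', Q.v'u, Q.v'v,
             symm' C₀.b v' u, symm' C₀.b v' v, P.uu, P.uv, P.vv, (P.swap C₀.b).uv] at h;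
           linear_combination h)
        | (have h := hgi (tm x u') (tm y v'); simp only [(img _).1, (img _).2] at h;
           simp only [(tf_semi C₀.data).add_left, (tf_semi C₀.data).add_right, C₀.tt, rneg C₀.a, Q.u'v', Q.u'u,
             Q.u'v, Q.v'u, Q.v'v, symm' C₀.b v' u, symm' C₀.b v' v, symm' C₀.b u' u, symm' C₀.b u' v, P.uu, P.uv,
             P.vv, (P.swap C₀.b).uv] at h;
           linear_combination h)
  obtain ⟨hsA, hsB, hsC⟩ := hadj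
  have hu0 : u ≠ 0 := fun h => one_ne_zero (P.indep 1 0 (by rw [h, smul_zero, zero_smul, add_zero])).1
  have hv0 : v ≠ 0 := fun h => one_ne_zero (P.indep 0 1 (by rw [h, smul_zero, zero_smul, add_zero])).2
  have two : ∀ M : MA, M ≠ 0 → (2 : F) • M ≠ 0 := fun M hM h => hM ((smul_eq_zero.mp h).resolve_left C₀.h2)
  have skew : ∀ (c : F) (M : MA), (∀ x y, fa (M *ᵥ x) y = -fa x (M *ᵥ y)) →
      ∀ x y, fa ((c • M) *ᵥ x) y = -fa x ((c • M) *ᵥ y) := fun c M h x y => by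
    rw [Matrix.smul_mulVec, Matrix.smul_mulVec, lsmul C₀.a, rsmul C₀.a, h, mul_neg]
  have diff : ∀ {u v : VB} {A B C D : MA}, Pl fb u v → RX fb X u v A B C D →
      RX fb X u v ((2 : F) • B) 0 0 0 ∧ (B = 0 → RX fb X u v ((2 : F) • (C - D)) 0 0 0) := by
    intro u v A B C D P h
    have h1 := rx_move C₀ P h 1
    have h2 := rx_move C₀ P h (-1)
    refine ⟨?_, fun hb => ?_⟩
    · have := rx_add C₀ P (rx_add C₀ P h1 h2) (rx_neg C₀ P (rx_add C₀ P h h))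
      convert this using 1 <;> module
    · subst hb
      have := rx_add C₀ P h1 (rx_neg C₀ P h2)
      convert this using 1 <;> module
  by_cases hB0 : B = 0
  swap
  · exact ⟨u, _, hu0, P.uu, two B hB0, skew 2 B hsB, rx_ex C₀ (diff P hX).1⟩
  by_cases hA0 : A = 0
  swap
  · exact ⟨v, _, hv0, P.vv, two A hA0, skew 2 A hsA, rx_ex C₀ (diff (P.swap C₀.b) (rx_swap C₀ hX)).1⟩
  by_cases hCD : C = D
  swap
  · refine ⟨u, _, hu0, P.uu, two _ (sub_ne_zero.mpr hCD), skew 2 _ fun x y => ?_, rx_ex C₀ ((diff P hX).2 hB0)⟩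
    rw [Matrix.sub_mulVec, Matrix.sub_mulVec, lsub C₀.a, rsub C₀.a, hsC, symm' C₀.a y (D *ᵥ x), ← hsC,
      symm' C₀.a (C *ᵥ y) x]
    linear_combination hsC y x
  subst hA0 hB0 hCD
  -- a self-adjoint slot
  let J : AddSubgroup MA :=
    { carrier := {M | (∀ x y, fa (M *ᵥ x) y = fa x (M *ᵥ y)) ∧ RX fb X u v 0 0 M M}
      zero_mem' := ⟨fun x y => by simp [lzero C₀.a, rzero C₀.a], rx_zero C₀ u v⟩
      add_mem' := fun {M N} hM hN => ⟨fun x y => by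
          rw [Matrix.add_mulVec, Matrix.add_mulVec, ladd C₀.a, radd C₀.a, hM.1, hN.1],
        by simpa using rx_add C₀ P hM.2 hN.2⟩
      neg_mem' := fun {M} hM => ⟨fun x y => by
          rw [Matrix.neg_mulVec, Matrix.neg_mulVec, lneg C₀.a, rneg C₀.a, hM.1],
        by simpa using rx_neg C₀ P hM.2⟩ }
  have hCJ : C ∈ J := ⟨fun x y => hsC x y, hX⟩
  have hJ : ∀ σ ∈ SGen fa, ∀ M ∈ J, (σ : MA) * M * ((σ⁻¹ : GL (Fin n₁) F) : MA) ∈ J := by
    intro σ hσ M ⟨hM, k, hk, hkx⟩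
    have hi := sgen_iso C₀.a C₀.h2 hσ
    refine ⟨fun x y => ?_, kr σ 1 * k * (kr σ (1 : GL (Fin n₂) F))⁻¹, ?_, fun x => ?_⟩
    · rw [← Matrix.mulVec_mulVec, ← Matrix.mulVec_mulVec, ← Matrix.mulVec_mulVec, ← Matrix.mulVec_mulVec]
      conv_lhs => rw [← gl_mulVec_inv_cancel σ y, hi, hM, ← hi, gl_mulVec_inv_cancel]
    · exact mul_mem (mul_mem (C₀.small σ 1 hσ (one_mem _)) hk) (inv_mem (C₀.small σ 1 hσ (one_mem _)))
    · obtain ⟨y, rfl⟩ : ∃ y, x = (kr σ (1 : GL (Fin n₂) F)) ⬝ₘ y := ⟨_, (gl_mulVec_inv_cancel _ x).symm⟩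
      have hc : ∀ d z, ctr fb d ((kr σ (1 : GL (Fin n₂) F)) ⬝ₘ z) = (σ : MA) *ᵥ ctr fb d z := fun d z => by
        refine ctr_eq C₀.data fun a => ?_
        conv_lhs => rw [← gl_mulVec_inv_cancel σ a]
        have hkr : ∀ b, (kr σ (1 : GL (Fin n₂) F)) ⬝ₘ (tm b d) = tm ((σ : MA) *ᵥ b) d := fun b => by
          rw [kr_tm, Units.val_one, Matrix.one_mulVec]
        rw [← hkr, C₀.iso _ (C₀.small σ 1 hσ (one_mem _)), tf_tm_right C₀.data]
        conv_rhs => rw [← gl_mulVec_inv_cancel σ a, hi]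
      rw [gl_mul_mulVec, gl_mul_mulVec, gl_inv_mulVec_cancel, hkx, Matrix.mulVec_add, Matrix.mulVec_add, kr_tm, kr_tm,
        Units.val_one, Matrix.one_mulVec, Matrix.one_mulVec, hc, hc]
      simp only [← Matrix.mulVec_mulVec, gl_inv_mulVec_cancel, Matrix.mulVec_add, Matrix.mulVec_sub, Matrix.mulVec_zero,
        Matrix.zero_mulVec, zero_sub, sub_zero, zero_add, add_zero, Matrix.mulVec_neg]
  obtain ⟨M, hM, N, hN, hMN⟩ : ∃ M ∈ J, ∃ N ∈ J, M * N ≠ N * M := by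
    by_contra! hcon
    obtain ⟨c, hc⟩ := comm_family C₀.a C₀.h2 C₀.da' C₀.hex' J hJ (fun _ h => h.1) hcon hCJ
    refine hno ⟨c, fun x => ?_⟩
    rw [hgR x, hc]
    simp only [Matrix.zero_mulVec, Matrix.smul_mulVec, Matrix.one_mulVec, zero_sub, add_zero, tm_negl]
    abel
  -- moving the plane
  obtain ⟨d, hd, hdd⟩ := Q.exists_aniso C₀.b C₀.h2 C₀.db'
  obtain ⟨κ₀, hκ⟩ : ∃ κ₀, κ₀ = 2⁻¹ * fb d d := ⟨_, rfl⟩
  have hκ0 : κ₀ ≠ 0 := hκ ▸ mul_ne_zero (inv_ne_zero C₀.h2) hdd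
  obtain ⟨t₁, ht₁, ht₁G⟩ := exists_sg' C₀.b C₀.h2 Q.v'v' (w := d) hd.2.2.2
  obtain ⟨t₂, ht₂, ht₂G⟩ := exists_sg' C₀.b C₀.h2 P.vv (w := κ₀⁻¹ • d) (by rw [lsmul C₀.b, hd.2.1, mul_zero])
  have htG : t₂ * t₁ ∈ SGen fb := mul_mem ht₂G ht₁G
  have sy := symm' C₀.b
  have htu : ((t₂ * t₁ : GL (Fin n₂) F) : Matrix (Fin n₂) (Fin n₂) F) *ᵥ u = u := by
    rw [gl_mul_mulVec, ht₁ u, sy v' u, Q.v'u, sy d u, hd.1]
    simp only [zero_smul, mul_zero, add_zero, sub_zero]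
    rw [ht₂, P.uv]
    simp [rsmul C₀.b, sy d u, hd.1]
  have htv : ((t₂ * t₁ : GL (Fin n₂) F) : Matrix (Fin n₂) (Fin n₂) F) *ᵥ v = (-κ₀) • v' := by
    rw [gl_mul_mulVec, ht₁ v, sy v' v, Q.v'v, sy d v, hd.2.1, ← hκ, ht₂]
    simp only [one_smul, mul_one, add_zero, ladd C₀.b, lsub C₀.b, lsmul C₀.b, rsmul C₀.b, P.vv, hd.2.1, Q.v'v,
      sy d v, sy d v', hd.2.2.2]
    rw [hκ]
    have h2 := C₀.h2
    match_scalars <;> field_simp <;> ring
  obtain ⟨m, hm, hmx⟩ := hM.2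
  obtain ⟨k, hk, hkx⟩ := hN.2
  obtain ⟨w, hw⟩ : ∃ w, w = (-κ₀) • v' := ⟨_, rfl⟩
  rw [← hw] at htv
  obtain ⟨k', hk'X, hk'⟩ : ∃ k' ∈ X, ∀ x, k' ⬝ₘ x = x - tm (N *ᵥ ctr fb w x) u + tm (N *ᵥ ctr fb u x) w := by
    refine ⟨kr 1 (t₂ * t₁) * k * (kr (1 : GL (Fin n₁) F) (t₂ * t₁))⁻¹,
      mul_mem (mul_mem (C₀.right_mem htG) hk) (inv_mem (C₀.right_mem htG)), fun x => ?_⟩
    obtain ⟨y, rfl⟩ : ∃ y, x = (kr (1 : GL (Fin n₁) F) (t₂ * t₁)) ⬝ₘ y := ⟨_, (gl_mulVec_inv_cancel _ x).symm⟩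
    have eu := kr_right_move C₀ htG y u
    have ev := kr_right_move C₀ htG y v
    rw [htu] at eu
    rw [htv] at ev
    rw [gl_mul_mulVec, gl_mul_mulVec, gl_inv_mulVec_cancel, hkx, Matrix.mulVec_add, Matrix.mulVec_add, kr_tm, kr_tm,
      Units.val_one, Matrix.one_mulVec, Matrix.one_mulVec, htu, htv, eu, ev]
    simp only [Matrix.zero_mulVec, zero_sub, add_zero, tm_negl]
    abel
  have hwu : fb w u = 0 := by rw [hw, lsmul C₀.b, Q.v'u, mul_zero]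
  have hww : fb w w = 0 := by rw [hw, lsmul C₀.b, rsmul C₀.b, Q.v'v', mul_zero, mul_zero]
  have hwv : fb w v = -κ₀ := by rw [hw, lsmul C₀.b, Q.v'v, mul_one]
  have hmx' : ∀ x, m ⬝ₘ x = x - tm (M *ᵥ ctr fb v x) u + tm (M *ᵥ ctr fb u x) v := fun x => by
    rw [hmx]; simp only [Matrix.zero_mulVec, zero_sub, add_zero, tm_negl]; abel
  refine ⟨u, κ₀ • (M * N - N * M), hu0, P.uu, smul_ne_zero hκ0 (sub_ne_zero.mpr hMN), skew _ _ fun x y => ?_,
    m * k' * (k' * m)⁻¹, mul_mem (mul_mem hm hk'X) (inv_mem (mul_mem hk'X hm)), fun x => ?_⟩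
  · simp only [Matrix.sub_mulVec, ← Matrix.mulVec_mulVec, lsub C₀.a, rsub C₀.a, hM.1, hN.1]
    ring
  obtain ⟨y, rfl⟩ : ∃ y, x = (k' * m) ⬝ₘ y := ⟨_, (gl_mulVec_inv_cancel _ x).symm⟩
  rw [gl_mul_mulVec, gl_inv_mulVec_cancel, gl_mul_mulVec, gl_mul_mulVec, hmx', hk', hk', hmx']
  simp only [C₀.cadd, C₀.csub, C₀.ctm, P.uu, P.uv, (P.swap C₀.b).uv, P.vv, hwu, (sy w u).trans hwu, hwv, (sy w v).trans hwv, hww,
    zero_smul, sub_zero, add_zero, Matrix.mulVec_add, Matrix.mulVec_smul, Matrix.sub_mulVec, Matrix.smul_mulVec,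
    ← Matrix.mulVec_mulVec]
  simp only [tm_add_left, tm_smul_left, tm_sub_left]
  module

/-- Every rank two slot at every singular centre. -/
theorem ex_dy (hU : ¬ NoU fb X) {o : VB} (hoo : fb o o = 0) (v u : VA) : EX fb X o (dy C₀.a v u) := by
  classical
  obtain ⟨o₀, A, ho₀, hoo₀, hA0, hA, hex⟩ := exists_ex C₀ hU
  rcases eq_or_ne o 0 with ho | ho
  · exact ⟨1, one_mem X, fun x => by simp [ho, tm_zero_right]⟩
  let K : Submodule F MA :=
    { carrier := {M | (∀ x y, fa (M *ᵥ x) y = -fa x (M *ᵥ y)) ∧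
        ∀ c : F, ∀ o : VB, o ≠ 0 → fb o o = 0 → EX fb X o (c • M)}
      zero_mem' := ⟨fun x y => by simp [lzero C₀.a, rzero C₀.a],
        fun c o _ _ => ⟨1, one_mem X, fun x => by simp [tm_zero_left]⟩⟩
      add_mem' := fun {M N} hM hN => ⟨fun x y => by
          rw [Matrix.add_mulVec, Matrix.add_mulVec, ladd C₀.a, radd C₀.a, hM.1, hN.1, neg_add],
        fun c o h1 h2 => by rw [smul_add]; exact ex_add C₀ h2 (hM.2 c o h1 h2) (hN.2 c o h1 h2)⟩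
      smul_mem' := fun r M hM => ⟨fun x y => by
          rw [Matrix.smul_mulVec, Matrix.smul_mulVec, lsmul C₀.a, rsmul C₀.a, hM.1, mul_neg],
        fun c o h1 h2 => by rw [smul_smul]; exact hM.2 (c * r) o h1 h2⟩ }
  have hK : ∀ σ ∈ SGen fa, ∀ M ∈ K, (σ : MA) * M * ((σ⁻¹ : GL (Fin n₁) F) : MA) ∈ K := by
    intro σ hσ M ⟨hM, hE⟩
    have hi := sgen_iso C₀.a C₀.h2 hσ
    refine ⟨fun x y => ?_, fun c o h1 h2 => ?_⟩
    · rw [← Matrix.mulVec_mulVec, ← Matrix.mulVec_mulVec, ← Matrix.mulVec_mulVec, ← Matrix.mulVec_mulVec]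
      conv_lhs => rw [← gl_mulVec_inv_cancel σ y, hi, hM, ← hi, gl_mulVec_inv_cancel]
    obtain ⟨k, hk, hkx⟩ := hE c o h1 h2
    refine ⟨kr σ 1 * k * (kr σ (1 : GL (Fin n₂) F))⁻¹,
      mul_mem (mul_mem (C₀.small σ 1 hσ (one_mem _)) hk) (inv_mem (C₀.small σ 1 hσ (one_mem _))), fun x => ?_⟩
    obtain ⟨y, rfl⟩ : ∃ y, x = (kr σ (1 : GL (Fin n₂) F)) ⬝ₘ y := ⟨_, (gl_mulVec_inv_cancel _ x).symm⟩
    have hkr : ∀ b d, (kr σ (1 : GL (Fin n₂) F)) ⬝ₘ (tm b d) = tm ((σ : MA) *ᵥ b) d := fun b d => by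
      rw [kr_tm, Units.val_one, Matrix.one_mulVec]
    have hc : ctr fb o ((kr σ (1 : GL (Fin n₂) F)) ⬝ₘ y) = (σ : MA) *ᵥ ctr fb o y := by
      refine ctr_eq C₀.data fun a => ?_
      conv_lhs => rw [← gl_mulVec_inv_cancel σ a]
      rw [← hkr, C₀.iso _ (C₀.small σ 1 hσ (one_mem _)), tf_tm_right C₀.data]
      conv_rhs => rw [← gl_mulVec_inv_cancel σ a, hi]
    rw [gl_mul_mulVec, gl_mul_mulVec, gl_inv_mulVec_cancel, hkx, Matrix.mulVec_add, hkr, hc]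
    simp only [Matrix.smul_mulVec, ← Matrix.mulVec_mulVec, gl_inv_mulVec_cancel, Matrix.mulVec_smul]
  have hAK : A ∈ K := ⟨hA, fun c o h1 h2 => ex_all C₀ ho₀ hoo₀ h1 h2 hex c⟩
  have := (all_dy C₀.a C₀.h2 C₀.da' C₀.hex' (fun h => C₀.four (by rwa [Fintype.card_fin] at h)) K hK
    (fun _ h => h.1) hAK hA0 v u).2 1 o ho hoo
  rwa [one_smul] at this

end Cfsg.Agent.Classical.TensorMax.OO
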