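/-
All Siegel elements of the product space from the rank two slots.
-/
import Cfsg.Agent.Lib.Classical.TensorMax.OO.Gen

set_option autoImplicit false
set_option linter.unusedSectionVars false

namespace Cfsg.Agent.Classical.TensorMax.OO

open Matrix Module Cfsg.Geo
open Cfsg.Agent.Classical Cfsg.Agent.Classical.TensorMax.Form

variable {n₁ n₂ : ℕ} {F : Type*} [Field F] [Fintype F]
variable {fa : (Fin n₁ → F) → (Fin n₁ → F) → F} {fb : (Fin n₂ → F) → (Fin n₂ → F) → F}
variable {X : Subgroup (GL (Fin n₁ × Fin n₂) F)}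

local notation "κ" => Fin n₁ × Fin n₂
local notation:max g:max " ⬝ₘ " x:max =>
  ((g : GL (Fin n₁ × Fin n₂) F) : Matrix (Fin n₁ × Fin n₂) (Fin n₁ × Fin n₂) F) *ᵥ x
local notation "τ" => tf (RingEquiv.refl F) fa fb
local notation "VA" => Fin n₁ → F
local notation "VB" => Fin n₂ → F

variable (C : Ctx fa fb X)

include C

theorem tsymm (x y : κ → F) : τ y x = τ x y := by
  have h := tf_swap C.data x y
  rwa [one_mul, one_mul, RingEquiv.refl_apply] at h

theorem tadd_left (x y z : κ → F) : τ (x + y) z = τ x z + τ y z := (tf_semi C.data).add_left x y z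

theorem tadd_right (x y z : κ → F) : τ x (y + z) = τ x y + τ x z := (tf_semi C.data).add_right x y z

theorem tsmul_left (c : F) (x y : κ → F) : τ (c • x) y = c * τ x y := (tf_semi C.data).smul_left c x y

theorem tsmul_right (c : F) (x y : κ → F) : τ x (c • y) = c * τ x y := by
  rw [tsymm C, tsmul_left C, tsymm C]

theorem tsub_left (x y z : κ → F) : τ (x - y) z = τ x z - τ y z := by
  rw [sub_eq_add_neg, ← neg_one_smul F y, tadd_left C, tsmul_left C]; ring

theorem tsub_right (x y z : κ → F) : τ x (y - z) = τ x y - τ x z := by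
  rw [tsymm C, tsub_left C, tsymm C y x, tsymm C z x]

theorem tzero_left (y : κ → F) : τ 0 y = 0 := (reflex C.data).zero_left y

/-- Siegel elements exist as isometries. -/
theorem exists_E {p y : κ → F} (hp : τ p p = 0) (hy : τ p y = 0) :
    ∃ g : GL κ F, ∀ x, g ⬝ₘ x = x + τ p x • y - (τ y x + 2⁻¹ * τ y y * τ p x) • p := by
  haveI : Nonempty κ := ⟨(⟨0, by have := C.da; omega⟩, ⟨0, by have := C.db; omega⟩)⟩
  have hyp : τ y p = 0 := by rw [tsymm C]; exact hy
  obtain ⟨t, -, -, ht⟩ := Radical.exists_UF (reflex C.data) (v := p) (y := y) (c := -(2⁻¹ * τ y y)) hp hyp (by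
    have := C.h2
    rw [RingEquiv.refl_apply, one_mul]; field_simp; ring)
  refine ⟨t, fun x => ?_⟩
  rw [ht, tsymm C p x, tsymm C y x]
  simp only [map_one, one_mul]
  module

theorem par_zero {p : κ → F} : Par fa fb X p 0 :=
  ⟨1, one_mem X, fun x => by simp [tzero_left C]⟩

theorem par_zero' {y : κ → F} : Par fa fb X 0 y :=
  ⟨1, one_mem X, fun x => by simp [tzero_left C]⟩

theorem par_add {p y y' : κ → F} (hp : τ p p = 0) (hy : τ p y = 0) (hy' : τ p y' = 0)
    (h : Par fa fb X p y) (h' : Par fa fb X p y') : Par fa fb X p (y + y') := by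
  obtain ⟨g, hg, hgx⟩ := h
  obtain ⟨g', hg', hgx'⟩ := h'
  refine ⟨g * g', mul_mem hg hg', fun x => ?_⟩
  have h2 := C.h2
  rw [gl_mul_mulVec, hgx' x, hgx]
  simp only [tadd_left C, tadd_right C, tsub_right C, tsmul_right C, hp, hy', tsymm C p y, hy, tsymm C y y']
  match_scalars <;> field_simp <;> ring

theorem par_smul {p y : κ → F} {l : F} (h : Par fa fb X p (l • y)) : Par fa fb X (l • p) y := by
  obtain ⟨g, hg, hgx⟩ := h
  refine ⟨g, hg, fun x => ?_⟩
  rw [hgx]
  simp only [tsmul_left C, tsmul_right C]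
  module

theorem par_conj {g : GL κ F} (hg : g ∈ X) {p y : κ → F} (h : Par fa fb X p y) :
    Par fa fb X (g ⬝ₘ p) (g ⬝ₘ y) := by
  obtain ⟨k, hk, hkx⟩ := h
  refine ⟨g * k * g⁻¹, mul_mem (mul_mem hg hk) (inv_mem hg), fun x => ?_⟩
  obtain ⟨z, rfl⟩ : ∃ z, x = g ⬝ₘ z := ⟨_, (gl_mulVec_inv_cancel g x).symm⟩
  rw [gl_mul_mulVec, gl_mul_mulVec, gl_inv_mulVec_cancel, hkx, C.iso g hg, C.iso g hg, C.iso g hg]
  simp only [Matrix.mulVec_sub, Matrix.mulVec_add, Matrix.mulVec_smul]

/-- Two parameters with one non-zero product give a third. -/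
theorem par_chain {p r r' s : κ → F} (hp : τ p p = 0) (hr : τ r r = 0) (hr' : τ r' r' = 0) (hs : τ s s = 0)
    (hpr : τ p r = 0) (hrs' : τ r' s = 0) (hpr' : τ p r' = 0) (hps : τ p s = 0) (hrs : τ r s = 0)
    (hrr : τ r r' = 1) (h : Par fa fb X p r) (h' : Par fa fb X r' s) : Par fa fb X p s := by
  obtain ⟨g, hg, hgx⟩ := h
  obtain ⟨k, hk, hkx⟩ := h'
  obtain ⟨E, hE⟩ := exists_E C hp hps
  refine ⟨E, ?_, hE⟩
  have key : E * (g * k) = k * g := gl_ext_mulVec fun x => by
    simp only [gl_mul_mulVec, hgx, hkx, hE, hr, hs, mul_zero, zero_mul, add_zero, tsub_right C, tadd_right C,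
      tsmul_right C, hp, hr', hpr, hrs', hpr', hps, hrs, hrr,
      show τ r p = 0 by rw [tsymm C]; exact hpr, show τ s r' = 0 by rw [tsymm C]; exact hrs',
      show τ r' p = 0 by rw [tsymm C]; exact hpr', show τ s p = 0 by rw [tsymm C]; exact hps,
      show τ s r = 0 by rw [tsymm C]; exact hrs, show τ r' r = 1 by rw [tsymm C]; exact hrr]
    module
  rw [show E = k * g * (g * k)⁻¹ by rw [← key]; group]
  exact mul_mem (mul_mem hk hg) (inv_mem (mul_mem hg hk))

/-- A property additive on an orthogonal space with a hyperbolic pair holds if it holds at singular vectors. -/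
theorem sing_induction {S : Submodule F VB} {h h' : VB} (hh : fb h h = 0) (hh' : fb h' h' = 0) (h1 : fb h' h = 1)
    (hS : ∀ e ∈ S, fb h e = 0 ∧ fb h' e = 0) {Φ : VB → Prop} (hΦ : ∀ w ∈ C.b.perp S, fb w w = 0 → Φ w)
    (hadd : ∀ x y, x ∈ C.b.perp S → y ∈ C.b.perp S → Φ x → Φ y → Φ (x + y)) {x : VB} (hx : x ∈ C.b.perp S) :
    Φ x := by
  have hh1 : fb h h' = 1 := by rw [symm' C.b]; exact h1
  have mh : h ∈ C.b.perp S := fun e he => (hS e he).1
  have mh' : h' ∈ C.b.perp S := fun e he => (hS e he).2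
  have sng : ∀ a : F, ∀ z : VB, fb z z = 0 → fb (a • z) (a • z) = 0 := fun a z hz => by
    rw [lsmul C.b, rsmul C.b, hz, mul_zero, mul_zero]
  obtain ⟨d, hd⟩ : ∃ d, d = x - fb x h' • h - fb x h • h' := ⟨_, rfl⟩
  have md : d ∈ C.b.perp S := hd ▸ sub_mem (sub_mem hx ((C.b.perp S).smul_mem _ mh)) ((C.b.perp S).smul_mem _ mh')
  have dh : fb d h = 0 := by rw [hd, lsub C.b, lsub C.b, lsmul C.b, lsmul C.b, hh, h1]; ring
  have dh' : fb d h' = 0 := by rw [hd, lsub C.b, lsub C.b, lsmul C.b, lsmul C.b, hh', hh1]; ring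
  obtain ⟨q, hq⟩ : ∃ q, q = 2⁻¹ * fb d d := ⟨_, rfl⟩
  have ms : d + h + (-q) • h' ∈ C.b.perp S := add_mem (add_mem md mh) ((C.b.perp S).smul_mem _ mh')
  have ss : fb (d + h + (-q) • h') (d + h + (-q) • h') = 0 := by
    have h2 := C.h2
    simp only [ladd C.b, radd C.b, lsmul C.b, rsmul C.b, dh, dh', symm' C.b d h, symm' C.b d h', hh, hh', h1, hh1,
      hq]
    field_simp
    ring
  have e : x = (d + h + (-q) • h') + (fb x h' - 1) • h + (fb x h + q) • h' := by rw [hd]; module
  rw [e]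
  have m1 := (C.b.perp S).smul_mem (fb x h' - 1) mh
  have m2 := (C.b.perp S).smul_mem (fb x h + q) mh'
  exact hadd _ _ (add_mem ms m1) m2 (hadd _ _ ms m1 (hΦ _ ms ss) (hΦ _ m1 (sng _ h hh))) (hΦ _ m2 (sng _ h' hh'))

variable (hU : ¬ NoU fb X)

include hU

theorem pure_sing (v : VA) {o : VB} (hoo : fb o o = 0) : τ (tm v o) (tm v o) = 0 := by
  rw [C.tt, hoo, mul_zero]

/-- Parameters in the fibre of the centre. -/
theorem par_same {o : VB} (hoo : fb o o = 0) (v u : VA) : Par fa fb X (tm v o) (tm u o) := by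
  obtain ⟨g, hg, hgx⟩ := ex_dy C hU hoo v u
  refine ⟨g, hg, fun x => ?_⟩
  rw [hgx, dy_apply, C.tt, hoo, mul_zero, mul_zero, zero_mul, add_zero, tsymm C x (tm v o), tsymm C x (tm u o),
    tf_tm_right C.data, tf_tm_right C.data, tm_sub_left, tm_smul_left, tm_smul_left]
  module

/-- A dual pair in two hyperplanes. -/
theorem exists_dual_pair (v a : VA) : ∃ u u' : VA, fa v u = 0 ∧ fa a u' = 0 ∧ fa u u' = 1 := by
  by_contra hcon
  push Not at hcon
  have hsp : ∀ w : VA, C.a.perp (Submodule.span F {w}) = C.a.perp (Submodule.span F {w}) := fun _ => rfl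
  have hle : C.a.perp (Submodule.span F {a}) ≤ C.a.perp (C.a.perp (Submodule.span F {v})) := fun u' hu' u hu => by
    by_contra h
    rw [symm' C.a u u'] at h
    have h1 : fa v u = 0 := by rw [symm' C.a u v]; exact hu v (Submodule.mem_span_singleton_self v)
    have h2 : fa a ((fa u u')⁻¹ • u') = 0 := by
      rw [rsmul C.a, symm' C.a u' a, hu' a (Submodule.mem_span_singleton_self a), mul_zero]
    exact hcon u _ h1 h2 (by rw [rsmul C.a, inv_mul_cancel₀ h])
  rw [C.a.perp_perp] at hle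
  have e1 := C.a.finrank_perp (Submodule.span F {a})
  have e2 := Submodule.finrank_mono hle
  have b1 : ∀ w : VA, finrank F (Submodule.span F {w}) ≤ 1 := fun w =>
    (finrank_span_le_card ({w} : Set VA)).trans (by simp)
  have := C.da'
  have := b1 a
  have := b1 v
  omega

/-- A singular partner. -/
theorem exists_partner {o : VB} (ho : o ≠ 0) (hoo : fb o o = 0) : ∃ e, fb e o = 1 ∧ fb e e = 0 :=
  exists_pair C.b ho hoo C.h2

/-- Parameters orthogonal on the left. -/
theorem par_left {o : VB} (ho : o ≠ 0) (hoo : fb o o = 0) {v a : VA} (hva : fa v a = 0) (w : VB) :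
    Par fa fb X (tm v o) (tm a w) := by
  classical
  have base : ∀ o' : VB, fb o o' = 1 → fb o' o' = 0 → ∀ v a : VA, fa v a = 0 → Par fa fb X (tm v o) (tm a o') := by
    intro o' h1 h0 v a hva
    obtain ⟨u', u, hu', hu, huu⟩ := exists_dual_pair C hU v a
    refine par_chain C (pure_sing C hU v hoo) (pure_sing C hU u hoo) (pure_sing C hU u' h0) (pure_sing C hU a h0)
      ?_ ?_ ?_ ?_ ?_ ?_ (par_same C hU hoo v u) (par_same C hU h0 u' a)
    all_goals rw [C.tt]
    · rw [hoo, mul_zero]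
    · rw [h0, mul_zero]
    · rw [hu', zero_mul]
    · rw [hva, zero_mul]
    · rw [symm' C.a a u, hu, zero_mul]
    · rw [symm' C.a u' u, huu, h1, mul_one]
  obtain ⟨e, he, hee⟩ := exists_partner C hU ho hoo
  refine sing_induction C (S := ⊥) hoo hee he (fun x hx => ?_) (Φ := fun w => Par fa fb X (tm v o) (tm a w))
    (fun w _ hww => ?_) (fun x y _ _ hx hy => ?_) (x := w) (fun x hx => ?_)
  · rw [(Submodule.mem_bot F).mp hx, rzero C.b, rzero C.b]; exact ⟨rfl, rfl⟩
  · by_cases how : fb o w = 0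
    · -- along the centre or across a plane
      by_cases hw : w ∈ Submodule.span F {o}
      · obtain ⟨k, rfl⟩ := Submodule.mem_span_singleton.mp hw
        rw [tm_smul_right, ← tm_smul_left]
        exact par_same C hU hoo v _
      have h1 : fb o e = 1 := by rw [symm' C.b]; exact he
      obtain ⟨o', ho', ho'w, ho'o'⟩ : ∃ o', fb o o' = 1 ∧ fb o' w = 0 ∧ fb o' o' = 0 := by
        have hu : o ∉ Submodule.span F {w} := fun h => by
          obtain ⟨k, hk⟩ := Submodule.mem_span_singleton.mp h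
          have hk0 : k ≠ 0 := fun e => ho (by rw [← hk, e, zero_smul])
          exact hw (Submodule.mem_span_singleton.mpr ⟨k⁻¹, by rw [← hk, smul_smul, inv_mul_cancel₀ hk0, one_smul]⟩)
        obtain ⟨x, hx, hxo⟩ := exists_dual C.b hu
        have hxw : fb x w = 0 := hx w (Submodule.mem_span_singleton_self w)
        refine ⟨x - (2⁻¹ * fb x x) • o, ?_, ?_, ?_⟩
        · rw [rsub C.b, rsmul C.b, hoo, symm' C.b x o, hxo]; ring
        · rw [lsub C.b, lsmul C.b, hxw, how]; ring
        · have h2 := C.h2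
          rw [lsub C.b, rsub C.b, rsub C.b, lsmul C.b, lsmul C.b, rsmul C.b, rsmul C.b, hxo, hoo, symm' C.b x o, hxo]
          field_simp
          ring
      obtain ⟨u', u, hu', hu, huu⟩ := exists_dual_pair C hU a v
      -- slots of the chain
      refine par_chain C (pure_sing C hU v hoo) (pure_sing C hU u ho'o') (pure_sing C hU u' hoo)
        (pure_sing C hU a hww) ?_ ?_ ?_ ?_ ?_ ?_ (base o' ho' ho'o' v u hu) ?_
      · rw [C.tt, hu, zero_mul]
      · rw [C.tt, symm' C.a a u', hu', zero_mul]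
      · rw [C.tt, hoo, mul_zero]
      · rw [C.tt, hva, zero_mul]
      · rw [C.tt, ho'w, mul_zero]
      · rw [C.tt, symm' C.a u' u, huu, symm' C.b o o', ho', mul_one]
      · -- a partner of the centre carries the last parameter
        have b' := base o' ho' ho'o' u' a (by rw [symm' C.a]; exact hu')
        have hz : fb o (o' + w) = 1 := by rw [radd C.b, ho', how, add_zero]
        have hzz : fb (o' + w) (o' + w) = 0 := by
          rw [ladd C.b, radd C.b, radd C.b, ho'o', ho'w, hww, symm' C.b o' w, ho'w]; ring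
        have b'' := base (o' + w) hz hzz u' a (by rw [symm' C.a]; exact hu')
        have := par_add C (pure_sing C hU u' hoo) (by rw [C.tt, symm' C.a a u', hu', zero_mul])
          (by rw [C.tt, rneg C.a, symm' C.a a u', hu', neg_zero, zero_mul]) b'' (show Par fa fb X (tm u' o) (tm (-a) o') from
            base o' ho' ho'o' u' (-a) (by rw [rneg C.a, symm' C.a a u', hu', neg_zero]))
        rwa [tm_negl, tm_add_right, add_neg_cancel_comm] at this
    · obtain ⟨k, hk⟩ : ∃ k, k = (fb o w)⁻¹ := ⟨_, rfl⟩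
      have := base (k • w) (by rw [rsmul C.b, hk, inv_mul_cancel₀ how]) (by rw [lsmul C.b, rsmul C.b, hww, mul_zero, mul_zero]) v
        ((fb o w) • a) (by rw [rsmul C.a, hva, mul_zero])
      rwa [tm_smul_left, tm_smul_right, smul_smul, hk, mul_inv_cancel₀ how, one_smul] at this
  · rw [tm_add_right]
    exact par_add C (pure_sing C hU v hoo) (by rw [C.tt, hva, zero_mul]) (by rw [C.tt, hva, zero_mul]) hx hy
  · rw [(Submodule.mem_bot F).mp hx, rzero C.b]

/-- Parameters orthogonal on the right. -/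
theorem par_right {o : VB} (ho : o ≠ 0) (hoo : fb o o = 0) (v a : VA) {w : VB} (how : fb o w = 0) :
    Par fa fb X (tm v o) (tm a w) := by
  classical
  obtain ⟨e, he, hee⟩ := exists_partner C hU ho hoo
  obtain ⟨S, hS⟩ : ∃ S, S = Submodule.span F (({o, e} : Finset VB) : Set VB) := ⟨_, rfl⟩
  have h3 : 3 ≤ finrank F (C.b.perp S) := by
    have h1 := C.b.finrank_perp S
    have h2 := finrank_span_finset_le_card (R := F) ({o, e} : Finset VB)
    have h3 : ({o, e} : Finset VB).card ≤ 2 := (Finset.card_insert_le _ _).trans (by simp)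
    have h5 := C.db
    simp only [Set.finrank] at h2
    rw [Fintype.card_fin, hS] at h1
    rw [hS]
    omega
  obtain ⟨h, hh, hh0, hhh⟩ := exists_sing C.b C.h2 h3
  have ho' : fb h o = 0 := hh _ (hS ▸ Submodule.subset_span (by simp))
  obtain ⟨x, hx, hxh⟩ : ∃ x ∈ C.b.perp S, fb x h = 1 := exists_dual C.b fun hin => by
    rw [hS, Finset.coe_insert, Finset.coe_singleton, Submodule.mem_span_pair] at hin
    obtain ⟨r, s, hrs⟩ := hin
    have a1 := hh o (hS ▸ Submodule.subset_span (by simp))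
    have a2 := hh e (hS ▸ Submodule.subset_span (by simp))
    rw [← hrs, ladd C.b, lsmul C.b, lsmul C.b, hoo, he] at a1
    rw [← hrs, ladd C.b, lsmul C.b, lsmul C.b, hee, symm' C.b e o, he] at a2
    exact hh0 (by rw [← hrs, show s = 0 by simpa using a1, show r = 0 by simpa using a2]; simp)
  obtain ⟨h', hh'⟩ : ∃ h', h' = x - (2⁻¹ * fb x x) • h := ⟨_, rfl⟩
  have key : ∀ w : VB, fb o w = 0 → fb w w = 0 → Par fa fb X (tm v o) (tm a w) := fun w how hww => by
    by_cases hw : w ∈ Submodule.span F {o}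
    · obtain ⟨k, rfl⟩ := Submodule.mem_span_singleton.mp hw
      rw [tm_smul_right, ← tm_smul_left]
      exact par_same C hU hoo v _
    obtain ⟨o', ho', ho'w, ho'o'⟩ : ∃ o', fb o o' = 1 ∧ fb o' w = 0 ∧ fb o' o' = 0 := by
      have hu : o ∉ Submodule.span F {w} := fun h => by
        obtain ⟨k, hk⟩ := Submodule.mem_span_singleton.mp h
        have hk0 : k ≠ 0 := fun e => ho (by rw [← hk, e, zero_smul])
        exact hw (Submodule.mem_span_singleton.mpr ⟨k⁻¹, by rw [← hk, smul_smul, inv_mul_cancel₀ hk0, one_smul]⟩)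
      obtain ⟨x, hx, hxo⟩ := exists_dual C.b hu
      have hxw : fb x w = 0 := hx w (Submodule.mem_span_singleton_self w)
      refine ⟨x - (2⁻¹ * fb x x) • o, ?_, ?_, ?_⟩
      · rw [rsub C.b, rsmul C.b, hoo, symm' C.b x o, hxo]; ring
      · rw [lsub C.b, lsmul C.b, hxw, how]; ring
      · have h2 := C.h2
        rw [lsub C.b, rsub C.b, rsub C.b, lsmul C.b, lsmul C.b, rsmul C.b, rsmul C.b, hxo, hoo, symm' C.b x o, hxo]
        field_simp
        ring
    obtain ⟨u', u, hu', hu, huu⟩ := exists_dual_pair C hU a v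
    refine par_chain C (pure_sing C hU v hoo) (pure_sing C hU u ho'o') (pure_sing C hU u' hoo)
      (pure_sing C hU a hww) ?_ ?_ ?_ ?_ ?_ ?_ (par_left C hU ho hoo hu o')
      (par_left C hU ho hoo (by rw [symm' C.a a u', hu']) w)
    all_goals rw [C.tt]
    · rw [hu, zero_mul]
    · rw [how, mul_zero]
    · rw [hoo, mul_zero]
    · rw [how, mul_zero]
    · rw [ho'w, mul_zero]
    · rw [symm' C.a u' u, huu, symm' C.b o o', ho', mul_one]
  refine sing_induction C (S := Submodule.span F {o}) (h := h) (h' := h') hhh ?_ ?_ (fun y hy => ?_)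
    (Φ := fun w => Par fa fb X (tm v o) (tm a w)) (fun y hy hyy => key y ?_ hyy)
    (fun y z hy hz p q => ?_) (x := w) (fun y hy => ?_)
  · have h2 := C.h2
    rw [hh', lsub C.b, rsub C.b, rsub C.b, lsmul C.b, lsmul C.b, rsmul C.b, rsmul C.b, hxh, hhh, symm' C.b x h, hxh]
    field_simp
    ring
  · rw [hh', lsub C.b, lsmul C.b, hxh, hhh, mul_zero, sub_zero]
  · obtain ⟨k, rfl⟩ := Submodule.mem_span_singleton.mp hy
    have hxo : fb x o = 0 := hx _ (hS ▸ Submodule.subset_span (by simp))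
    constructor <;> simp [rsmul C.b, hh', lsub C.b, lsmul C.b, hxo, ho']
  · rw [symm' C.b y o]; exact hy o (Submodule.mem_span_singleton_self o)
  · have a1 : fb o y = 0 := by rw [symm' C.b y o]; exact hy o (Submodule.mem_span_singleton_self o)
    have a2 : fb o z = 0 := by rw [symm' C.b z o]; exact hz o (Submodule.mem_span_singleton_self o)
    rw [tm_add_right]
    exact par_add C (pure_sing C hU v hoo) (by rw [C.tt, a1, mul_zero]) (by rw [C.tt, a2, mul_zero]) p q
  · obtain ⟨k, rfl⟩ := Submodule.mem_span_singleton.mp hy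
    rw [rsmul C.b, symm' C.b o w, how, mul_zero]

/-- All parameters at pure centres. -/
theorem par_centre {v : VA} {o : VB} (hoo : fb o o = 0) {y : κ → F} (hy : τ (tm v o) y = 0) :
    Par fa fb X (tm v o) y := by
  classical
  rcases eq_or_ne o 0 with ho | ho
  · rw [ho, tm_zero_right]; exact par_zero' C
  obtain ⟨o', ho', -⟩ := exists_partner C hU ho hoo
  have hoo' : fb o' o = 1 := ho'
  obtain ⟨c, hc⟩ : ∃ c, c = ctr fb o y := ⟨_, rfl⟩
  obtain ⟨y₁, hy₁⟩ : ∃ y₁, y₁ = y - tm c o' := ⟨_, rfl⟩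
  have hy1 : ctr fb o y₁ = 0 := by rw [hy₁, C.csub, C.ctm, hoo', one_smul, hc, sub_self]
  have hc0 : fa v c = 0 := by
    rw [tsymm C, tf_tm_right C.data, ← hc] at hy
    rw [symm' C.a c v]; exact hy
  have hp := pure_sing C hU v hoo
  have hsum : Par fa fb X (tm v o) y₁ ∧ τ (tm v o) y₁ = 0 := by
    rw [sum_rows y₁]
    refine Finset.sum_induction _ (fun y => Par fa fb X (tm v o) y ∧ τ (tm v o) y = 0)
      (fun a b ha hb => ⟨par_add C hp ha.2 hb.2 ha.1 hb.1, by rw [tadd_right C, ha.2, hb.2, add_zero]⟩)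
      ⟨par_zero C, by rw [tsymm C, tzero_left C]⟩ fun i _ => ?_
    have h0 : fb o (Form.row y₁ i) = 0 := by rw [symm' C.b (Form.row y₁ i) o]; exact congrFun hy1 i
    exact ⟨par_right C hU ho hoo _ _ h0, by rw [C.tt, h0, mul_zero]⟩
  have := par_add C hp hsum.2 (by rw [C.tt, hc0, zero_mul]) hsum.1 (par_left C hU ho hoo hc0 o')
  rwa [hy₁, sub_add_cancel] at this

/-- All parameters. -/
theorem par_all {v y : κ → F} (hv : τ v v = 0) (hy : τ v y = 0) : Par fa fb X v y := by
  classical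
  rcases eq_or_ne v 0 with hv0 | hv0
  · rw [hv0]; exact par_zero' C
  obtain ⟨o₀, -, ho₀, hoo₀⟩ := exists_sing C.b C.h2 (W := (⊤ : Submodule F VB)) (by
    rw [finrank_top, Module.finrank_fintype_fun_eq_card, Fintype.card_fin]; have := C.db; omega)
  obtain ⟨e₀, he₀, hee₀⟩ := exists_partner C hU ho₀ hoo₀
  have exists_pure : ∀ x : κ → F, x ≠ 0 → ∃ (a : VA) (w : VB), fb w w = 0 ∧ τ (tm a w) x ≠ 0 := fun x hx => by
    by_contra hcon
    push Not at hcon
    refine hx (C.eq_zero fun w => ctr_eq C.data fun a => ?_)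
    rw [lzero C.a, tsymm C]
    refine sing_induction C (S := ⊥) hoo₀ hee₀ he₀ (fun y hy => ?_) (Φ := fun w => τ (tm a w) x = 0)
      (fun w _ hww => hcon a w hww) (fun p q _ _ hp hq => by rw [tm_add_right, tadd_left C, hp, hq, add_zero])
      (x := w) (fun y hy => ?_)
    · rw [(Submodule.mem_bot F).mp hy, rzero C.b, rzero C.b]; exact ⟨rfl, rfl⟩
    · rw [(Submodule.mem_bot F).mp hy, rzero C.b]
  obtain ⟨a, w, hww, hP⟩ := exists_pure v hv0
  obtain ⟨p, hp⟩ : ∃ p, p = tm a w := ⟨_, rfl⟩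
  rw [← hp] at hP
  have hQp : τ p p = 0 := hp ▸ pure_sing C hU a hww
  obtain ⟨a', w', hww', hP'⟩ := exists_pure p fun e => hP (by rw [e, tzero_left C])
  obtain ⟨p', hp'⟩ : ∃ p', p' = tm a' w' := ⟨_, rfl⟩
  rw [← hp'] at hP'
  have hQp' : τ p' p' = 0 := hp' ▸ pure_sing C hU a' hww'
  obtain ⟨l, hl⟩ : ∃ l, l = τ p v / τ p' p := ⟨_, rfl⟩
  have hl0 : l ≠ 0 := hl ▸ div_ne_zero hP hP'
  obtain ⟨z, hz⟩ : ∃ z, z = (τ p v)⁻¹ • (l • p' - v) := ⟨_, rfl⟩
  have hzp : τ p z = 0 := by
    rw [hz, tsmul_right C, tsub_right C, tsmul_right C, tsymm C p' p, hl, div_mul_cancel₀ _ hP', sub_self, mul_zero]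
  obtain ⟨g, hg, hgx⟩ : Par fa fb X p z := by rw [hp] at hzp ⊢; exact par_centre C hU hww hzp
  have hgv : g ⬝ₘ v = l • p' := by
    obtain ⟨m, hm⟩ : ∃ m, m = τ z v + 2⁻¹ * τ z z * τ p v := ⟨_, rfl⟩
    have e : g ⬝ₘ v = l • p' + (-m) • p := by
      rw [hgx, ← hm, hz, smul_smul, mul_inv_cancel₀ hP, one_smul]
      module
    have h0 := C.iso g hg v v
    rw [hv, e] at h0
    simp only [tadd_left C, tadd_right C, tsmul_left C, tsmul_right C, hQp, hQp', tsymm C p' p, mul_zero, zero_add,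
      add_zero] at h0
    have hm0 : m = 0 := by
      have h3 : (2 : F) * (m * (l * τ p' p)) = 0 := by linear_combination -h0
      have h4 := (mul_eq_zero.mp h3).resolve_left C.h2
      exact (mul_eq_zero.mp h4).resolve_right (mul_ne_zero hl0 hP')
    rw [e, hm0, neg_zero, zero_smul, add_zero]
  have hgy : τ p' (l • g ⬝ₘ y) = 0 := by
    have h : τ (g ⬝ₘ v) (g ⬝ₘ y) = 0 := by rw [C.iso g hg]; exact hy
    rwa [hgv, tsmul_left C, ← tsmul_right C] at h
  rw [hp'] at hgy
  have h1 := par_smul C (par_centre C hU hww' hgy)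
  rw [← hp', ← hgv] at h1
  have h2 := par_conj C (inv_mem hg) h1
  rwa [gl_inv_mulVec_cancel, gl_inv_mulVec_cancel] at h2

end Cfsg.Agent.Classical.TensorMax.OO
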