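/-
Two factors with the same form: the group lies in the stabiliser of the unordered decomposition or contains all
Siegel elements.
-/
import Cfsg.Agent.Lib.Classical.TensorMax.OO.Pair
import Cfsg.Agent.Lib.Classical.TensorMax.OO.Chain

set_option autoImplicit false
set_option linter.unusedSectionVars false

namespace Cfsg.Agent.Classical.TensorMax.OO

open Matrix Module Cfsg.Geo
open Cfsg.Agent.Classical Cfsg.Agent.Classical.TensorMax Cfsg.Agent.Classical.TensorMax.Form
open scoped Kronecker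

variable {k : ℕ} {F : Type*} [Field F]

local notation "κ" => Fin k × Fin k
local notation:max g:max " ⬝ₘ " x:max =>
  ((g : GL (Fin k × Fin k) F) : Matrix (Fin k × Fin k) (Fin k × Fin k) F) *ᵥ x
local notation "Mat" => Matrix (Fin k × Fin k) (Fin k × Fin k) F

/-- The exchange of the factors. -/
def sw (k : ℕ) (F : Type*) [Field F] : GL (Fin k × Fin k) F where
  val := (1 : Matrix (Fin k × Fin k) (Fin k × Fin k) F).submatrix Prod.swap id
  inv := (1 : Matrix (Fin k × Fin k) (Fin k × Fin k) F).submatrix Prod.swap id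
  val_inv := by
    ext p q
    rw [Matrix.mul_apply, Finset.sum_eq_single p.swap (fun j _ hj => by simp [Ne.symm hj]) (by simp)]
    simp [Matrix.one_apply]
  inv_val := by
    ext p q
    rw [Matrix.mul_apply, Finset.sum_eq_single p.swap (fun j _ hj => by simp [Ne.symm hj]) (by simp)]
    simp [Matrix.one_apply]

theorem sw_mulVec (x : κ → F) : (sw k F) ⬝ₘ x = x ∘ Prod.swap := by
  funext p
  simp [sw, Matrix.mulVec, dotProduct, Matrix.one_apply]

theorem sw_mul_self : sw k F * sw k F = 1 :=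
  gl_ext_mulVec fun x => by
    rw [gl_mul_mulVec, sw_mulVec, sw_mulVec, Units.val_one, Matrix.one_mulVec, Function.comp_assoc, Prod.swap_swap_eq,
      Function.comp_id]

theorem sw_inv : (sw k F)⁻¹ = sw k F := inv_eq_of_mul_eq_one_left sw_mul_self

theorem sw_tm (a b : Fin k → F) : (sw k F) ⬝ₘ (tm a b) = tm b a := by
  rw [sw_mulVec]
  funext p
  simp [tm_apply, mul_comm]

theorem sw_kr (a b : GL (Fin k) F) : sw k F * kr a b * sw k F = kr b a := by
  refine gl_ext_mulVec fun x => ?_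
  conv_lhs => rw [sum_rows x]
  conv_rhs => rw [sum_rows x]
  rw [Matrix.mulVec_sum, Matrix.mulVec_sum]
  exact Finset.sum_congr rfl fun i _ => by rw [gl_mul_mulVec, gl_mul_mulVec, sw_tm, kr_tm, sw_tm, kr_tm]

theorem sw_tf {f : (Fin k → F) → (Fin k → F) → F} (x y : κ → F) :
    tf (RingEquiv.refl F) f f ((sw k F) ⬝ₘ x) ((sw k F) ⬝ₘ y) = tf (RingEquiv.refl F) f f x y := by
  simp only [sw_mulVec, tf, formOfGram]
  rw [← Equiv.sum_comp (Equiv.prodComm (Fin k) (Fin k))]
  refine Finset.sum_congr rfl fun i _ => ?_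
  rw [← Equiv.sum_comp (Equiv.prodComm (Fin k) (Fin k))]
  refine Finset.sum_congr rfl fun j _ => ?_
  simp only [Function.comp_apply, Equiv.prodComm_apply, Prod.swap_swap, Matrix.kroneckerMap_apply, Prod.fst_swap,
    Prod.snd_swap]
  rw [mul_comm (gramMatrix f i.2 j.2)]

theorem sw_kr_move {g : GL κ F} (hg : g ∈ Kr (Fin k) (Fin k) F) :
    sw k F * g * sw k F ∈ Kr (Fin k) (Fin k) F := by
  obtain ⟨a, b, rfl⟩ := hg
  exact ⟨b, a, sw_kr a b⟩

/-- The stabiliser of the unordered decomposition. -/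
def Krs (k : ℕ) (F : Type*) [Field F] : Subgroup (GL (Fin k × Fin k) F) where
  carrier := {g | g ∈ Kr (Fin k) (Fin k) F ∨ sw k F * g ∈ Kr (Fin k) (Fin k) F}
  one_mem' := Or.inl (one_mem _)
  mul_mem' := by
    rintro g h (hg | hg) (hh | hh)
    · exact Or.inl (mul_mem hg hh)
    · refine Or.inr ?_
      rw [show sw k F * (g * h) = sw k F * g * sw k F * (sw k F * h) by
        rw [mul_assoc _ (sw k F) (sw k F * h), ← mul_assoc (sw k F) (sw k F) h, sw_mul_self, one_mul, mul_assoc]]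
      exact mul_mem (sw_kr_move hg) hh
    · exact Or.inr (by rw [← mul_assoc]; exact mul_mem hg hh)
    · refine Or.inl ?_
      rw [show g * h = sw k F * (sw k F * g) * sw k F * (sw k F * h) by
        rw [mul_assoc _ (sw k F) (sw k F * h), ← mul_assoc (sw k F) (sw k F) h, ← mul_assoc (sw k F) (sw k F) g,
          sw_mul_self, one_mul, one_mul]]
      exact mul_mem (sw_kr_move hg) hh
  inv_mem' := by
    rintro g (hg | hg)
    · exact Or.inl (inv_mem hg)
    · refine Or.inr ?_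
      have h := sw_kr_move (inv_mem hg)
      rwa [_root_.mul_inv_rev, sw_inv, ← mul_assoc, mul_assoc _ (sw k F) (sw k F), sw_mul_self, mul_one] at h

theorem mem_krs {g : GL κ F} :
    g ∈ Krs k F ↔ g ∈ Kr (Fin k) (Fin k) F ∨ sw k F * g ∈ Kr (Fin k) (Fin k) F := Iff.rfl

theorem sq_mem_kr {g : GL κ F} (hg : g ∈ Krs k F) : g * g ∈ Kr (Fin k) (Fin k) F := by
  rcases hg with h | h
  · exact mul_mem h h
  · have := mul_mem (sw_kr_move h) h
    rwa [← mul_assoc (sw k F) (sw k F) g, sw_mul_self, one_mul, mul_assoc g, ← mul_assoc (sw k F), sw_mul_self,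
      one_mul] at this

variable [Fintype F] {f : (Fin k → F) → (Fin k → F) → F} {X : Subgroup (GL (Fin k × Fin k) F)} (C : Ctx f f X)

include C

/-- A root element acts on both factors. -/
theorem zt_not_left {u v : Fin k → F} (P : Pl f u v) {z : GL κ F} (hz : Zt f u v 1 z)
    (A : Matrix (Fin k) (Fin k) F) (h : (z : Mat) = A ⊗ₖ (1 : Matrix (Fin k) (Fin k) F)) : False := by
  obtain ⟨u', v', PF⟩ := exists_frame C.b C.h2 P
  obtain ⟨a, ha⟩ : ∃ a : Fin k → F, a ≠ 0 :=
    ⟨Pi.single ⟨0, by have := C.da; omega⟩ 1, Pi.single_ne_zero_iff.mpr one_ne_zero⟩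
  obtain ⟨hu, -⟩ := zt_frame_img C PF hz a
  have e : z ⬝ₘ (tm a u') = tm (A *ᵥ a) u' := by
    funext p
    rw [h, tm_apply, Matrix.mulVec, dotProduct, Fintype.sum_prod_type]
    simp only [kroneckerMap_apply, tm_apply, Matrix.one_apply, Matrix.mulVec, dotProduct, Finset.sum_mul]
    exact Finset.sum_congr rfl fun i _ => by simp [Finset.sum_ite_eq, mul_assoc]
  have h' := congrArg (ctr f v') (e.symm.trans hu)
  rw [C.cadd, C.ctm, C.ctm, C.ctm, PF.u'v', symm' C.b v' v, PF.v'v, zero_smul, zero_smul, one_smul, zero_add] at h'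
  exact ha h'.symm

/-- The group seen after exchanging the factors. -/
theorem swapped : Ctx f f (X.comap (MulAut.conj (sw k F)).toMonoidHom) where
  a := C.a
  b := C.b
  h2 := C.h2
  da := C.da
  db := C.db
  hex := C.hex
  four := C.four
  iso := fun g hg x y => by
    have h := C.iso _ hg ((sw k F) ⬝ₘ x) ((sw k F) ⬝ₘ y)
    simp only [MulEquiv.coe_toMonoidHom, MulAut.conj_apply, gl_mul_mulVec, sw_inv] at h
    rwa [← gl_mul_mulVec (sw k F) (sw k F) x, ← gl_mul_mulVec (sw k F) (sw k F) y, sw_mul_self, Units.val_one,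
      Matrix.one_mulVec, Matrix.one_mulVec, sw_tf, sw_tf] at h
  small := fun s t hs ht => by
    show sw k F * kr s t * (sw k F)⁻¹ ∈ X
    rw [sw_inv, sw_kr]
    exact C.small t s ht hs

theorem mv_krs (hU : NoU f X) (hU' : NoU f (X.comap (MulAut.conj (sw k F)).toMonoidHom)) :
    Mv f X (Krs k F) := by
  refine ⟨fun g hg u v z P hz hmem => ?_, fun g hg hgN u v z P hz hzg => ?_, fun g _ hgN n hn hgn => ?_⟩
  · rcases root_of_conj C (C.iso g hg) P hz hmem with ⟨p, q, Ppq, hy⟩ | ⟨-, A, hA⟩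
    · exact Or.inl (moves_core C hU (C.iso g hg)
        (fun s t hs ht => mul_mem (mul_mem hg (C.small s t hs ht)) (inv_mem hg)) P hz Ppq hy)
    obtain ⟨g', hg'⟩ : ∃ g', g' = sw k F * g := ⟨_, rfl⟩
    have hgi' : ∀ x y, tf (RingEquiv.refl F) f f (g' ⬝ₘ x) (g' ⬝ₘ y) = tf (RingEquiv.refl F) f f x y :=
      fun x y => by rw [hg', gl_mul_mulVec, gl_mul_mulVec, sw_tf, C.iso g hg]
    have hcz : g' * z * g'⁻¹ = sw k F * (g * z * g⁻¹) * sw k F := by
      rw [hg', _root_.mul_inv_rev, sw_inv]; simp only [mul_assoc]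
    rcases root_of_conj (swapped C) hgi' P hz (hcz ▸ sw_kr_move hmem) with ⟨p, q, Ppq, hy⟩ | ⟨-, B, hB⟩
    · refine Or.inr (hg' ▸ moves_core (swapped C) hU' hgi' (fun s t hs ht => ?_) P hz Ppq hy)
      show sw k F * (g' * kr s t * g'⁻¹) * (sw k F)⁻¹ ∈ X
      rw [hg', _root_.mul_inv_rev, sw_inv, show sw k F * (sw k F * g * kr s t * (g⁻¹ * sw k F)) * sw k F =
        sw k F * sw k F * (g * kr s t * g⁻¹) * (sw k F * sw k F) by simp only [mul_assoc], sw_mul_self, one_mul, mul_one]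
      exact mul_mem (mul_mem hg (C.small s t hs ht)) (inv_mem hg)
    exfalso
    obtain ⟨y, hy⟩ : ∃ y, y = g * z * g⁻¹ := ⟨_, rfl⟩
    rw [hcz, ← hy] at hB
    rw [← hy] at hA
    have hval : ∀ a b, A a b = if a = b then A ⟨0, by have := C.da; omega⟩ ⟨0, by have := C.da; omega⟩ else 0 := by
      have e : ∀ p q : κ, (y : Mat) p q = B p.2 q.2 * (1 : Matrix (Fin k) (Fin k) F) p.1 q.1 := fun p q => by
        have h := congrFun (congrFun hB p.swap) q.swap
        rw [Units.val_mul, Units.val_mul, kroneckerMap_apply] at h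
        simpa [sw, Matrix.mul_apply, Matrix.one_apply] using h
      intro a b
      obtain ⟨o, ho⟩ : ∃ o : Fin k, o = ⟨0, by have := C.da; omega⟩ := ⟨_, rfl⟩
      rw [← ho]
      have h1 := e (a, o) (b, o)
      have h2 := e (o, o) (o, o)
      rw [hA, kroneckerMap_apply] at h1 h2
      simp only [Matrix.one_apply_eq, mul_one] at h1 h2
      rw [h1, h2, Matrix.one_apply, mul_ite, mul_one, mul_zero]
    obtain ⟨c, hc⟩ : ∃ c : F, A = c • 1 := ⟨_, Matrix.ext fun a b => by
      rw [hval, Matrix.smul_apply, Matrix.one_apply, smul_eq_mul, mul_ite, mul_one, mul_zero]⟩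
    have hy1 : (y : Mat) = c • 1 := by rw [hA, hc, smul_kronecker, one_kronecker_one]
    refine zt_not_left C P hz (c • 1) ?_
    rw [show z = g⁻¹ * y * g by rw [hy]; group, Units.val_mul, Units.val_mul, hy1, Matrix.mul_smul, Matrix.mul_one,
      Matrix.smul_mul, Units.inv_mul, smul_kronecker, one_kronecker_one]
  · rcases hgN with h | h
    · exact h
    exfalso
    obtain ⟨t, -, hzt⟩ := C.exists_zt (n₁ := k) P 1
    obtain ⟨a, b, hab⟩ := h
    rw [zt_unique hz hzt] at hzg
    have hg' : g = sw k F * kr a b := by rw [← hab, ← mul_assoc, sw_mul_self, one_mul]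
    rw [hg', _root_.mul_inv_rev, sw_inv, kr_inv, show sw k F * kr a b * kr 1 t * (kr a⁻¹ b⁻¹ * sw k F) =
      sw k F * (kr a b * kr 1 t * kr a⁻¹ b⁻¹) * sw k F by simp only [mul_assoc], kr_mul, kr_mul, sw_kr, mul_one,
      mul_inv_cancel] at hzg
    refine zt_not_left C P hzt ((b * t * b⁻¹ : GL (Fin k) F) : Matrix (Fin k) (Fin k) F) ?_
    rw [← hzg, kr_val, Units.val_one]
  · obtain ⟨j, rfl⟩ := hn
    have h2 := pow_mem (sq_mem_kr hgN) j
    have e : g = ((g * g) ^ j)⁻¹ := eq_inv_of_mul_eq_one_right (by rw [← pow_two, ← pow_mul, ← pow_succ, hgn])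
    rw [e]
    exact inv_mem h2

/-- The dichotomy for equal factors. -/
theorem le_krs_or_par :
    X ≤ Krs k F ∨ ∀ v y, tf (RingEquiv.refl F) f f v v = 0 → tf (RingEquiv.refl F) f f v y = 0 → Par f f X v y := by
  by_cases hU : NoU f X
  swap
  · exact Or.inr fun v y => par_all C hU
  by_cases hU' : NoU f (X.comap (MulAut.conj (sw k F)).toMonoidHom)
  · exact Or.inl (le_of_mv C (mv_krs C hU hU') hU)
  refine Or.inr fun v y hv hy => ?_
  obtain ⟨g, hg, hgx⟩ := par_all (swapped C) hU' (v := (sw k F) ⬝ₘ v) (y := (sw k F) ⬝ₘ y)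
    (by rw [sw_tf, hv]) (by rw [sw_tf, hy])
  refine ⟨sw k F * g * (sw k F)⁻¹, hg, fun x => ?_⟩
  have hss : ∀ w, (sw k F) ⬝ₘ ((sw k F) ⬝ₘ w) = w := fun w => by
    rw [← gl_mul_mulVec, sw_mul_self, Units.val_one, Matrix.one_mulVec]
  rw [sw_inv, gl_mul_mulVec, gl_mul_mulVec, hgx, Matrix.mulVec_sub, Matrix.mulVec_add, Matrix.mulVec_smul,
    Matrix.mulVec_smul, hss, hss, hss, sw_tf, sw_tf, sw_tf]

end Cfsg.Agent.Classical.TensorMax.OO
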