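/-
Maximality of the stabiliser of a product of two symmetric spaces in the orthogonal group, odd characteristic.
-/
import Cfsg.Agent.Lib.Classical.TensorMax.OO.Chain
import Cfsg.Agent.Lib.Classical.RadicalQuad
import Cfsg.Agent.Lib.Classical.OrthTwelveTensor

set_option autoImplicit false
set_option linter.unusedSectionVars false

namespace Cfsg.Agent.Classical.TensorMax.OO

open Matrix Module Cfsg.Geo
open Cfsg.Agent.Classical Cfsg.Agent.Classical.TensorMax.Form
open scoped Kronecker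

variable {ι : Type} [Fintype ι] [DecidableEq ι] {F : Type*} [Field F] [Fintype F] {n₁ n₂ : ℕ}
variable {fa : (Fin n₁ → F) → (Fin n₁ → F) → F} {fb : (Fin n₂ → F) → (Fin n₂ → F) → F}

local notation "κ" => Fin n₁ × Fin n₂
local notation:max g:max " ⬝ₘ " x:max =>
  ((g : GL (Fin n₁ × Fin n₂) F) : Matrix (Fin n₁ × Fin n₂) (Fin n₁ × Fin n₂) F) *ᵥ x

/-- An element of odd order of the isometry group lies in its commutator subgroup. -/
theorem mem_omega_of_pow {Qf : QuadraticForm F (ι → F)} (h2 : (2 : F) ≠ 0) (hP : OCount.PND Qf)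
    (hn : 2 ≤ Fintype.card ι) {g : GL ι F} (hg : ∀ x, Qf ((g : Matrix ι ι F) *ᵥ x) = Qf x) {p : ℕ}
    (hp : Odd p) (hgp : g ^ p = 1) : g ∈ omegaGL ⇑Qf := by
  have hm : g ∈ Cfsg.isometryGroup F ⇑Qf := fun x _ => hg x
  refine ⟨⟨g, hm⟩, ?_, rfl⟩
  have h4 : (⟨g, hm⟩ : Cfsg.isometryGroup F ⇑Qf) ^ 4 ∈ Cfsg.Omega F ⇑Qf := by
    have := Subgroup.pow_index_mem (Cfsg.Omega F ⇑Qf) (⟨g, hm⟩ : Cfsg.isometryGroup F ⇑Qf)
    rwa [OOmega.index_omega_odd h2 hP hn] at this
  obtain ⟨a, b, hab⟩ : ∃ a b : ℤ, (4 : ℤ) * a + (p : ℤ) * b = 1 := by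
    obtain ⟨k, rfl⟩ := hp
    rcases Nat.even_or_odd k with ⟨j, rfl⟩ | ⟨j, rfl⟩
    · exact ⟨-(j : ℤ), 1, by push_cast; ring⟩
    · exact ⟨(j : ℤ) + 1, -1, by push_cast; ring⟩
  have hgp' : (⟨g, hm⟩ : Cfsg.isometryGroup F ⇑Qf) ^ p = 1 := Subtype.ext (by simpa using hgp)
  rw [SetLike.mem_coe, show (⟨g, hm⟩ : Cfsg.isometryGroup F ⇑Qf) = (⟨g, hm⟩ : Cfsg.isometryGroup F ⇑Qf) ^
    ((4 : ℤ) * a + (p : ℤ) * b) by rw [hab, zpow_one], _root_.zpow_add, _root_.zpow_mul, _root_.zpow_mul, zpow_natCast, hgp', _root_.one_zpow,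
    mul_one]
  exact Subgroup.zpow_mem _ (by exact_mod_cast h4) a

/-- The powers of a Siegel element. -/
theorem sg_pow {k : ℕ} {f : (Fin k → F) → (Fin k → F) → F} (H : IsReflexForm (RingEquiv.refl F) 1 f)
    (h2 : (2 : F) ≠ 0) {o w : Fin k → F} (ho : f o o = 0) (hw : f w o = 0) {t : GL (Fin k) F} (ht : Sg f o w t)
    (m : ℕ) : Sg f o ((m : F) • w) (t ^ m) := by
  induction m with
  | zero => intro x; simp [rzero H, lzero H]
  | succ m ih =>
    intro x
    rw [pow_succ, gl_mul_mulVec, ih, ht x]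
    simp only [ladd H, lsub H, lsmul H, rsmul H, ho, hw, symm' H w o, Nat.cast_succ, radd H]
    match_scalars <;> field_simp <;> ring

/-- A symmetric space of dimension at most four without totally isotropic planes. -/
theorem no_plane {k : ℕ} {f : (Fin k → F) → (Fin k → F) → F} (H : IsReflexForm (RingEquiv.refl F) 1 f)
    (h : k ≤ 3 ∨ k = 4 ∧ ¬ IsPlusTypeOn (fun v : Fin k → F => f v v) ⊤) : ∀ u v, ¬ Pl f u v := by
  classical
  intro u v P
  obtain ⟨W, hW⟩ : ∃ W, W = Submodule.span F (({u, v} : Finset (Fin k → F)) : Set (Fin k → F)) := ⟨_, rfl⟩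
  have hW2 : finrank F W = 2 := by
    have hli : LinearIndependent F ![u, v] := LinearIndependent.pair_iff.mpr P.indep
    rw [hW, Finset.coe_insert, Finset.coe_singleton, ← Matrix.range_cons_cons_empty u v ![],
      finrank_span_eq_card hli, Fintype.card_fin]
  have hmem : ∀ x ∈ W, ∃ r s : F, x = r • u + s • v := fun x hx => by
    rw [hW, Finset.coe_insert, Finset.coe_singleton, Submodule.mem_span_pair] at hx
    obtain ⟨r, s, e⟩ := hx
    exact ⟨r, s, e.symm⟩
  have hiso : ∀ x ∈ W, ∀ y ∈ W, f x y = 0 := fun x hx y hy => by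
    obtain ⟨r, s, rfl⟩ := hmem x hx
    obtain ⟨r', s', rfl⟩ := hmem y hy
    simp only [ladd H, radd H, lsmul H, rsmul H, P.uu, P.uv, P.vv, (P.swap H).uv, mul_zero, add_zero]
  have h1 := H.finrank_perp W
  have hle : W ≤ H.perp W := fun x hx y hy => hiso x hx y hy
  have h2 := Submodule.finrank_mono hle
  rw [Fintype.card_fin] at h1
  rcases h with h | ⟨rfl, h⟩
  · omega
  · exact h ⟨W, le_top, fun x hx => hiso x hx x hx, by rw [hW2, finrank_top, Module.finrank_fin_fun]⟩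

/-- Maximality of the stabiliser given the dichotomy between it and the parameters of all Siegel elements. -/
theorem isMaximalIn_gen (h2 : (2 : F) ≠ 0) (Q : (ι → F) → F) (hQ : IsNondegenerateQuadraticForm Q)
    (e : ι ≃ κ) (P : GL ι F) (hA : IsSymmetricForm fa) (hB : IsSymmetricForm fb)
    (hT : IsTensorFormStructure id (QuadraticMap.polar Q) fa fb e P) (da : 3 ≤ n₁) (db : 5 ≤ n₂)
    (hex : (∃ t : F, t ≠ 0 ∧ t ^ 2 ≠ 1) ∨ 4 ≤ n₁) (four : n₁ ≤ 4 → ∀ u v, ¬ Pl fa u v)
    (H₀ : Subgroup (GL ι F)) (N : Subgroup (GL κ F))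
    (hN : ∀ g, ((glReindex (F := F) e.symm).trans (MulAut.conj P)) g ∈ H₀ ↔ g ∈ N)
    (hNK : Kr (Fin n₁) (Fin n₂) F ≤ N) (hprop : ¬ omegaGL Q ≤ H₀)
    (hcases : ∀ X : Subgroup (GL κ F), Ctx fa fb X → X ≤ N ∨
      ∀ v y, tf (RingEquiv.refl F) fa fb v v = 0 → tf (RingEquiv.refl F) fa fb v y = 0 → Par fa fb X v y) :
    IsMaximalIn (omegaGL Q) (H₀ ⊓ omegaGL Q) := by
  classical
  obtain ⟨Qf, rfl, hPND⟩ := ONotMax.exists_qform hQ
  have A := reflexForm_of_symmetric hA
  have B := reflexForm_of_symmetric hB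
  have D : Data (RingEquiv.refl F) 1 1 fa fb := ⟨A, B⟩
  have hcard : Fintype.card ι = n₁ * n₂ := by simpa using Fintype.card_congr e
  have h15 : 15 ≤ Fintype.card ι := hcard ▸ Nat.mul_le_mul da db
  obtain ⟨c, hc, hT⟩ := hT
  let T : (κ → F) →ₗ[F] (ι → F) :=
    (P : Matrix ι ι F).mulVecLin ∘ₗ LinearMap.funLeft F F (e : ι → κ)
  have hTapp : ∀ x, T x = (P : Matrix ι ι F) *ᵥ (x ∘ e) := fun x => rfl
  have hTh : ∀ x y, QuadraticMap.polar (⇑Qf) (T x) (T y) = c * tf (RingEquiv.refl F) fa fb x y := fun x y => hT x y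
  have hTsurj : ∀ v, ∃ x, T x = v := fun v =>
    ⟨(((P⁻¹ : GL ι F) : Matrix ι ι F) *ᵥ v) ∘ e.symm, by
      rw [hTapp]
      simp only [Function.comp_assoc, Equiv.symm_comp_self, Function.comp_id, gl_mulVec_inv_cancel]⟩
  have hTinj : ∀ {x y}, T x = T y → x = y := fun {x y} h => by
    rw [hTapp, hTapp] at h
    exact e.surjective.injective_comp_right (gl_mulVec_injective P h)
  have hQT : ∀ x, Qf (T x) = c * (2⁻¹ * tf (RingEquiv.refl F) fa fb x x) := fun x => by
    have h := hTh x x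
    rw [QuadraticMap.polar_self, nsmul_eq_mul, Nat.cast_ofNat] at h
    field_simp
    linear_combination h
  let φ : GL κ F ≃* GL ι F := (glReindex (F := F) e.symm).trans (MulAut.conj P)
  have hφ : ∀ g x, ((φ g : GL ι F) : Matrix ι ι F) *ᵥ T x = T (g ⬝ₘ x) := fun g x => by
    have hre : ((glReindex (F := F) e.symm g : GL ι F) : Matrix ι ι F) =
        (g : Matrix κ κ F).submatrix e e := rfl
    simp only [hTapp, φ, MulEquiv.trans_apply, MulAut.conj_apply, gl_mul_mulVec, gl_inv_mulVec_cancel]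
    rw [hre, Matrix.submatrix_mulVec_equiv, Function.comp_assoc, Equiv.self_comp_symm, Function.comp_id]
  have hkr : ∀ g, φ g ∈ H₀ ↔ g ∈ N := hN
  refine ⟨lt_of_le_of_ne inf_le_right fun hEq => ?_, fun M hM hMS => ?_⟩
  · exact hprop (hEq.symm.le.trans inf_le_left)
  obtain ⟨X, hXdef⟩ : ∃ X, X = M.comap φ.toMonoidHom := ⟨_, rfl⟩
  have hX : ∀ g, g ∈ X ↔ φ g ∈ M := fun g => by rw [hXdef]; rfl
  obtain ⟨p, hp⟩ := CharP.exists F
  haveI : Fact p.Prime := ⟨CharP.char_is_prime F p⟩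
  have hodd : Odd p := (Fact.out : p.Prime).odd_of_ne_two fun h => h2 (by
    subst h
    exact_mod_cast CharP.cast_eq_zero F 2)
  -- products of pairs generated by Siegel elements
  let K : Subgroup (GL κ F) := (H₀ ⊓ omegaGL ⇑Qf).comap φ.toMonoidHom
  have hin : ∀ (s : GL (Fin n₁) F) (t : GL (Fin n₂) F),
      (∀ a b, fa ((s : Matrix (Fin n₁) (Fin n₁) F) *ᵥ a) ((s : Matrix (Fin n₁) (Fin n₁) F) *ᵥ b) = fa a b) →
      (∀ a b, fb ((t : Matrix (Fin n₂) (Fin n₂) F) *ᵥ a) ((t : Matrix (Fin n₂) (Fin n₂) F) *ᵥ b) = fb a b) →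
      s ^ p = 1 → t ^ p = 1 → kr s t ∈ K := by
    intro s t hs ht hsp htp
    refine ⟨(hkr _).2 (hNK ⟨s, t, rfl⟩), mem_omega_of_pow h2 hPND (by omega) (fun v => ?_) hodd ?_⟩
    · obtain ⟨x, rfl⟩ := hTsurj v
      change Qf (((φ (kr s t) : GL ι F) : Matrix ι ι F) *ᵥ T x) = Qf (T x)
      rw [hφ, hQT, hQT]
      congr 2
      have key : ∀ y z, tf (RingEquiv.refl F) fa fb ((kr s t) ⬝ₘ y) ((kr s t) ⬝ₘ z) =
          tf (RingEquiv.refl F) fa fb y z := by
        intro y z
        have hR : ∀ (v : κ → F) (w : Fin n₁ → κ → F), tf (RingEquiv.refl F) fa fb v (∑ i, w i) =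
            ∑ i, tf (RingEquiv.refl F) fa fb v (w i) := fun v w =>
          map_sum (AddMonoidHom.mk' (fun z => tf (RingEquiv.refl F) fa fb v z) ((tf_semi D).add_right v)) w Finset.univ
        conv_rhs => rw [sum_rows y, sum_rows z]
        conv_lhs => rw [sum_rows y, sum_rows z]
        simp only [Matrix.mulVec_sum, (reflex D).sum_left, hR, kr_tm, tf_tm D, hs, ht]
      exact key x x
    · change (φ (kr s t)) ^ p = 1
      have hpw : ∀ m : ℕ, (kr s t) ^ m = kr (s ^ m) (t ^ m) := fun m => by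
        induction m with
        | zero => simp only [pow_zero, kr_one]
        | succ m ih => rw [pow_succ, ih, kr_mul, pow_succ, pow_succ]
      rw [← map_pow, hpw, hsp, htp, kr_one, map_one]
  have gen_pow : ∀ {k : ℕ} {f : (Fin k → F) → (Fin k → F) → F}, IsReflexForm (RingEquiv.refl F) 1 f →
      ∀ σ ∈ {t : GL (Fin k) F | ∃ o w, f o o = 0 ∧ f w o = 0 ∧ Sg f o w t}, σ ^ p = 1 := by
    rintro k f H σ ⟨o, w, ho, hw, ht⟩
    refine gl_ext_mulVec fun x => ?_
    rw [sg_pow H h2 ho hw ht p, CharP.cast_eq_zero F p, zero_smul, Units.val_one, Matrix.one_mulVec]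
    simp [lzero H, rzero H]
  have left : ∀ s ∈ SGen fa, kr s (1 : GL (Fin n₂) F) ∈ K := fun s hs => by
    induction hs using Subgroup.closure_induction with
    | mem s hs =>
      obtain ⟨o, w, ho, hw, ht⟩ := id hs
      exact hin s 1 (sg_iso A h2 ho hw ht) (fun a b => by rw [Units.val_one, Matrix.one_mulVec, Matrix.one_mulVec])
        (gen_pow A s hs) (one_pow p)
    | one => rw [kr_one]; exact one_mem K
    | mul x y _ _ hx hy =>
      rw [← one_mul (1 : GL (Fin n₂) F), ← kr_mul]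
      exact mul_mem hx hy
    | inv x _ hx =>
      rw [← inv_one (G := GL (Fin n₂) F), ← kr_inv]
      exact inv_mem hx
  have right : ∀ t ∈ SGen fb, kr (1 : GL (Fin n₁) F) t ∈ K := fun t ht => by
    induction ht using Subgroup.closure_induction with
    | mem t ht =>
      obtain ⟨o, w, ho, hw, ht'⟩ := id ht
      exact hin 1 t (fun a b => by rw [Units.val_one, Matrix.one_mulVec, Matrix.one_mulVec]) (sg_iso B h2 ho hw ht')
        (one_pow p) (gen_pow B t ht)
    | one => rw [kr_one]; exact one_mem K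
    | mul x y _ _ hx hy =>
      rw [← one_mul (1 : GL (Fin n₁) F), ← kr_mul]
      exact mul_mem hx hy
    | inv x _ hx =>
      rw [← inv_one (G := GL (Fin n₁) F), ← kr_inv]
      exact inv_mem hx
  have hiso : ∀ g ∈ X, ∀ x y, tf (RingEquiv.refl F) fa fb (g ⬝ₘ x) (g ⬝ₘ y) = tf (RingEquiv.refl F) fa fb x y := by
    intro g hg x y
    refine mul_left_cancel₀ hc ?_
    rw [← hTh, ← hTh, ← hφ, ← hφ, Radical.omega_polar (hMS ((hX g).1 hg))]
  have C : Ctx fa fb X :=
    { a := A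
      b := B
      h2 := h2
      da := da
      db := db
      hex := hex
      four := four
      iso := hiso
      small := fun s t hs ht => (hX _).2 (hM (by
        have h := mul_mem (left s hs) (right t ht)
        rw [kr_mul, mul_one, one_mul] at h
        exact h)) }
  rcases hcases X C with h | h
  · refine Or.inl (le_antisymm (fun g hg => ?_) hM)
    obtain ⟨g', rfl⟩ := φ.surjective g
    exact ⟨(hkr g').2 (h ((hX g').2 hg)), hMS hg⟩
  rename' h => hpar
  refine Or.inr (le_antisymm hMS (Radical.omega_le_of_siegel hPND (by omega) fun v hv hv0 h hh => ?_))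
  obtain ⟨y, hy, hhx⟩ := hh
  obtain ⟨v', rfl⟩ := hTsurj v
  obtain ⟨y', rfl⟩ := hTsurj y
  rw [hQT] at hv
  rw [hTh] at hy
  obtain ⟨g, hg, hgx⟩ := hpar v' (c • y')
    ((mul_eq_zero.mp ((mul_eq_zero.mp hv).resolve_left hc)).resolve_left (inv_ne_zero h2))
    (by rw [tsmul_right C, (mul_eq_zero.mp hy).resolve_left hc, mul_zero])
  rw [show h = φ g from gl_ext_mulVec fun x => by
    obtain ⟨z, rfl⟩ := hTsurj x
    rw [hhx, hφ, hgx]
    simp only [map_sub, map_add, LinearMap.map_smul, hTh, hQT, tsmul_left C, tsmul_right C]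
    module]
  exact (hX g).1 hg

/-- The stabiliser is maximal in Ω. -/
theorem isMaximalIn_omega (h2 : (2 : F) ≠ 0) (Q : (ι → F) → F) (hQ : IsNondegenerateQuadraticForm Q)
    (e : ι ≃ κ) (P : GL ι F) (hA : IsSymmetricForm fa) (hB : IsSymmetricForm fb)
    (hT : IsTensorFormStructure id (QuadraticMap.polar Q) fa fb e P) (da : 3 ≤ n₁) (db : 5 ≤ n₂) (ndvd : ¬ n₂ ∣ n₁)
    (hex : (∃ t : F, t ≠ 0 ∧ t ^ 2 ≠ 1) ∨ 4 ≤ n₁) (four : n₁ ≤ 4 → ∀ u v, ¬ Pl fa u v) :
    IsMaximalIn (omegaGL Q) (tensorProductSubgroup n₁ n₂ e P ⊓ omegaGL Q) := by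
  classical
  refine isMaximalIn_gen h2 Q hQ e P hA hB hT da db hex four _ (Kr (Fin n₁) (Fin n₂) F) (fun g => ?_) le_rfl ?_
    fun X C => ?_
  · constructor
    · rintro ⟨y, ⟨x, ⟨a, b, hab⟩, rfl⟩, hy⟩
      have : ((glReindex (F := F) e.symm).trans (MulAut.conj P)) x = ((glReindex (F := F) e.symm).trans (MulAut.conj P)) g := hy
      rw [← ((glReindex (F := F) e.symm).trans (MulAut.conj P)).injective this]
      exact ⟨a, b, Units.ext hab⟩
    · rintro ⟨a, b, rfl⟩
      exact ⟨_, ⟨_, ⟨a, b, rfl⟩, rfl⟩, rfl⟩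
  · obtain ⟨Qf, rfl, hPND⟩ := ONotMax.exists_qform hQ
    have hcard : Fintype.card ι = n₁ * n₂ := by simpa using Fintype.card_congr e
    have h15 : 15 ≤ Fintype.card ι := hcard ▸ Nat.mul_le_mul da db
    exact OEven.omega_not_tensor hPND (by omega) (by omega) (by omega) e P
  · by_cases hU : NoU fb X
    · exact Or.inl (le_kr C ndvd hU)
    · exact Or.inr fun v y => par_all C hU

/-- Exchanging the factors of the structure. -/
theorem structure_swap {f : (ι → F) → (ι → F) → F} {e : ι ≃ κ} {P : GL ι F}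
    (hT : IsTensorFormStructure id f fa fb e P) :
    IsTensorFormStructure id f fb fa (e.trans (Equiv.prodComm _ _)) P := by
  obtain ⟨c, hc, h⟩ := hT
  refine ⟨c, hc, fun x y => ?_⟩
  have := h (x ∘ Equiv.prodComm _ _) (y ∘ Equiv.prodComm _ _)
  rw [Function.comp_assoc, Function.comp_assoc] at this
  refine this.trans ?_
  congr 1
  simp only [formOfGram]
  rw [← Equiv.sum_comp (Equiv.prodComm (Fin n₂) (Fin n₁))]
  refine Finset.sum_congr rfl fun i _ => ?_
  rw [← Equiv.sum_comp (Equiv.prodComm (Fin n₂) (Fin n₁))]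
  refine Finset.sum_congr rfl fun j _ => ?_
  simp only [Function.comp_apply, Equiv.prodComm_apply, Prod.swap_swap, Matrix.kroneckerMap_apply, Prod.fst_swap,
    Prod.snd_swap, id_eq]
  ring

/-- Exchanging the factors of the stabiliser. -/
theorem product_swap (e : ι ≃ κ) (P : GL ι F) :
    tensorProductSubgroup n₂ n₁ (e.trans (Equiv.prodComm _ _)) P = tensorProductSubgroup n₁ n₂ e P := by
  refine congrArg (fun H : Subgroup (GL ι F) => H.map (MulAut.conj P).toMonoidHom) ?_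
  ext g
  constructor
  · rintro ⟨x, ⟨a, b, hab⟩, rfl⟩
    refine ⟨kr b a, ⟨b, a, rfl⟩, Units.ext ?_⟩
    change ((kr b a : GL κ F) : Matrix κ κ F).submatrix e e =
      (x : Matrix (Fin n₂ × Fin n₁) (Fin n₂ × Fin n₁) F).submatrix (e.trans (Equiv.prodComm _ _))
        (e.trans (Equiv.prodComm _ _))
    ext i j
    simp [hab, kr_val, mul_comm]
  · rintro ⟨x, ⟨a, b, hab⟩, rfl⟩
    refine ⟨kr b a, ⟨b, a, rfl⟩, Units.ext ?_⟩
    change ((kr b a : GL (Fin n₂ × Fin n₁) F) : Matrix _ _ F).submatrix (e.trans (Equiv.prodComm _ _))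
      (e.trans (Equiv.prodComm _ _)) = (x : Matrix κ κ F).submatrix e e
    ext i j
    simp [hab, kr_val, mul_comm]

/-- Outside the field of three elements some unit has square different from one. -/
theorem exists_sq_ne (hodd : Odd (Fintype.card F)) (h3 : Fintype.card F ≠ 3) : ∃ t : F, t ≠ 0 ∧ t ^ 2 ≠ 1 := by
  classical
  by_contra hcon
  push Not at hcon
  have hsub : (Finset.univ : Finset F) ⊆ {0, 1, -1} := fun a _ => by
    by_cases ha : a = 0
    · simp [ha]
    · rcases sq_eq_one_iff.mp (hcon a ha) with h | h <;> simp [h]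
  have h1 := (Finset.card_le_card hsub).trans Finset.card_le_three
  rw [Finset.card_univ] at h1
  have h4 : 2 ≤ Fintype.card F := Fintype.one_lt_card
  obtain ⟨k, hk⟩ := hodd
  omega

end Cfsg.Agent.Classical.TensorMax.OO
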