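/-
The stabiliser of the tensor square of a symmetric space of dimension at least five is maximal in Ω.
-/
import Cfsg.Agent.Lib.Classical.TensorMax.OO.Equal
import Cfsg.Agent.Lib.Classical.TensorMax.OO.Final
import Cfsg.Agent.Lib.Classical.OTPow.Final

set_option autoImplicit false
set_option linter.unusedSectionVars false

namespace Cfsg.Agent.Classical.TensorMax.OO

open Matrix Module Cfsg.Geo
open Cfsg.Agent.Classical Cfsg.Agent.Classical.TensorMax Cfsg.Agent.Classical.TensorMax.Form
open scoped Kronecker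

variable {k : ℕ} {F : Type*} [Field F] [Fintype F]

local notation "κ" => Fin k × Fin k

/-- The bijection between pairs and functions on two slots. -/
def pairFun (k : ℕ) : Fin k × Fin k ≃ (Fin 2 → Fin k) := (finTwoArrowEquiv (Fin k)).symm

theorem pairFun_symm (x : Fin 2 → Fin k) : (pairFun k).symm x = (x 0, x 1) := by
  simp [pairFun]

theorem glReindex_kr (a b : GL (Fin k) F) :
    glReindex (F := F) (pairFun k) (kr a b) = OTPow.pureG ![a, b] := by
  refine Units.ext (Matrix.ext fun x y => ?_)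
  show (kr a b : GL κ F).val ((pairFun k).symm x) ((pairFun k).symm y) = _
  rw [pairFun_symm, pairFun_symm, kr_val, kroneckerMap_apply, OTPow.pureG_val, OTPow.pureS_apply, Fin.prod_univ_two]
  rfl

theorem glReindex_sw : glReindex (F := F) (pairFun k) (sw k F) = OTPow.permG k F (Equiv.swap (0 : Fin 2) 1) := by
  refine Units.ext (Matrix.ext fun x y => ?_)
  show (sw k F : GL κ F).val ((pairFun k).symm x) ((pairFun k).symm y) = _
  rw [pairFun_symm, pairFun_symm, OTPow.permG_val]
  simp only [sw, OTPow.permS, Matrix.submatrix_apply, Matrix.of_apply, Matrix.one_apply, Prod.swap_prod_mk, id_eq,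
    Prod.mk.injEq]
  refine if_congr ⟨fun h => funext fun j => ?_, fun h => ?_⟩ rfl rfl
  · fin_cases j <;> simp [h.1, h.2]
  · rw [h]; simp

theorem std_two (g : GL κ F) : glReindex (F := F) (pairFun k) g ∈ OTPow.Std F k (Fin 2) ↔ g ∈ Krs k F := by
  have hkr : ∀ A : Fin 2 → GL (Fin k) F, glReindex (F := F) (pairFun k) (kr (A 0) (A 1)) = OTPow.pureG A := fun A => by
    rw [glReindex_kr]
    congr 1
    funext j
    fin_cases j <;> rfl
  constructor
  · rintro ⟨A, π, h⟩
    rcases ((show ∀ π : Equiv.Perm (Fin 2), π = 1 ∨ π = Equiv.swap 0 1 by decide) π) with rfl | rfl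
    · rw [map_one, mul_one, ← hkr] at h
      exact Or.inl ⟨_, _, (glReindex (F := F) (pairFun k)).injective h⟩
    · rw [← hkr, ← glReindex_sw, ← map_mul] at h
      refine Or.inr ?_
      rw [(glReindex (F := F) (pairFun k)).injective h, ← mul_assoc, sw_kr]
      exact ⟨_, _, rfl⟩
  · rintro (⟨a, b, rfl⟩ | ⟨a, b, h⟩)
    · rw [glReindex_kr]; exact OTPow.pureG_mem _
    · rw [show g = sw k F * kr a b by rw [← h, ← mul_assoc, sw_mul_self, one_mul], map_mul, glReindex_sw,
        glReindex_kr]
      exact mul_mem (OTPow.permG_mem _) (OTPow.pureG_mem _)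

variable {ι : Type} [Fintype ι] [DecidableEq ι]

/-- The stabiliser of a tensor square is maximal in Ω. -/
theorem isMaximalIn_square (h2 : (2 : F) ≠ 0) (Q : (ι → F) → F) (hQ : IsNondegenerateQuadraticForm Q) (hk : 5 ≤ k)
    (e : ι ≃ (Fin 2 → Fin k)) (P : GL ι F) {f : (Fin k → F) → (Fin k → F) → F} (hf : IsSymmetricForm f)
    (hT : IsTensorPowerFormStructure id (QuadraticMap.polar Q) f e P) :
    IsMaximalIn (omegaGL Q) (tensorWreathSubgroup k 2 e P ⊓ omegaGL Q) := by
  classical
  obtain ⟨e', he'⟩ : ∃ e' : ι ≃ κ, e' = e.trans (pairFun k).symm := ⟨_, rfl⟩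
  have hT' : IsTensorFormStructure id (QuadraticMap.polar Q) f f e' P := by
    obtain ⟨c, hc, h⟩ := hT
    refine ⟨c, hc, fun x y => ?_⟩
    have hc' : ∀ x : κ → F, (x ∘ (pairFun k).symm) ∘ e = x ∘ e' := fun x => by rw [he']; rfl
    have h' := h (x ∘ (pairFun k).symm) (y ∘ (pairFun k).symm)
    rw [hc', hc'] at h'
    refine h'.trans ?_
    congr 1
    simp only [formOfGram]
    rw [← Equiv.sum_comp (pairFun k)]
    refine Finset.sum_congr rfl fun i _ => ?_
    rw [← Equiv.sum_comp (pairFun k)]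
    refine Finset.sum_congr rfl fun j _ => ?_
    simp [Fin.prod_univ_two, pairFun, kroneckerMap_apply]
  have hN : ∀ g, ((glReindex (F := F) e'.symm).trans (MulAut.conj P)) g ∈ tensorWreathSubgroup k 2 e P ↔
      g ∈ Krs k F := fun g => by
    have heq : glReindex (F := F) e'.symm g = glReindex (F := F) e.symm (glReindex (F := F) (pairFun k) g) := by
      rw [he']; exact Units.ext (Matrix.ext fun _ _ => rfl)
    rw [← std_two, ← OTPow.standard_eq]
    constructor
    · rintro ⟨y, ⟨x, hx, rfl⟩, hy⟩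
      have h : MulAut.conj P (glReindex (F := F) e.symm x) = MulAut.conj P (glReindex (F := F) e'.symm g) := hy
      rw [heq] at h
      rwa [← (glReindex (F := F) e.symm).injective ((MulAut.conj P).injective h)]
    · intro hg
      exact ⟨_, ⟨_, hg, rfl⟩, congrArg (MulAut.conj P) heq.symm⟩
  refine isMaximalIn_gen h2 Q hQ e' P hf hf hT' (by omega) hk (Or.inr (by omega)) (fun h => absurd h (by omega)) _ _ hN
    (fun g hg => Or.inl hg) ?_ fun X C => le_krs_or_par C
  obtain ⟨Qf, rfl, hPND⟩ := ONotMax.exists_qform hQ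
  have hcard : Fintype.card ι = k * k := by simpa using Fintype.card_congr e'
  have h25 : 25 ≤ Fintype.card ι := hcard ▸ Nat.mul_le_mul hk hk
  intro hle
  refine OEven.omega_not_tensor hPND (by omega) (by omega) (by omega) e' P
    (Radical.omega_le_of_siegel hPND (by omega) fun v hv _ h hh => ?_)
  obtain ⟨y, hy, hhx⟩ := hh
  obtain ⟨g, hg, hgx⟩ := ONotMax.exists_siegel hPND (by omega) (e := v) (v := (2 : F)⁻¹ • y) hv
    (by rw [QuadraticMap.polar_smul_right, hy, smul_zero])
  have hvv : QuadraticMap.polar (⇑Qf) v v = 0 := by rw [QuadraticMap.polar_self, hv, nsmul_zero]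
  have hgg : h = g * g := gl_ext_mulVec fun x => by
    rw [hhx, gl_mul_mulVec, hgx, hgx]
    simp only [QuadraticMap.polar_add_right, QuadraticMap.polar_sub_right, QuadraticMap.polar_smul_right,
      QuadraticMap.polar_smul_left, QuadraticMap.map_smul, hvv, hy, QuadraticMap.polar_comm (⇑Qf) y v,
      QuadraticMap.polar_self, smul_eq_mul, nsmul_eq_mul, Nat.cast_ofNat]
    match_scalars <;> field_simp <;> ring
  obtain ⟨g', hg'⟩ := ((glReindex (F := F) e'.symm).trans (MulAut.conj P)).surjective g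
  obtain ⟨a, b, hab⟩ := sq_mem_kr ((hN g').1 (hg' ▸ hle hg))
  rw [hgg, ← hg', ← map_mul, hab]
  exact ⟨_, ⟨_, ⟨a, b, rfl⟩, rfl⟩, rfl⟩

end Cfsg.Agent.Classical.TensorMax.OO
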